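import Cfsg.Agent.H13.O8p
import Cfsg.Agent.H09.SpOrder
import Cfsg.Agent.S0245

/-! The group W(E7) = 2 × Sp6(2): `H13.E7.of_cox`. -/

set_option maxRecDepth 100000
set_option Elab.async false

namespace H13.E7

/-- the Coxeter relators of type E7 -/
def rels : List (List ℕ) := [[0, 0], [0, 1, 0, 1, 0, 1], [0, 2, 0, 2], [0, 3, 0, 3], [0, 4, 0, 4], [0, 5, 0, 5], [0, 6, 0, 6], [1, 1], [1, 2, 1, 2, 1, 2], [1, 3, 1, 3], [1, 4, 1, 4], [1, 5, 1, 5], [1, 6, 1, 6], [2, 2], [2, 3, 2, 3, 2, 3], [2, 4, 2, 4], [2, 5, 2, 5, 2, 5], [2, 6, 2, 6], [3, 3], [3, 4, 3, 4, 3, 4], [3, 5, 3, 5], [3, 6, 3, 6], [4, 4], [4, 5, 4, 5], [4, 6, 4, 6, 4, 6], [5, 5], [5, 6, 5, 6], [6, 6]]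

noncomputable def s0 : Stg :=
  ⟨nat_lit 56, nat_lit 5, nat_lit 5, [mkNet1 (nat_lit 56) (nat_lit 0x100010000000001000120000000100000800000000000080000000000000000000000000000000000000000000800000001000800000000104000c00000102100012102000501000100500),
  mkNet1 (nat_lit 56) (nat_lit 0x4001000000212000001210008000801000400000080000400000000000000800000000000008000000080000084000000880014004008040c01020c000212000001210004000400100010),
  mkNet1 (nat_lit 56) (nat_lit 0x1000444404001020000000000020000000000000000000000000000000000000000000000000000000000000000000000000000000000000080000000000082030111111032010004444040010),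
  mkNet1 (nat_lit 56) (nat_lit 0x14000101400000100121001000000800040200000000040020000000000000000400000000000004000000000000240000008400600000000e000d020c000010012100100010140001014004),
  mkNet1 (nat_lit 56) (nat_lit 0x4001000040400400010000220000000402040800000000200080000000000000002000000000000020000000000000a00000006000c0000000040b040b00002003000022100240010000404004),
  mkNet1 (nat_lit 56) (nat_lit 0x1001050000040020000000001000c0001040006000000d00000000000000000001000000000000010000000c0000010000000d0004000600c00030e0806000100000000013004401050000110),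
  mkNet1 (nat_lit 56) (nat_lit 0x1444404000000000000000000000200050800000000050080000000000000000500000000000005000000000000850000002500d000000002080f0a00000000000000000040014444040001)],
  [nat_lit 0xfa04000000000000009bffd90000e5f09bf026f0589d0bd80fe42f4652ca878e1aac35,
  nat_lit 0xf16800000000000001337ecc8000e01533712016889c03f80ed357c651a3838e1e1a15,
  nat_lit 0xe708000000000000076666a6e000e00766600010e08607f90ff010864937961f07136d,
  nat_lit 0xcfc1200000000000005e81be8280c0005e800001708e00717db00182598b8f414e2e65,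
  nat_lit 0x9fe00000000000001424db242800901424c80007f08e142017a0078829914d710d766b,
  nat_lit 0xf03920000000000006cc8137e000e00fec80001c089026f369301c0652e71e034f18b5,
  nat_lit 0x3fe00000000000001e9200897a80301e9000892ff00e1e020080458c6998a6965ae669],
  nat_lit 0xfffffc00000000f00003fffff8000fe003ffc007f0ce1f03f03f078ca998e38e38e66a,
  [[0], [1], [2], [3], [4], [5], [6]], [[0, 0], [1, 1], [2, 2], [3, 3], [4, 4], [5, 5], [6, 6], [0, 1, 0, 1, 0, 1], [0, 2, 0, 2], [0, 3, 0, 3], [0, 4, 0, 4], [0, 5, 0, 5], [0, 6, 0, 6], [1, 2, 1, 2, 1, 2], [1, 3, 1, 3], [1, 4, 1, 4], [1, 5, 1, 5], [1, 6, 1, 6], [2, 3, 2, 3, 2, 3], [2, 4, 2, 4], [2, 5, 2, 5, 2, 5], [2, 6, 2, 6], [3, 4, 3, 4, 3, 4], [3, 5, 3, 5], [3, 6, 3, 6], [4, 5, 4, 5], [4, 6, 4, 6, 4, 6], [5, 6, 5, 6]], [0, 1, 2, 3, 4, 5], [[(0, 0), (7, 0), (8, 0), (9, 0), (10, 0), (11, 0), (12, 0)], [(1, 0), (7, 1), (13, 0), (14, 0), (15, 0), (16, 0), (17, 0)], [(2, 0), (8, 1),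 (13, 1), (18, 0), (19, 0), (20, 0), (21, 0)], [(3, 0), (14, 1), (18, 1), (22, 0), (23, 0), (24, 0)], [(4, 0), (10, 1), (15, 1), (19, 1), (22, 1), (25, 0), (26, 0)], [(5, 0), (16, 1), (20, 1), (23, 1), (25, 1), (27, 0)], [(6, 0), (17, 1), (21, 1), (24, 1), (26, 1), (27, 1)]]⟩

theorem ok0 : stageOk 0 rels [[0], [1], [2], [3], [4], [5]] s0 = true := by decide +kernel

theorem cardG {G : Type*} [Group G] {gen : ℕ → G} (hI : Inv gen 0) (hR : Rels gen rels) :
    CardLe (clW gen [[0], [1], [2], [3], [4], [5], [6]]) 2903040 :=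
  (O6.cardG hI fun r hr => hR r ((by decide +kernel : ∀ r ∈ O6.rels, r ∈ rels) r hr)).stage hI hR s0 ok0

/-- the tables of seven transvections -/
noncomputable def ev : ℕ → ℕ → ℕ := evS 6 [nat_lit 0xfbff3debbe39df6d74cf2c70bafb2daaba299e69648e286079f71d69b6195d65544d245038f30d28b2091c61440c2040, nat_lit 0xdfed7ccfac78ff6f74ef2e709ee96c8ea868be6b64ae2a605de55c4da4587d67546d26501ce14c0ca0483c63442c2240, nat_lit 0xffef7cefae78d35db7c31cb3b2dbafa29aab9e69648e28607de75c6da65851559741149330d38f20928b1c61440c2040, nat_lit 0xbeef7caeae789e6d748e2c70ffeb6cefaa68df6964cf28603ce75c2ca6581c65540c24507de34c6da2485d61444d2040, nat_lit 0xffef7cefae78df6d74cf2c70a68aeab6cbee8608e29649e66586da75c7de4504d25545d63ce34c2ca2481c61440c2040, nat_lit 0xffe34c2cae78df61440c2c70bee75c6daa689e65544d28607deb6caea6585d69648e24503cef7cefa2481c6d74cf2040, nat_lit 0x7de75cefae785d6554cf2c703ce34caeaa681c61448e2860ffef7c6da658df6d744d2450beeb6c2ca2489e69640c2040]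

theorem ch : chG (evP 2 (evS 1 [1, 1, 1, 1, 1, 1, 1]) ev) 66 5 14 7 [(0, [([0], 2)]),
 (3, [([2, 3, 4, 6, 4, 3, 2, 5, 1, 2, 3, 0, 1, 2, 5, 2, 3, 0, 1, 2], 8), ([0, 1, 2, 3, 4, 6, 4, 3, 2, 5, 1, 2, 3, 0, 1, 2, 5, 3, 0, 1, 2, 0], 2), ([4, 0], 2), ([2, 3, 4, 6, 5, 1, 2, 3, 4, 1, 2, 5, 0, 1, 2, 0], 2), ([1, 2, 5, 0, 1, 2, 3, 4, 2, 5, 1, 2, 3, 0, 1, 2, 5, 2, 3, 0], 2), ([3, 0], 2)]),
 (4, [([5, 2, 3, 4, 1, 2, 3, 0, 1, 2, 5, 0, 1, 2, 3, 1, 2, 0, 1, 0], 6), ([3, 4, 2, 3, 1, 2, 5, 0, 1, 2, 3, 4, 6, 4, 3, 2, 5, 0, 1, 2, 3, 4, 5, 0, 1, 2], 5), ([2, 0], 2), ([3, 0], 2)]),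
 (6, [([1, 2, 5, 0, 1, 2, 3, 4, 2, 5, 1, 2, 3, 0, 1, 2, 5, 2, 3, 0], 4), ([4, 0], 2), ([6, 0], 2), ([4, 0], 2)]),
 (10, [([2, 0], 2), ([4, 0], 2), ([3, 4, 6, 2, 5, 3, 4, 2, 3, 1, 2, 5, 0, 1, 2, 3, 4, 6, 2, 5, 3, 4, 2, 3, 1, 2, 5, 0, 1, 2, 3, 4, 1, 2, 3, 0, 1, 2, 5, 0, 1, 2, 3, 2], 2)]),
 (18, [([3, 4, 2, 3, 1, 2, 5, 0, 1, 2, 3, 4, 6, 1, 2, 5, 3, 4, 2, 3, 1, 2, 5, 0, 1, 2, 3, 4, 5, 2, 3, 1, 2, 5, 0, 1, 2, 3], 2), ([5, 4, 2, 3, 1, 2, 5, 0, 1, 2, 3, 4, 3, 2, 5, 1, 2, 3, 0, 1, 2, 5], 2)]),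
 (34, [([6, 4, 3, 2, 5, 1, 2, 3, 4, 6, 0, 1, 2, 5, 3, 4, 2, 3, 1, 2, 5, 0, 1, 2, 3, 4, 6, 0, 1, 2, 3, 4, 0, 1, 2, 3, 0, 1, 2, 0, 1, 0], 2)])] [] = 2903040 := by decide +kernel

open Subgroup Cfsg

/-- the coordinates -/
abbrev ι := Fin 3 ⊕ Fin 3

/-- the symplectic group -/
abbrev Sp := Matrix.symplecticGroup (Fin 3) (ZMod 2)

/-- the vector with a given code -/
def vc (c : ℕ) : ι → ZMod 2 := fun i => (c / 2 ^ Sum.elim Fin.val (·.val + 3) i % 2 : ℕ)

/-- the matrix of a transvection -/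
def rM (c : ℕ) : Matrix ι ι (ZMod 2) := .of fun i j => (if i = j then 1 else 0) + vc c i * vc c j.swap

/-- a transvection -/
def r (c : ℕ) (h : rM c * Matrix.J (Fin 3) (ZMod 2) * (rM c).transpose = Matrix.J (Fin 3) (ZMod 2)) : Sp := ⟨rM c, SymplecticGroup.mem_iff.2 h⟩

/-- the generators -/
def L : List Sp := [r 1 (by decide +kernel), r 8 (by decide +kernel), r 3 (by decide +kernel), r 16 (by decide +kernel), r 6 (by decide +kernel), r 48 (by decide +kernel), r 32 (by decide +kernel)]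

theorem sm : Sm 64 ev [1, 2, 4, 8, 16, 32] (L.getD · 1) vc :=
  .ofList _ rfl (by decide +kernel) (by decide +kernel) (by decide) fun g h => Subtype.ext (Matrix.ext fun i j => by
    obtain ⟨b, p, q⟩ := (by decide +kernel : ∀ j : ι, ∃ b ∈ [1, 2, 4, 8, 16, 32], vc b = Pi.single j 1) j
    have := congrFun (q ▸ h b p) i
    simpa [Pi.single_apply, Matrix.one_apply, Submonoid.smul_def] using this)

theorem sg : Sm 2 (evS 1 [1, 1, 1, 1, 1, 1, 1]) [0] ((List.replicate 7 (Multiplicative.ofAdd (1 : ZMod 2))).getD · 1)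
    fun i => Multiplicative.ofAdd (i : ZMod 2) :=
  .ofList _ rfl (by decide) (by decide +kernel) (by decide) fun _ h => by simpa using h 0 (by decide)

theorem card : Nat.card Sp = 1451520 := Agent.S0245.result (F := ZMod 2) rfl 3

theorem psp : Nonempty (Sp ≃* PSp 3 (ZMod 2)) :=
  ⟨.ofBijective (QuotientGroup.mk' _) ((QuotientGroup.mk'_surjective _).bijective_of_nat_card_le
    ((H09.card_PSp_mul (m := 3) (by decide) (ZMod 2)).symm.trans (one_mul _)).le)⟩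

theorem of_cox {G : Type*} [Group G] {g : ℕ → G} (I : Inv g 0) (hR : Rels g rels) (hc : 2903040 ≤ Nat.card (tl g 7 0)) :
    Nonempty (tl g 7 0 ≃* Multiplicative (ZMod 2) × PSp 3 (ZMod 2)) := by
  have S := sg.prod sm
  have R := S.evl.rels S.base (rs := rels) (by decide +kernel)
  have c : Nat.card (Multiplicative (ZMod 2) × Sp) = 2903040 := by rw [Nat.card_prod, card]; simp
  rw [← O8.tlr] at hc ⊢
  obtain ⟨ψ, h⟩ := exists_hom_pair (cardG (I.pair (inv_of_rels (m := 7) (fun _ h => Prod.ext (List.getD_eq_default _ _ h) (List.getD_eq_default _ _ h))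
    (by decide) R (by decide +kernel))) (hR.pair R)) hc
  have := (cardG I hR).1
  obtain ⟨e⟩ := psp
  exact ⟨(MulEquiv.ofBijective ψ ((MonoidHom.range_eq_top.1 ((range_of_pair h).trans (eq_top_of_le_card _ (c.le.trans
    ((ch.ge.trans (S.card_ge (by decide) _)).trans_eq (congrArg (fun H : Subgroup (_ × Sp) => Nat.card H) (O8.tlr _ 7).symm)))))).bijective_of_nat_card_le
      (c ▸ (cardG I hR).2))).trans ((MulEquiv.refl _).prodCongr e)⟩

end H13.E7
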