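import Cfsg.Agent.H13.F24C0
import Cfsg.Agent.H13.F24C1
import Cfsg.Agent.H13.F24C2
import Cfsg.Agent.H13.F24C3
import Cfsg.Agent.H13.F24C4
import Cfsg.Agent.H13.F24C5
import Cfsg.Agent.H13.Fi23D

/-! Checks for Fi24. -/

set_option maxRecDepth 100000
set_option Elab.async false

namespace H13.F24

theorem blk0 : blkOk (nat_lit 306936) (nat_lit 19) 1 31671 (nth nets 0) (nth Fi23.nets 0) = true := by decide +kernel

theorem blk1 : blkOk (nat_lit 306936) (nat_lit 19) 1 31671 (nth nets 1) (nth Fi23.nets 1) = true := by decide +kernel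

theorem blk2 : blkOk (nat_lit 306936) (nat_lit 19) 1 31671 (nth nets 2) (nth Fi23.nets 2) = true := by decide +kernel

theorem blk3 : blkOk (nat_lit 306936) (nat_lit 19) 1 31671 (nth nets 3) (nth Fi23.nets 3) = true := by decide +kernel

theorem blk4 : blkOk (nat_lit 306936) (nat_lit 19) 1 31671 (nth nets 4) (nth Fi23.nets 4) = true := by decide +kernel

theorem blk5 : blkOk (nat_lit 306936) (nat_lit 19) 1 31671 (nth nets 5) (nth Fi23.nets 5) = true := by decide +kernel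

theorem blk6 : blkOk (nat_lit 306936) (nat_lit 19) 1 31671 (nth nets 6) (nth Fi23.nets 6) = true := by decide +kernel

theorem blk7 : blkOk (nat_lit 306936) (nat_lit 19) 1 31671 (nth nets 7) (nth Fi23.nets 7) = true := by decide +kernel

theorem blk8 : blkOk (nat_lit 306936) (nat_lit 19) 1 31671 (nth nets 8) (nth Fi23.nets 8) = true := by decide +kernel

theorem blk9 : blkOk (nat_lit 306936) (nat_lit 19) 1 31671 (nth nets 9) (nth Fi23.nets 9) = true := by decide +kernel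

theorem ded7_3 : dedOk (nat_lit 306936) (nat_lit 7) nets Es rs (nat_lit 13) (nat_lit 7) [(80, 4)] u7_3 = true :=
  dedOk_split (by decide +kernel) pm7_3_0 pe7_3

theorem ded10_1 : dedOk (nat_lit 306936) (nat_lit 7) nets Es rs (nat_lit 13) (nat_lit 10) [(81, 10)] u10_1 = true :=
  dedOk_split (by decide +kernel) (pm_app pm10_1_0 pm10_1_1) pe10_1

theorem ded12_1 : dedOk (nat_lit 306936) (nat_lit 7) nets Es rs (nat_lit 13) (nat_lit 12) [(82, 71)] u12_1 = true :=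
  dedOk_split (by decide +kernel) (pm_app pm12_1_0 pm12_1_1) pe12_1

theorem cos : CosOk 306936 nets rs [0, 1, 2, 3, 4, 5, 6, 7, 8, 9, 11, 12] 13 :=
  ⟨by decide, _, _, _, _, disj, fun x hx => by
    interval_cases x
    exacts [⟨(band_eq_true.1 tree0).1, [u0_0, u0_1, u0_2], List.forall_mem_cons.2 ⟨⟨_, ded0_0⟩, List.forall_mem_cons.2 ⟨⟨_, ded0_1⟩, List.forall_mem_cons.2 ⟨⟨_, ded0_2⟩, fun _ h => absurd h List.not_mem_nil⟩⟩⟩, (band_eq_true.1 tree0).2⟩,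
      ⟨(band_eq_true.1 tree1).1, [u1_0, u1_1, u1_2], List.forall_mem_cons.2 ⟨⟨_, ded1_0⟩, List.forall_mem_cons.2 ⟨⟨_, ded1_1⟩, List.forall_mem_cons.2 ⟨⟨_, ded1_2⟩, fun _ h => absurd h List.not_mem_nil⟩⟩⟩, (band_eq_true.1 tree1).2⟩,
      ⟨(band_eq_true.1 tree2).1, [u2_0, u2_1, u2_2], List.forall_mem_cons.2 ⟨⟨_, ded2_0⟩, List.forall_mem_cons.2 ⟨⟨_, ded2_1⟩, List.forall_mem_cons.2 ⟨⟨_, ded2_2⟩, fun _ h => absurd h List.not_mem_nil⟩⟩⟩, (band_eq_true.1 tree2).2⟩,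
      ⟨(band_eq_true.1 tree3).1, [u3_0, u3_1, u3_2], List.forall_mem_cons.2 ⟨⟨_, ded3_0⟩, List.forall_mem_cons.2 ⟨⟨_, ded3_1⟩, List.forall_mem_cons.2 ⟨⟨_, ded3_2⟩, fun _ h => absurd h List.not_mem_nil⟩⟩⟩, (band_eq_true.1 tree3).2⟩,
      ⟨(band_eq_true.1 tree4).1, [u4_0, u4_1, u4_2], List.forall_mem_cons.2 ⟨⟨_, ded4_0⟩, List.forall_mem_cons.2 ⟨⟨_, ded4_1⟩, List.forall_mem_cons.2 ⟨⟨_, ded4_2⟩, fun _ h => absurd h List.not_mem_nil⟩⟩⟩, (band_eq_true.1 tree4).2⟩,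
      ⟨(band_eq_true.1 tree5).1, [u5_0, u5_1, u5_2], List.forall_mem_cons.2 ⟨⟨_, ded5_0⟩, List.forall_mem_cons.2 ⟨⟨_, ded5_1⟩, List.forall_mem_cons.2 ⟨⟨_, ded5_2⟩, fun _ h => absurd h List.not_mem_nil⟩⟩⟩, (band_eq_true.1 tree5).2⟩,
      ⟨(band_eq_true.1 tree6).1, [u6_0, u6_1, u6_2], List.forall_mem_cons.2 ⟨⟨_, ded6_0⟩, List.forall_mem_cons.2 ⟨⟨_, ded6_1⟩, List.forall_mem_cons.2 ⟨⟨_, ded6_2⟩, fun _ h => absurd h List.not_mem_nil⟩⟩⟩, (band_eq_true.1 tree6).2⟩,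
      ⟨(band_eq_true.1 tree7).1, [u7_0, u7_1, u7_2, u7_3], List.forall_mem_cons.2 ⟨⟨_, ded7_0⟩, List.forall_mem_cons.2 ⟨⟨_, ded7_1⟩, List.forall_mem_cons.2 ⟨⟨_, ded7_2⟩, List.forall_mem_cons.2 ⟨⟨_, ded7_3⟩, fun _ h => absurd h List.not_mem_nil⟩⟩⟩⟩, (band_eq_true.1 tree7).2⟩,
      ⟨(band_eq_true.1 tree8).1, [u8_0, u8_1, u8_2], List.forall_mem_cons.2 ⟨⟨_, ded8_0⟩, List.forall_mem_cons.2 ⟨⟨_, ded8_1⟩, List.forall_mem_cons.2 ⟨⟨_, ded8_2⟩, fun _ h => absurd h List.not_mem_nil⟩⟩⟩, (band_eq_true.1 tree8).2⟩,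
      ⟨(band_eq_true.1 tree9).1, [u9_0, u9_1, u9_2], List.forall_mem_cons.2 ⟨⟨_, ded9_0⟩, List.forall_mem_cons.2 ⟨⟨_, ded9_1⟩, List.forall_mem_cons.2 ⟨⟨_, ded9_2⟩, fun _ h => absurd h List.not_mem_nil⟩⟩⟩, (band_eq_true.1 tree9).2⟩,
      ⟨(band_eq_true.1 tree10).1, [u10_0, u10_1], List.forall_mem_cons.2 ⟨⟨_, ded10_0⟩, List.forall_mem_cons.2 ⟨⟨_, ded10_1⟩, fun _ h => absurd h List.not_mem_nil⟩⟩, (band_eq_true.1 tree10).2⟩,
      ⟨(band_eq_true.1 tree11).1, [u11_0, u11_1, u11_2], List.forall_mem_cons.2 ⟨⟨_, ded11_0⟩, List.forall_mem_cons.2 ⟨⟨_, ded11_1⟩, List.forall_mem_cons.2 ⟨⟨_, ded11_2⟩, fun _ h => absurd h List.not_mem_nil⟩⟩⟩, (band_eq_true.1 tree11).2⟩,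
      ⟨(band_eq_true.1 tree12).1, [u12_0, u12_1], List.forall_mem_cons.2 ⟨⟨_, ded12_0⟩, List.forall_mem_cons.2 ⟨⟨_, ded12_1⟩, fun _ h => absurd h List.not_mem_nil⟩⟩, (band_eq_true.1 tree12).2⟩]⟩

theorem rA : ∀ k < 19, relK 306936 nets pA k = true := fun k hk => by
    interval_cases k
    exacts [rA0, rA1, rA2, rA3, rA4, rA5, rA6, rA7, rA8, rA9, rA10, rA11, rA12, rA13, rA14, rA15, rA16, rA17, rA18]

theorem rB : ∀ k < 19, relK 306936 nets pB k = true := fun k hk => by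
    interval_cases k
    exacts [rB0, rB1, rB2, rB3, rB4, rB5, rB6, rB7, rB8, rB9, rB10, rB11, rB12, rB13, rB14, rB15, rB16, rB17, rB18]

theorem tb : ∀ l < 16, band ((tabs.getD l (.leaf 0)).sz 19 307200) (allLt (tabK 306936 307200 nets [l] (tabs.getD l (.leaf 0))) 19) = true := fun k hk => by
    interval_cases k
    exacts [tb0, tb1, tb2, tb3, tb4, tb5, tb6, tb7, tb8, tb9, tb10, tb11, tb12, tb13, tb14, tb15]

end H13.F24
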