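import Cfsg.Agent.H13.F24N0
import Cfsg.Agent.H13.F24N1
import Cfsg.Agent.H13.F24N2
import Cfsg.Agent.H13.F24N3
import Cfsg.Agent.H13.F24N4
import Cfsg.Agent.H13.F24N5
import Cfsg.Agent.H13.F24N6
import Cfsg.Agent.H13.F24N7
import Cfsg.Agent.H13.F24T0
import Cfsg.Agent.H13.F24T1
import Cfsg.Agent.H13.F24T2
import Cfsg.Agent.H13.F24T3
import Cfsg.Agent.H13.F24E0
import Cfsg.Agent.H13.F24E1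
import Cfsg.Agent.H13.F24E2
import Cfsg.Agent.H13.Big2

/-! The networks, tables and relators of Fi24. -/

set_option maxRecDepth 100000
set_option Elab.async false

namespace H13.F24

noncomputable def nets : List Net := [n0, n1, n2, n3, n4, n5, n6, n7, n8, n9, n10, n11, n12, n13, n14, n15]

noncomputable def tabs : List Tb := [t0, t1, t2, t3, t4, t5, t6, t7, t8, t9, t10, t11, t12, t13, t14, t15]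

noncomputable def Es : List ℕ := [e0, e1, e2, e3, e4, e5, e6, e7, e8, e9, e10, e11, e12]

def rs : List (List ℕ) := [[0, 0], [1, 1], [2, 2], [3, 3], [4, 4], [5, 5], [6, 6], [7, 7], [8, 8], [9, 9], [10, 10], [11, 11], [12, 12], [0, 1, 0, 1, 0, 1], [0, 2, 0, 2], [0, 3, 0, 3], [0, 4, 0, 4], [0, 5, 0, 5], [0, 6, 0, 6], [0, 7, 0, 7], [0, 8, 0, 8], [0, 9, 0, 9], [0, 10, 0, 10, 0, 10], [0, 11, 0, 11], [1, 2, 1, 2, 1, 2], [1, 3, 1, 3], [1, 4, 1, 4], [1, 5, 1, 5], [1, 6, 1, 6], [1, 7, 1, 7], [1, 8, 1, 8], [1, 9, 1, 9], [1, 10, 1, 10], [1, 11, 1, 11], [2, 3, 2, 3, 2, 3], [2, 4, 2, 4], [2, 5, 2, 5], [2, 6, 2, 6], [2, 7, 2, 7], [2, 8, 2, 8], [2, 9, 2, 9], [2, 10, 2, 10], [2, 11, 2, 11], [3, 4, 3, 4, 3, 4], [3, 5, 3, 5], [3, 6, 3, 6], [3, 7, 3, 7, 3, 7], [3, 8, 3, 8], [3,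 9, 3, 9], [3, 10, 3, 10], [3, 11, 3, 11], [4, 5, 4, 5, 4, 5], [4, 6, 4, 6], [4, 7, 4, 7], [4, 8, 4, 8], [4, 9, 4, 9], [4, 10, 4, 10], [4, 11, 4, 11], [5, 6, 5, 6, 5, 6], [5, 7, 5, 7], [5, 8, 5, 8], [5, 9, 5, 9], [5, 10, 5, 10], [5, 11, 5, 11], [6, 7, 6, 7], [6, 8, 6, 8], [6, 9, 6, 9, 6, 9], [6, 10, 6, 10], [6, 11, 6, 11], [7, 8, 7, 8, 7, 8], [7, 9, 7, 9], [7, 10, 7, 10], [7, 11, 7, 11], [8, 9, 8, 9], [8, 10, 8, 10], [8, 11, 8, 11], [9, 10, 9, 10], [9, 11, 9, 11], [10, 11, 10, 11, 10, 11], [10, 12, 10, 12], [1, 2, 3, 4, 7, 3, 2, 1, 8, 7, 3, 2, 4, 3, 5, 4, 7, 3, 2, 1, 8, 7, 3, 2, 4, 3, 5, 4, 7, 3, 2, 1, 8, 7, 3, 2, 4, 3, 5, 4, 7, 3, 2, 8, 7, 3, 4, 5], [0, 1, 2, 3, 4, 7, 3, 2, 1, 0, 10, 0, 1, 2, 3, 4, 5, 7, 3, 2, 1, 0, 4, 3, 2, 1, 7, 3, 2, 4, 3, 5, 4, 7, 3, 2, 1,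 0, 10, 11, 10, 0, 1, 2, 3, 4, 5, 7, 3, 2, 1, 4, 3, 2, 7, 3, 4, 5], [0, 1, 2, 3, 4, 5, 6, 7, 3, 2, 1, 4, 3, 5, 8, 7, 3, 2, 1, 0, 4, 3, 2, 1, 5, 4, 7, 3, 2, 8, 7, 3, 4, 5, 6, 9, 6, 5, 4, 3, 2, 1, 0, 7, 3, 2, 1, 4, 3, 5, 8, 7, 3, 2, 1, 4, 3, 2, 5, 4, 6, 5, 7, 3, 4, 8, 7, 3, 2, 1, 0, 12]]

def pA : List (List ℕ × List ℕ) := [([0, 0], []), ([1, 1], []), ([2, 2], []), ([3, 3], []), ([4, 4], []), ([5, 5], []), ([6, 6], []), ([7, 7], []), ([8, 8], []), ([9, 9], []), ([10, 10], []), ([11, 11], []), ([12, 12], []), ([0, 1, 0], [1, 0, 1]), ([0, 2], [2, 0]), ([0, 3], [3, 0]), ([0, 4], [4, 0]), ([0, 5], [5, 0]), ([0, 6], [6, 0]), ([0, 7], [7, 0]), ([0, 8], [8, 0]), ([0, 9], [9, 0]), ([0, 10, 0], [10, 0, 10]), ([0, 11], [11, 0]), ([1, 2, 1], [2, 1, 2]), ([1, 3], [3, 1]), ([1,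 4], [4, 1]), ([1, 5], [5, 1]), ([1, 6], [6, 1]), ([1, 7], [7, 1]), ([1, 8], [8, 1]), ([1, 9], [9, 1]), ([1, 10], [10, 1]), ([1, 11], [11, 1]), ([2, 3, 2], [3, 2, 3]), ([2, 4], [4, 2]), ([2, 5], [5, 2]), ([2, 6], [6, 2]), ([2, 7], [7, 2]), ([2, 8], [8, 2]), ([2, 9], [9, 2]), ([2, 10], [10, 2]), ([2, 11], [11, 2]), ([3, 4, 3], [4, 3, 4]), ([3, 5], [5, 3]), ([3, 6], [6, 3]), ([3, 7, 3], [7, 3, 7]), ([3, 8], [8, 3]), ([3, 9], [9, 3]), ([3, 10], [10, 3]), ([3, 11], [11, 3]), ([4, 5, 4], [5, 4, 5]), ([4, 6], [6, 4]), ([4, 7], [7, 4]), ([4, 8], [8, 4]), ([4, 9], [9, 4]), ([4, 10], [10, 4]), ([4, 11], [11, 4]), ([5, 6, 5], [6, 5, 6]), ([5, 7], [7, 5]), ([5, 8], [8, 5]), ([5, 9], [9, 5]), ([5, 10], [10, 5]), ([5, 11], [11, 5]), ([6, 7], [7, 6]), ([6, 8], [8, 6]), ([6, 9,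 6], [9, 6, 9]), ([6, 10], [10, 6]), ([6, 11], [11, 6]), ([7, 8, 7], [8, 7, 8]), ([7, 9], [9, 7]), ([7, 10], [10, 7]), ([7, 11], [11, 7]), ([8, 9], [9, 8]), ([8, 10], [10, 8]), ([8, 11], [11, 8]), ([9, 10], [10, 9]), ([9, 11], [11, 9]), ([10, 11, 10], [11, 10, 11]), ([10, 12], [12, 10]), ([13, 4, 1, 12, 10], [4, 1, 12, 10, 0]), ([14, 2, 1, 13, 3], [2, 1, 13, 3, 2]), ([15, 13, 6, 5, 4], [13, 6, 5, 4, 3]), ([13, 13], []), ([14, 14], []), ([15, 15], [])]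

def pB : List (List ℕ × List ℕ) := [([1, 2, 3, 4, 7, 3, 2, 1, 8, 7, 3, 2, 4, 3, 5, 4, 7, 3, 2, 1, 8, 7, 3, 2], [5, 4, 3, 7, 8, 2, 3, 7, 4, 5, 3, 4, 2, 3, 7, 8, 1, 2, 3, 7, 4, 5, 3, 4]), ([0, 1, 2, 3, 4, 7, 3, 2, 1, 0, 10, 0, 1, 2, 3, 4, 5, 7, 3, 2, 1, 0, 4, 3, 2, 1, 7, 3, 2], [5, 4, 3, 7, 2, 3, 4, 1, 2, 3, 7, 5, 4, 3, 2, 1, 0, 10, 11, 10, 0, 1, 2, 3, 7, 4, 5, 3, 4]), ([0, 1, 2, 3, 4, 5, 6, 7, 3, 2, 1, 4, 3, 5, 8, 7, 3, 2, 1, 0, 4, 3, 2, 1, 5, 4, 7, 3, 2, 8, 7, 3, 4, 5, 6, 9], [12, 0, 1, 2, 3, 7, 8, 4, 3, 7, 5, 6, 4, 5, 2, 3, 4, 1, 2, 3, 7, 8, 5, 3, 4, 1, 2, 3, 7, 0, 1, 2, 3, 4, 5, 6])]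

theorem hok : allL (Net.ok 1 306936) nets = true := by decide +kernel

end H13.F24
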