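import Cfsg.Agent.H13.Fi23D
import Cfsg.Agent.H13.Fi22
import Cfsg.Agent.H13.Big

/-! Checks for the action of Fi23 on 31671 points. -/

set_option maxRecDepth 100000
set_option Elab.async false

namespace H13.Fi23

def rels : List (List ℕ) := [[0, 0], [0, 1, 0, 1, 0, 1], [0, 2, 0, 2], [0, 3, 0, 3], [0, 4, 0, 4], [0, 5, 0, 5], [0, 6, 0, 6], [0, 7, 0, 7], [0, 8, 0, 8], [0, 9, 0, 9], [1, 1], [1, 2, 1, 2, 1, 2], [1, 3, 1, 3], [1, 4, 1, 4], [1, 5, 1, 5], [1, 6, 1, 6], [1, 7, 1, 7], [1, 8, 1, 8], [1, 9, 1, 9], [2, 2], [2, 3, 2, 3, 2, 3], [2, 4, 2, 4], [2, 5, 2, 5], [2, 6, 2, 6], [2, 7, 2, 7], [2, 8, 2, 8], [2, 9, 2, 9], [3, 3], [3, 4, 3, 4, 3, 4], [3, 5, 3, 5], [3, 6, 3, 6], [3, 7, 3, 7, 3, 7], [3, 8, 3, 8], [3, 9, 3, 9], [4, 4], [4, 5, 4, 5, 4, 5], [4, 6, 4, 6], [4, 7, 4, 7], [4, 8, 4, 8], [4, 9, 4, 9], [5, 5], [5, 6, 5, 6, 5, 6], [5, 7, 5, 7], [5, 8, 5, 8], [5, 9, 5, 9], [6, 6], [6, 7,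 6, 7], [6, 8, 6, 8], [6, 9, 6, 9, 6, 9], [7, 7], [7, 8, 7, 8, 7, 8], [7, 9, 7, 9], [8, 8], [8, 9, 8, 9], [9, 9], [3, 2, 1, 3, 4, 5, 3, 7, 8, 3, 2, 1, 3, 4, 5, 3, 7, 8, 3, 2, 1, 3, 4, 5, 3, 7, 8, 3, 2, 1, 3, 4, 5, 3, 7, 8, 3, 2, 1, 3, 4, 5, 3, 7, 8, 3, 2, 1, 3, 4, 5, 3, 7, 8, 3, 2, 1, 3, 4, 5, 3, 7, 8, 3, 2, 1, 3, 4, 5, 3, 7, 8, 3, 2, 1, 3, 4, 5, 3, 7, 8, 3, 2, 1, 3, 4, 5, 3, 7, 8], [0, 1, 2, 3, 4, 5, 7, 0, 1, 2, 3, 4, 5, 7, 0, 1, 2, 3, 4, 5, 7, 0, 1, 2, 3, 4, 5, 7, 0, 1, 2, 3, 4, 5, 7, 0, 1, 2, 3, 4, 5, 7, 0, 1, 2, 3, 4, 5, 7, 0, 1, 2, 3, 4, 5, 7, 0, 1, 2, 3, 4, 5, 7]]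

theorem hok : allL (Net.ok 1 31671) nets = true := by decide +kernel

theorem disj : disjOk (nat_lit 31671) (nat_lit 6) Es (nat_lit 10) = true := by decide +kernel

theorem let0 : letOk (nat_lit 31671) (nat_lit 6) (nat_lit 6) nets Es D rs [0, 1, 2, 3, 4, 5, 6, 7, 8] (nat_lit 10) (nat_lit 0) [(0, 0), (11, 0), (12, 0), (13, 0), (14, 0), (15, 0), (16, 0), (17, 0), (18, 0), (19, 0)] = true := by decide +kernel

theorem let1 : letOk (nat_lit 31671) (nat_lit 6) (nat_lit 6) nets Es D rs [0, 1, 2, 3, 4, 5, 6, 7, 8] (nat_lit 10) (nat_lit 1) [(1, 0), (11, 1), (20, 0), (21, 0), (22, 0), (23, 0), (24, 0), (25, 0), (26, 0), (27, 0)] = true := by decide +kernel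

theorem let2 : letOk (nat_lit 31671) (nat_lit 6) (nat_lit 6) nets Es D rs [0, 1, 2, 3, 4, 5, 6, 7, 8] (nat_lit 10) (nat_lit 2) [(2, 0), (12, 1), (20, 1), (28, 0), (29, 0), (30, 0), (31, 0), (32, 0), (33, 0), (34, 0)] = true := by decide +kernel

theorem let3 : letOk (nat_lit 31671) (nat_lit 6) (nat_lit 6) nets Es D rs [0, 1, 2, 3, 4, 5, 6, 7, 8] (nat_lit 10) (nat_lit 3) [(3, 0), (13, 1), (21, 1), (28, 1), (35, 0), (36, 0), (37, 0), (38, 0), (39, 0), (40, 0)] = true := by decide +kernel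

theorem let4 : letOk (nat_lit 31671) (nat_lit 6) (nat_lit 6) nets Es D rs [0, 1, 2, 3, 4, 5, 6, 7, 8] (nat_lit 10) (nat_lit 4) [(4, 0), (14, 1), (22, 1), (29, 1), (35, 1), (41, 0), (42, 0), (43, 0), (44, 0), (45, 0)] = true := by decide +kernel

theorem let5 : letOk (nat_lit 31671) (nat_lit 6) (nat_lit 6) nets Es D rs [0, 1, 2, 3, 4, 5, 6, 7, 8] (nat_lit 10) (nat_lit 5) [(5, 0), (10, 47), (23, 1), (30, 1), (36, 1), (46, 0), (47, 0), (48, 0), (49, 0)] = true := by decide +kernel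

theorem let6 : letOk (nat_lit 31671) (nat_lit 6) (nat_lit 6) nets Es D rs [0, 1, 2, 3, 4, 5, 6, 7, 8] (nat_lit 10) (nat_lit 6) [(6, 0), (16, 1), (24, 1), (31, 1), (37, 1), (42, 1), (46, 1), (50, 0), (51, 0), (52, 0)] = true := by decide +kernel

theorem let7 : letOk (nat_lit 31671) (nat_lit 6) (nat_lit 6) nets Es D rs [0, 1, 2, 3, 4, 5, 6, 7, 8] (nat_lit 10) (nat_lit 7) [(7, 0), (25, 1), (32, 1), (38, 1), (43, 1), (47, 1), (50, 1), (54, 0)] = true := by decide +kernel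

theorem let8 : letOk (nat_lit 31671) (nat_lit 6) (nat_lit 6) nets Es D rs [0, 1, 2, 3, 4, 5, 6, 7, 8] (nat_lit 10) (nat_lit 8) [(8, 0), (10, 8), (26, 1), (33, 1), (39, 1), (44, 1), (48, 1), (51, 1), (53, 1), (55, 0)] = true := by decide +kernel

theorem let9 : letOk (nat_lit 31671) (nat_lit 6) (nat_lit 6) nets Es D rs [0, 1, 2, 3, 4, 5, 6, 7, 8] (nat_lit 10) (nat_lit 9) [(9, 0), (27, 1), (34, 1), (40, 1), (45, 1), (49, 1), (52, 1), (54, 1)] = true := by decide +kernel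

theorem rel_0 : relsOk (nat_lit 31671) (nat_lit 15) nets [[0, 0], [0, 1, 0, 1, 0, 1], [0, 2, 0, 2], [0, 3, 0, 3], [0, 4, 0, 4], [0, 5, 0, 5], [0, 6, 0, 6], [0, 7, 0, 7], [0, 8, 0, 8], [0, 9, 0, 9], [1, 1]] = true := by decide +kernel

theorem rel_1 : relsOk (nat_lit 31671) (nat_lit 15) nets [[1, 2, 1, 2, 1, 2], [1, 3, 1, 3], [1, 4, 1, 4], [1, 5, 1, 5], [1, 6, 1, 6], [1, 7, 1, 7], [1, 8, 1, 8], [1, 9, 1, 9], [2, 2], [2, 3, 2, 3, 2, 3], [2, 4, 2, 4]] = true := by decide +kernel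

theorem rel_2 : relsOk (nat_lit 31671) (nat_lit 15) nets [[2, 5, 2, 5], [2, 6, 2, 6], [2, 7, 2, 7], [2, 8, 2, 8], [2, 9, 2, 9], [3, 3], [3, 4, 3, 4, 3, 4], [3, 5, 3, 5], [3, 6, 3, 6], [3, 7, 3, 7, 3, 7], [3, 8, 3, 8]] = true := by decide +kernel

theorem rel_3 : relsOk (nat_lit 31671) (nat_lit 15) nets [[3, 9, 3, 9], [4, 4], [4, 5, 4, 5, 4, 5], [4, 6, 4, 6], [4, 7, 4, 7], [4, 8, 4, 8], [4, 9, 4, 9], [5, 5], [5, 6, 5, 6, 5, 6], [5, 7, 5, 7], [5, 8, 5, 8]] = true := by decide +kernel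

theorem rel_4 : relsOk (nat_lit 31671) (nat_lit 15) nets [[5, 9, 5, 9], [6, 6], [6, 7, 6, 7], [6, 8, 6, 8], [6, 9, 6, 9, 6, 9], [7, 7], [7, 8, 7, 8, 7, 8], [7, 9, 7, 9], [8, 8], [8, 9, 8, 9], [9, 9]] = true := by decide +kernel

theorem rel_5 : relsOk (nat_lit 31671) (nat_lit 15) nets [[3, 2, 1, 3, 4, 5, 3, 7, 8, 3, 2, 1, 3, 4, 5, 3, 7, 8, 3, 2, 1, 3, 4, 5, 3, 7, 8, 3, 2, 1, 3, 4, 5, 3, 7, 8, 3, 2, 1, 3, 4, 5, 3, 7, 8, 3, 2, 1, 3, 4, 5, 3, 7, 8, 3, 2, 1, 3, 4, 5, 3, 7, 8, 3, 2, 1, 3, 4, 5, 3, 7, 8, 3, 2, 1, 3, 4, 5, 3, 7, 8, 3, 2, 1, 3, 4, 5, 3, 7, 8]] = true := by decide +kernel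

theorem rel_6 : relsOk (nat_lit 31671) (nat_lit 15) nets [[0, 1, 2, 3, 4, 5, 7, 0, 1, 2, 3, 4, 5, 7, 0, 1, 2, 3, 4, 5, 7, 0, 1, 2, 3, 4, 5, 7, 0, 1, 2, 3, 4, 5, 7, 0, 1, 2, 3, 4, 5, 7, 0, 1, 2, 3, 4, 5, 7, 0, 1, 2, 3, 4, 5, 7, 0, 1, 2, 3, 4, 5, 7]] = true := by decide +kernel

theorem rel_7 : relsOk (nat_lit 31671) (nat_lit 15) nets [[1, 2, 3, 4, 7, 3, 2, 1, 8, 7, 3, 2, 4, 3, 5, 4, 7, 3, 2, 1, 8, 7, 3, 2, 4, 3, 5, 4, 7, 3, 2, 1, 8, 7, 3, 2, 4, 3, 5, 4, 7, 3, 2, 8, 7, 3, 4, 5]] = true := by decide +kernel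

theorem cos : CosOk 31671 nets rs [0, 1, 2, 3, 4, 5, 6, 7, 8] 10 :=
  ⟨by decide, _, _, _, _, disj, fun x hx => by
    interval_cases x
    exacts [LetOk.of_ok let0,
      LetOk.of_ok let1,
      LetOk.of_ok let2,
      LetOk.of_ok let3,
      LetOk.of_ok let4,
      LetOk.of_ok let5,
      LetOk.of_ok let6,
      LetOk.of_ok let7,
      LetOk.of_ok let8,
      LetOk.of_ok let9]⟩

theorem relAll : Rels (perm1 31671 nets hok) [[0, 0], [0, 1, 0, 1, 0, 1], [0, 2, 0, 2], [0, 3, 0, 3], [0, 4, 0, 4], [0, 5, 0, 5], [0, 6, 0, 6], [0, 7, 0, 7], [0, 8, 0, 8], [0, 9, 0, 9], [1, 1], [1, 2, 1, 2, 1, 2], [1, 3, 1, 3], [1, 4, 1, 4], [1, 5, 1, 5], [1, 6, 1, 6], [1, 7, 1, 7], [1, 8, 1, 8], [1, 9, 1, 9], [2, 2], [2, 3, 2, 3, 2, 3], [2, 4, 2, 4], [2, 5, 2, 5], [2, 6, 2, 6], [2, 7, 2, 7], [2, 8, 2, 8], [2, 9, 2, 9], [3, 3], [3, 4, 3, 4, 3, 4], [3, 5, 3, 5], [3, 6, 3, 6], [3, 7, 3, 7, 3, 7], [3, 8, 3,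 8], [3, 9, 3, 9], [4, 4], [4, 5, 4, 5, 4, 5], [4, 6, 4, 6], [4, 7, 4, 7], [4, 8, 4, 8], [4, 9, 4, 9], [5, 5], [5, 6, 5, 6, 5, 6], [5, 7, 5, 7], [5, 8, 5, 8], [5, 9, 5, 9], [6, 6], [6, 7, 6, 7], [6, 8, 6, 8], [6, 9, 6, 9, 6, 9], [7, 7], [7, 8, 7, 8, 7, 8], [7, 9, 7, 9], [8, 8], [8, 9, 8, 9], [9, 9], [3, 2, 1, 3, 4, 5, 3, 7, 8, 3, 2, 1, 3, 4, 5, 3, 7, 8, 3, 2, 1, 3, 4, 5, 3, 7, 8, 3, 2, 1, 3, 4, 5, 3, 7, 8, 3, 2, 1, 3, 4, 5, 3, 7, 8, 3, 2, 1, 3, 4, 5, 3, 7, 8, 3, 2, 1, 3, 4, 5, 3, 7, 8, 3, 2, 1, 3, 4, 5, 3, 7, 8, 3, 2, 1, 3, 4, 5, 3, 7, 8, 3, 2, 1, 3, 4, 5, 3, 7, 8], [0, 1, 2, 3, 4, 5, 7, 0, 1, 2, 3, 4, 5, 7, 0, 1, 2, 3, 4, 5, 7, 0, 1, 2, 3, 4, 5, 7, 0, 1, 2, 3, 4, 5, 7, 0, 1, 2, 3, 4, 5, 7, 0, 1, 2, 3, 4, 5, 7, 0, 1, 2, 3, 4, 5, 7, 0, 1, 2, 3, 4, 5, 7], [1, 2, 3, 4, 7, 3, 2, 1, 8, 7, 3, 2, 4, 3, 5, 4, 7, 3, 2, 1, 8, 7, 3, 2, 4, 3, 5, 4, 7, 3, 2, 1, 8, 7, 3, 2, 4, 3, 5, 4, 7, 3, 2, 8,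 7, 3, 4, 5]] :=
  (((((((((sys_perm1 31671 nets hok).rels_perm (finPts_all _) rel_0).append
    ((sys_perm1 31671 nets hok).rels_perm (finPts_all _) rel_1)).append
    ((sys_perm1 31671 nets hok).rels_perm (finPts_all _) rel_2)).append
    ((sys_perm1 31671 nets hok).rels_perm (finPts_all _) rel_3)).append
    ((sys_perm1 31671 nets hok).rels_perm (finPts_all _) rel_4)).append
    ((sys_perm1 31671 nets hok).rels_perm (finPts_all _) rel_5)).append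
    ((sys_perm1 31671 nets hok).rels_perm (finPts_all _) rel_6)).append
    ((sys_perm1 31671 nets hok).rels_perm (finPts_all _) rel_7))

theorem iv : ivOk (nat_lit 31671) (nat_lit 6) nets [0, 1, 2, 3, 4, 5, 6, 7, 8] [1, 3510, 28160] Eiv = true := by decide +kernel

theorem blk0 : blkOk (nat_lit 31671) (nat_lit 15) 1 3510 (nth nets 0) (nth (Fi22.cs.map (mkNet1 3510)) 0) = true := by decide +kernel

theorem blk1 : blkOk (nat_lit 31671) (nat_lit 15) 1 3510 (nth nets 1) (nth (Fi22.cs.map (mkNet1 3510)) 1) = true := by decide +kernel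

theorem blk2 : blkOk (nat_lit 31671) (nat_lit 15) 1 3510 (nth nets 2) (nth (Fi22.cs.map (mkNet1 3510)) 2) = true := by decide +kernel

theorem blk3 : blkOk (nat_lit 31671) (nat_lit 15) 1 3510 (nth nets 3) (nth (Fi22.cs.map (mkNet1 3510)) 3) = true := by decide +kernel

theorem blk4 : blkOk (nat_lit 31671) (nat_lit 15) 1 3510 (nth nets 4) (nth (Fi22.cs.map (mkNet1 3510)) 4) = true := by decide +kernel

theorem blk5 : blkOk (nat_lit 31671) (nat_lit 15) 1 3510 (nth nets 5) (nth (Fi22.cs.map (mkNet1 3510)) 5) = true := by decide +kernel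

theorem blk6 : blkOk (nat_lit 31671) (nat_lit 15) 1 3510 (nth nets 6) (nth (Fi22.cs.map (mkNet1 3510)) 6) = true := by decide +kernel

theorem blk7 : blkOk (nat_lit 31671) (nat_lit 15) 1 3510 (nth nets 7) (nth (Fi22.cs.map (mkNet1 3510)) 7) = true := by decide +kernel

theorem blk8 : blkOk (nat_lit 31671) (nat_lit 15) 1 3510 (nth nets 8) (nth (Fi22.cs.map (mkNet1 3510)) 8) = true := by decide +kernel

theorem ok22 : allL (Net.ok 1 3510) (Fi22.cs.map (mkNet1 3510)) = true := by decide +kernel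

theorem pack0 : packOk 14 3510 12 (nth (Fi22.cs.map (mkNet1 3510)) 0) (nth Fi22.nW 0) = true := by decide +kernel

theorem pack1 : packOk 14 3510 12 (nth (Fi22.cs.map (mkNet1 3510)) 1) (nth Fi22.nW 1) = true := by decide +kernel

theorem pack2 : packOk 14 3510 12 (nth (Fi22.cs.map (mkNet1 3510)) 2) (nth Fi22.nW 2) = true := by decide +kernel

theorem pack3 : packOk 14 3510 12 (nth (Fi22.cs.map (mkNet1 3510)) 3) (nth Fi22.nW 3) = true := by decide +kernel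

theorem pack4 : packOk 14 3510 12 (nth (Fi22.cs.map (mkNet1 3510)) 4) (nth Fi22.nW 4) = true := by decide +kernel

theorem pack5 : packOk 14 3510 12 (nth (Fi22.cs.map (mkNet1 3510)) 5) (nth Fi22.nW 5) = true := by decide +kernel

theorem pack6 : packOk 14 3510 12 (nth (Fi22.cs.map (mkNet1 3510)) 6) (nth Fi22.nW 6) = true := by decide +kernel

theorem pack7 : packOk 14 3510 12 (nth (Fi22.cs.map (mkNet1 3510)) 7) (nth Fi22.nW 7) = true := by decide +kernel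

theorem pack8 : packOk 14 3510 12 (nth (Fi22.cs.map (mkNet1 3510)) 8) (nth Fi22.nW 8) = true := by decide +kernel

theorem pack22 : allLt (fun l => packOk 14 3510 12 (nth (Fi22.cs.map (mkNet1 3510)) l) (nth Fi22.nW l)) Fi22.nW.length = true :=
  allLt_iff.2 fun l (hl : l < 9) => by
    interval_cases l
    exacts [pack0, pack1, pack2, pack3, pack4, pack5, pack6, pack7, pack8]

theorem okd : band ((mkNet1 (nat_lit 31671) nd).ok 1 31671) (Nat.beq (((mkNet1 (nat_lit 31671) nd).wid 31671 15).ap (idP 31671 15)) (apPW 31671 15 nets FiA.f2 (idP 31671 15))) = true := by decide +kernel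

theorem reld : relsOk (nat_lit 31671) (nat_lit 15) (nets ++ [mkNet1 (nat_lit 31671) nd]) [[10, 10], [10, 9, 10, 9, 10, 9], [0, 10, 0, 10], [1, 10, 1, 10], [2, 10, 2, 10], [3, 10, 3, 10], [4, 10, 4, 10], [5, 10, 5, 10], [6, 10, 6, 10], [7, 10, 7, 10], [8, 10, 8, 10]] = true := by decide +kernel

theorem fx : allL (fun u => mvOk nets u 0 0) [[0], [1], [2], [3], [4], [5], [6], [7], [8]] = true := by decide +kernel

theorem mvd : mvOk nets FiA.f2 3511 8895 = true := by decide +kernel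

theorem mvj : mvOk nets [9] 0 3511 = true := by decide +kernel

theorem col : kbOk 0 [[0], [1], [2], [3], [4], [5], [6], [7], [8], [9]] [(nat_lit 0xa4c900, nat_lit 0x10080400000000031, nat_lit 0x100004000),
  (nat_lit 0x8ca700, nat_lit 0x10000002c, nat_lit 0x10080001f),
  (nat_lit 0x4a900, nat_lit 0x1008040010000002f, nat_lit 0x100004001),
  (nat_lit 0x10082200, nat_lit 0x10000000f, nat_lit 0x101000006),
  (nat_lit 0x108c4300, nat_lit 0x100000019, nat_lit 0x101000011),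
  (nat_lit 0x11106400, nat_lit 0x100000022, nat_lit 0x10100001b),
  (nat_lit 0x120c8700, nat_lit 0x10000002c, nat_lit 0x100800023),
  (nat_lit 0x111c6700, nat_lit 0x100000027, nat_lit 0x101000020),
  (nat_lit 0x121c6700, nat_lit 0x100000028, nat_lit 0x10100002e),
  (nat_lit 0x98a600, nat_lit 0x10080000600000033, nat_lit 0x100000006),
  (nat_lit 0x11a0e800, nat_lit 0x10000003d, nat_lit 0x10100002b),
  (nat_lit 0x201844300, nat_lit 0x100000006, nat_lit 0x10180000f),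
  (nat_lit 0x2410c8600, nat_lit 0x1010000230080002a0080400200000031, nat_lit 0x10000002a0000400200800006),
  (nat_lit 0x46520c4402, nat_lit 0x10080002b000000240001a000, nat_lit 0x10200002b0080002a00000023),
  (nat_lit 0x12148500, nat_lit 0x100000032, nat_lit 0x101004000),
  (nat_lit 0x4a33906701, nat_lit 0x1028000000080000800000006, nat_lit 0x10000002f018000000180000d),
  (nat_lit 0x48700, nat_lit 0x100008000, nat_lit 0x100000036),
  (nat_lit 0x243906700, nat_lit 0x1008000000080000100000008, nat_lit 0x1000000000000000101800037),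
  (nat_lit 0x9c833886700, nat_lit 0x10000002701004000008000270180000100000027008040000000000a, nat_lit 0x101000001010040000000400001800009),
  (nat_lit 0x2400, nat_lit 0x10000000000000002, nat_lit 1),
  (nat_lit 0x2700, nat_lit 0x10000000100004002, nat_lit 1),
  (nat_lit 0x140ce800, nat_lit 0x10000002f008000020080002f01000000000000000000000a, nat_lit 0x10080002f010000020000002f00800000),
  (nat_lit 0x230044300, nat_lit 0x1008000030000000a, nat_lit 0x10100000300000003),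
  (nat_lit 0x10080100, nat_lit 0x100000000, nat_lit 0x10100001a),
  (nat_lit 0x211002202, nat_lit 0x1008040000000001b0080400000000014, nat_lit 0x10000001a010040000080001b0000400001804000),
  (nat_lit 0x10882200, nat_lit 0x10080400000000025, nat_lit 0x101004001),
  (nat_lit 0x1190a700443214e00886429c0110c8538022190a700, nat_lit 0x10000400100804000008040010080000500004001000000060000000b008040010080000600004001000000070080400100004000000040010000000500804001008000060080000b000040010000000600804001008000070000400100804000008040010080000500004001000000060000000b008040010080000600004001000000070080400100004000000040010000000500804001008000060080000b00004001000000060080400100800007000040010080400000000053, nat_lit 0x100804001008000070080000b000040010000000500004000000000070000000b008040010080000500804000008000070080000b000040010000000500004000000000070000000b008040010080000500804000008000070080000b0000400100000005),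
  (nat_lit 0x2000, nat_lit 1, nat_lit 0x100000000),
  (nat_lit 0x2100, nat_lit 1, nat_lit 0x10000000100004002),
  (nat_lit 0x2200, nat_lit 1, nat_lit 0x10000000200004004),
  (nat_lit 0x2300, nat_lit 1, nat_lit 0x100000003000040050000000b),
  (nat_lit 0x2400, nat_lit 1, nat_lit 0x100000004000040060000000b),
  (nat_lit 0x2500, nat_lit 1, nat_lit 0x100000005000040070000000c00000011),
  (nat_lit 0x2600, nat_lit 1, nat_lit 0x100000006000040080000000d0000001200004017),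
  (nat_lit 0x2700, nat_lit 1, nat_lit 0x100000007000040090000000d),
  (nat_lit 0x2800, nat_lit 1, nat_lit 0x1000000080000400a0000000d),
  (nat_lit 0x2900, nat_lit 1, nat_lit 0x1000000090000400b00000010000000150000401a00004023)] ([[9, 6, 9, 6]] ++ rels) = true := by decide +kernel

end H13.Fi23
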