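import Cfsg.Agent.H13.Top
import Cfsg.Prelude.Def_SporCoxeter

/-! A presentation of the Mathieu group M11. -/

set_option maxRecDepth 100000
set_option Elab.async false

namespace H13.M11

def rels : List (List ℕ) := [[0, 0], [0, 1, 0, 1, 0, 1], [0, 2, 0, 2], [0, 3, 0, 3], [0, 4, 0, 4], [1, 1], [1, 2, 1, 2, 1, 2, 1, 2, 1, 2], [1, 3, 1, 3], [1, 4, 1, 4], [2, 2], [2, 3, 2, 3, 2, 3], [2, 4, 2, 4, 2, 4, 2, 4], [3, 3], [3, 4, 3, 4, 3, 4], [4, 4], [0, 4, 2, 4, 2], [0, 1, 2, 0, 1, 2, 0, 1, 2, 0, 1, 2, 0, 1, 2]]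

noncomputable def s0 : Stg :=
  ⟨nat_lit 6, nat_lit 2, nat_lit 2, [mkNet1 (nat_lit 6) (nat_lit 0xc30c1),
  mkNet1 (nat_lit 6) (nat_lit 208)],
  [nat_lit 13,
  nat_lit 3075],
  nat_lit 3622,
  [[0], [1]], [[0, 0], [1, 1], [0, 1, 0, 1, 0, 1]], [], [[(0, 0)], [(1, 0), (2, 1)]]⟩

theorem ok0 : stageOk 0 (rels) [] s0 = true := by decide +kernel

noncomputable def s1 : Stg :=
  ⟨nat_lit 10, nat_lit 3, nat_lit 3, [mkNet1 (nat_lit 10) (nat_lit 0xc00300c030c014),
  mkNet1 (nat_lit 10) (nat_lit 0x400000000000c904),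
  mkNet1 (nat_lit 10) (nat_lit 0xc0020080e0c001)],
  [nat_lit 0xc8c5,
  nat_lit 0xc233b,
  nat_lit 0x1809030d],
  nat_lit 0x3e08719a,
  [[0], [1], [2]], [[0, 0], [1, 1], [2, 2], [0, 1, 0, 1, 0, 1], [0, 2, 0, 2], [1, 2, 1, 2, 1, 2, 1, 2, 1, 2], [0, 1, 2, 0, 1, 2, 0, 1, 2, 0, 1, 2, 0, 1, 2]], [0, 1], [[(0, 0), (4, 0)], [(1, 0), (3, 1)], [(2, 0), (5, 1), (6, 2)]]⟩

theorem ok1 : stageOk 0 (rels) s0.ws s1 = true := by decide +kernel

def lem2 : List (List ℕ) := [[1, 2, 3, 0, 1, 2, 1, 0, 3, 2, 3, 1, 0, 2, 1, 3, 2, 3, 1, 2, 0, 1, 3, 2, 3, 0, 1, 2, 1, 0, 3, 2, 3, 0, 1, 2, 1, 0, 3, 2, 3, 1, 0, 2, 1, 3, 2, 3, 1, 2, 0, 1, 3, 2, 3, 0, 1, 2, 1, 0, 3, 2, 3, 1, 0, 2, 1, 3, 2, 3, 1, 2, 0, 1, 3, 2, 3, 0, 1, 2, 1, 0, 3, 2, 3, 0, 1, 2, 1, 0, 3, 2, 3, 1, 0, 2, 1, 3, 2, 3, 1, 2, 0, 1, 3, 2, 3, 0, 1, 2, 1, 0, 1, 0, 2, 1, 3, 2, 3, 1, 2, 0, 1, 3, 2, 3, 0, 1, 2, 1, 0, 3, 2, 3, 1, 0, 2, 1, 3, 2, 3, 1, 2, 0, 1, 3, 2, 3, 0, 1, 2, 1, 0, 3, 2, 3,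 0, 1, 2, 1, 0, 3, 2, 3, 1, 0, 2, 1, 3, 2, 3, 1, 2, 0, 1, 3, 2, 3, 0, 1, 2, 1, 0, 1, 0]]

theorem kb2 : kbOk 0 lem2 [(nat_lit 0x46308c2300, nat_lit 1, nat_lit 0x10280a007),
  (nat_lit 0x1000200802000, nat_lit 1, nat_lit 0x103816002),
  (nat_lit 0x46210c6310c631086310c4300, nat_lit 1, nat_lit 0x10801600c),
  (nat_lit 0x11882110c62188631042218c411844300, nat_lit 0x109000000, nat_lit 0x10a80e00a),
  (nat_lit 0x4620886310443188221044318823088631044208863104431882218c4110c431044300, nat_lit 0x112000000, nat_lit 0x11881200e),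
  (nat_lit 0x11882208c6110443188220844110c62088631044318822184611044300, nat_lit 1, nat_lit 0x11300a00c),
  (nat_lit 0x100c41008400886000c410002218003104420886000c41100400886000, nat_lit 1, nat_lit 0x11300a008),
  (nat_lit 0x118c0318c0300, nat_lit 1, nat_lit 0x10380a00a),
  (nat_lit 0x100c60000631806000, nat_lit 1, nat_lit 0x10500a00b),
  (nat_lit 0x100c421800300c6210c620086000, nat_lit 0x107000000, nat_lit 0x10880a00b),
  (nat_lit 0x80620804010443000620884110c001882110c001880218c4218c231804118c03188431882110c620800110c62080420044318820104400886000, nat_lit 0x1188000030e8000000a800009090000020680200914002002, nat_lit 0x12a83a01a),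
  (nat_lit 0x1188201080110c620800110c620884110c62088020044300, nat_lit 1, nat_lit 0x10f80a00d),
  (nat_lit 0x1188220844110c62088020044318820104400886000c41008020886000c41104220886000c41104011044300, nat_lit 0x1098020000801e00112000005, nat_lit 0x11f81200a),
  (nat_lit 0x11882208c611044318822080220886000c4110463088221800310441180611044300, nat_lit 0x114000000, nat_lit 0x11700a004),
  (nat_lit 0x100c411046308822180031044108822180031044318822180031044308c220886000, nat_lit 1, nat_lit 0x11680a015),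
  (nat_lit 0x1000400004000, nat_lit 1, nat_lit 0x10380e011),
  (nat_lit 0x4031086000c600080018c0018843000621886000, nat_lit 0x108802000, nat_lit 0x10d81601a),
  (nat_lit 0x100c410886000c4310c001882110c00188230886000, nat_lit 0x108802000, nat_lit 0x10e00e018),
  (nat_lit 0x403104431882218003104420886000c4118443000620884110c001882218c4110c0018822188620886000, nat_lit 0x111802000, nat_lit 0x11e01201c),
  (nat_lit 0x100c410086310022180031040200822180031044318822180031044300c400886000, nat_lit 0x11300000c, nat_lit 0x11680a00a),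
  (nat_lit 0x11882010c620044318820104400886000c4100863100221800310402184620044300, nat_lit 0x10e002009, nat_lit 0x11700a01b),
  (nat_lit 0x1188200044318823088631040008863104030044300, nat_lit 0x10c000011, nat_lit 0x10e00e00c),
  (nat_lit 0x462080431880110c620804200443188201802218c4100840088631040218c400886310402188620044300, nat_lit 0x116000000, nat_lit 0x11e012020),
  (nat_lit 0x11882010c6200443188201004110c62088631044318822180620044300, nat_lit 0x11000000b, nat_lit 0x11300a00e),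
  (nat_lit 0x4620884110c6208443188431844118c4218c41088631044208863104411044300, nat_lit 0x1070000170d802017, nat_lit 0x11702201e),
  (nat_lit 0x11882218c4110c620882208863104431882218c4110c231044300, nat_lit 0x10a802000, nat_lit 0x11180a020),
  (nat_lit 0x100c4100022180031046110c00188200044300062080600886000, nat_lit 0x10a802008, nat_lit 0x11180e011),
  (nat_lit 0x4031040218c400886000c41008400886000c4100c0110c00188201080110c001882010c6200443000620804310c400886000, nat_lit 0x114802000, nat_lit 0x123812025),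
  (nat_lit 0x80620882308c4110c00188221806200443000620804310c400886000c41008611880110c620804300c4110c62088621882218c4110c23104431882218062004431882010c431002218c41008611880110c001882010c0310443000620886218822180031044308c220886000c41104601844110c620882310c220886000, nat_lit 0x11d00000d160020081d000000120020071800000417000017148000020f0020040e8020051200000712000008110000090a80200d0700200e, nat_lit 0x16000602c),
  (nat_lit 0x118c2000c6000c2300, nat_lit 0x10400201b, nat_lit 0x10580a024),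
  (nat_lit 0x1188220844110c620884110c6208443188431846000c42180031042218003104420886000c41104220886000c41104411044300, nat_lit 0x11a000000, nat_lit 0x125826024),
  (nat_lit 0x462088231844110c620882310c220886000c41104630882218003104411044110c62088231844110c620882310c220886000c41104611044300, nat_lit 0x11c0020021b00200006002002, nat_lit 0x12a802029),
  (nat_lit 0x403104410044110c620882308822180031044118061104431882208c220886000, nat_lit 0x1278020130f80000006002012, nat_lit 1),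
  (nat_lit 0x403104410882218003104411844110c620882308c4110c62088620886000, nat_lit 0x1070000000b00001b, nat_lit 1),
  (nat_lit 0x100c4110822180031044310443188221886208863104430886000, nat_lit 0x10a0000000a00001d, nat_lit 1),
  (nat_lit 0x100c41184430006208c4110c620886310443188220886000, nat_lit 0x1270000110d800000, nat_lit 1),
  (nat_lit 0x100c410886000c411882218c4110c23104431882218443000620886000, nat_lit 0x1290000012200200a03802001, nat_lit 1),
  (nat_lit 0x40310443000620882218c411086000, nat_lit 0x12400000007800001, nat_lit 1),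
  (nat_lit 0x100c6000c2218c41184431882000, nat_lit 0x10500000002002022, nat_lit 1),
  (nat_lit 0x11884318063108631004300, nat_lit 0x10600001f, nat_lit 0x10700a017),
  (nat_lit 0x46208821104431882208c220886000c41104611882218003104431044300, nat_lit 0x1060000080c000019, nat_lit 1),
  (nat_lit 0x118822104431882218822180031044310c4110c00188221882218c411044300, nat_lit 0x1260000002180201603802000, nat_lit 1),
  (nat_lit 0x11880218c411044318822080220886000c411044300, nat_lit 0x13c0020020b0000000a00001d, nat_lit 1),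
  (nat_lit 0x46210c620882218c411044110443000620882300, nat_lit 0x1090000010980000c, nat_lit 1),
  (nat_lit 0x46110443000620882218c4300, nat_lit 0x13c80000001802001, nat_lit 1),
  (nat_lit 0x46018c431880218c4300, nat_lit 0x1750020250380000001802005, nat_lit 1),
  (nat_lit 0x423188631042218c4100, nat_lit 0x17480202d06000000, nat_lit 1),
  (nat_lit 0x1088631040000, nat_lit 0x15f00000000802008, nat_lit 1),
  (nat_lit 0x4610002300, nat_lit 0x15d80002f030000000180002e, nat_lit 1),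
  (nat_lit 0x118c2100, nat_lit 0x10180200001800030, nat_lit 1)] (rels) = true := by decide +kernel

noncomputable def s2 : Stg :=
  ⟨nat_lit 11, nat_lit 4, nat_lit 3, [mkNet1 (nat_lit 11) (nat_lit 0x401000200402898010),
  mkNet1 (nat_lit 11) (nat_lit 0x5401000200400898154),
  mkNet1 (nat_lit 11) (nat_lit 0x1500800000001099054),
  mkNet1 (nat_lit 11) (nat_lit 0x1401000200400898051)],
  [nat_lit 0x4002007318d,
  nat_lit 0x184301465,
  nat_lit 0x1c004039b,
  nat_lit 0x341042064c9],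
  nat_lit 0x1fc3864ca,
  [[0], [1], [2], [3]], [[0, 0], [1, 1], [2, 2], [3, 3], [0, 1, 0, 1, 0, 1], [0, 2, 0, 2], [0, 3, 0, 3], [1, 2, 1, 2, 1, 2, 1, 2, 1, 2], [1, 3, 1, 3], [2, 3, 2, 3, 2, 3], [0, 1, 2, 0, 1, 2, 0, 1, 2, 0, 1, 2, 0, 1, 2], [1, 2, 3, 0, 1, 2, 1, 0, 3, 2, 3, 1, 0, 2, 1, 3, 2, 3, 1, 2, 0, 1, 3, 2, 3, 0, 1, 2, 1, 0, 3, 2, 3, 0, 1, 2, 1, 0, 3, 2, 3, 1, 0, 2, 1, 3, 2, 3, 1, 2, 0, 1, 3, 2, 3, 0, 1, 2, 1, 0, 3, 2, 3, 1, 0, 2, 1, 3, 2, 3, 1, 2, 0, 1, 3, 2, 3, 0, 1, 2, 1, 0, 3, 2, 3, 0, 1, 2, 1, 0, 3, 2, 3, 1, 0, 2, 1, 3, 2, 3, 1, 2, 0, 1, 3, 2, 3, 0, 1, 2, 1, 0, 1, 0, 2, 1, 3, 2, 3, 1, 2, 0, 1, 3, 2, 3, 0, 1, 2, 1, 0, 3, 2, 3, 1, 0, 2, 1, 3, 2, 3, 1, 2, 0, 1, 3, 2, 3, 0, 1, 2, 1, 0, 3, 2, 3, 0, 1, 2, 1, 0, 3, 2, 3, 1, 0, 2, 1, 3, 2, 3, 1, 2, 0, 1, 3, 2, 3, 0, 1, 2, 1, 0, 1, 0]], [0, 1, 2], [[(0, 0), (4, 0), (5, 0), (6, 0)], [(1, 0), (4, 1), (8, 0), (11, 0)], [(2, 0), (7, 1), (9, 0), (10, 2)], [(3, 0), (6, 1),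 (8, 1), (9, 1)]]⟩

theorem ok2 : stageOk 0 (lem2 ++ rels) s1.ws s2 = true := by decide +kernel

noncomputable def s3 : Stg :=
  ⟨nat_lit 12, nat_lit 4, nat_lit 4, [mkNet1 (nat_lit 12) (nat_lit 0x300050),
  mkNet1 (nat_lit 12) (nat_lit 0x1012000600600e120410),
  mkNet1 (nat_lit 12) (nat_lit 0x230004),
  mkNet1 (nat_lit 12) (nat_lit 0x10420000c00c00c102444),
  mkNet1 (nat_lit 12) (nat_lit 1345)],
  [nat_lit 0x5005080c6615,
  nat_lit 0xc008204064ed,
  nat_lit 0xa00500602c37,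
  nat_lit 0xb40b781202d3,
  nat_lit 0xe00df89e4571],
  nat_lit 0x8007f078c66a,
  [[0], [1], [2], [3], [4]], [[0, 0], [1, 1], [2, 2], [3, 3], [4, 4], [1, 2, 3, 0, 1, 2, 1, 0, 3, 2, 3, 1, 0, 2, 1, 3, 2, 3, 1, 2, 0, 1, 3, 2, 3, 0, 1, 2, 1, 0, 3, 2, 3, 0, 1, 2, 1, 0, 3, 2, 3, 1, 0, 2, 1, 3, 2, 3, 1, 2, 0, 1, 3, 2, 3, 0, 1, 2, 1, 0, 3, 2, 3, 1, 0, 2, 1, 3, 2, 3, 1, 2, 0, 1, 3, 2, 3, 0, 1, 2, 1, 0, 3, 2, 3, 0, 1, 2, 1, 0, 3, 2, 3, 1, 0, 2, 1, 3, 2, 3, 1, 2, 0, 1, 3, 2, 3, 0, 1, 2, 1, 0, 1, 0, 2, 1, 3, 2, 3, 1, 2, 0, 1, 3, 2, 3, 0, 1, 2, 1, 0, 3, 2, 3, 1, 0, 2, 1, 3, 2, 3, 1, 2, 0, 1, 3, 2, 3, 0, 1, 2, 1, 0, 3, 2, 3, 0, 1, 2, 1, 0, 3, 2, 3, 1, 0, 2, 1, 3, 2, 3, 1, 2, 0, 1, 3, 2, 3, 0, 1, 2, 1, 0, 1, 0], [0, 1, 0, 1, 0, 1], [0, 2, 0, 2], [0, 3, 0, 3], [0, 4, 0, 4], [1, 2, 1, 2, 1, 2, 1, 2, 1, 2], [1, 3, 1, 3], [1, 4, 1, 4], [2, 3, 2, 3, 2, 3], [3, 4, 3, 4, 3, 4], [0, 4, 2, 4, 2]], [0, 1, 2, 3], [[(0, 0), (6, 0), (7, 0), (8, 0),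 (9, 0)], [(1, 0), (5, 0), (6, 1), (11, 0), (12, 0)], [(2, 0), (10, 1), (13, 0), (15, 4)], [(3, 0), (8, 1), (11, 1), (13, 1)], [(4, 0), (12, 1), (14, 1), (15, 3)]]⟩

theorem ok3 : stageOk 0 (lem2 ++ rels) s2.ws s3 = true := by decide +kernel

theorem cardG {G : Type*} [Group G] {gen : ℕ → G} (hI : Inv gen 0) (hR : Rels gen rels) :
    CardLe (clW gen [[0], [1], [2], [3], [4]]) 7920 :=
  ((((cardLe_nil.stage hI hR s0 ok0).stage hI hR s1 ok1).stage hI ((hR.kb hI _ kb2).append hR) s2 ok2).stage hI ((hR.kb hI _ kb2).append hR) s3 ok3)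

noncomputable def nW : List Net := [mkNet (nat_lit 8) (nat_lit 11) (nat_lit 0x48000100203c80045),
  mkNet (nat_lit 8) (nat_lit 11) (nat_lit 0x9100000c02491011),
  mkNet (nat_lit 8) (nat_lit 11) (nat_lit 0x4001800400c03418100),
  mkNet (nat_lit 8) (nat_lit 11) (nat_lit 0x401000400c03410010),
  mkNet (nat_lit 8) (nat_lit 11) (nat_lit 0x5501000400c03410154)]

noncomputable def c1 : Gn :=
  ⟨[[2, 1, 3, 4], [2, 4, 1, 2, 3, 1, 2, 0]], [[0, 0, 1, 1, 0], [1, 0], [3, 3, 2], [2, 2, 3, 2, 2], [4, 4, 5, 4], [5, 5, 4, 5, 5, 5, 4]],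
  [mkNet (nat_lit 8) (nat_lit 11) (nat_lit 0x4001900000c01880945),
  mkNet (nat_lit 8) (nat_lit 11) (nat_lit 0x409000400e00c99105),
  mkNet (nat_lit 8) (nat_lit 11) (nat_lit 0x900100e02c19110),
  mkNet (nat_lit 8) (nat_lit 11) (nat_lit 0x1040000700e00810041),
  mkNet (nat_lit 8) (nat_lit 11) (nat_lit 0x401900200401001154),
  mkNet (nat_lit 8) (nat_lit 11) (nat_lit 0x501900300e00489050),
  mkNet (nat_lit 8) (nat_lit 11) (nat_lit 0x101000300602c88004),
  mkNet (nat_lit 8) (nat_lit 11) (nat_lit 0x1500100400c01809114)],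
  [⟨0, [[0], [1]], nat_lit 0x202020103040401030300, 11⟩,
  ⟨1, [[2], [3]], nat_lit 0x30201010303020202007f, 10⟩,
  ⟨3, [[4], [5]], nat_lit 0x401020202010300037f7f, 9⟩,
  ⟨2, [[6], [7]], nat_lit 0x20203030201017f007f7f, 8⟩]⟩

noncomputable def c2 : Gn :=
  ⟨[[0, 1], [0, 2, 1, 3, 2, 1, 4, 3, 2, 1]], [[0, 0, 1], [0, 1, 0, 1, 1], [1, 0, 2], [3, 4, 4, 4, 3], [5, 5, 3], [3, 5, 5, 5]],
  [mkNet (nat_lit 8) (nat_lit 11) (nat_lit 0x41100000e01c99045),
  mkNet (nat_lit 8) (nat_lit 11) (nat_lit 0x4409800300601c11000),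
  mkNet (nat_lit 8) (nat_lit 11) (nat_lit 0x500100000403008040),
  mkNet (nat_lit 8) (nat_lit 11) (nat_lit 0x501000100203488044),
  mkNet (nat_lit 8) (nat_lit 11) (nat_lit 0x1500100400c01809114),
  mkNet (nat_lit 8) (nat_lit 11) (nat_lit 0x1408900100e00c19014),
  mkNet (nat_lit 8) (nat_lit 11) (nat_lit 0x1108000000800008114),
  mkNet (nat_lit 8) (nat_lit 11) (nat_lit 0x401000700e03c80010)],
  [⟨1, [[0], [1], [2]], nat_lit 0x20103020203010102007f, 10⟩,
  ⟨2, [[3], [4], [5]], nat_lit 0x302030402030102007f7f, 9⟩,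
  ⟨3, [[6], [7]], nat_lit 0x3020103020201007f7f7f, 8⟩]⟩

theorem okW : band (Nat.blt 0 8) (band (Nat.ble 11 (p2 (8 - 1))) (allL (Net.ok 8 11) nW)) = true := by decide +kernel

theorem relW : relsW 8 11 nW rels = true := by decide +kernel

theorem g1 : genOk 8 11 nW c1 7920 = true := by decide +kernel

theorem g2 : genOk 8 11 nW c2 720 = true := by decide +kernel

theorem pw : relsW 8 11 nW (c1.hs.map (powW · 11)) = true := by decide +kernel

theorem fx : fixOk 8 11 nW c2.hs [0] = true := by decide +kernel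

theorem tr : transOk 8 11 nW [[0], [1], [2], [3], [4]] (nat_lit 0x203050301010302040400) 0 = true := by decide +kernel

theorem lb : (fun E => band (labOk 8 11 nW c2.hs E 3 [0, 1]) (band (cntOk 8 11 E 3 [1, 10]) (Nat.beq [0, 1].length [1, 10].length))) (nat_lit 0xa0b0d0c0a0c09090b0800) = true := by decide +kernel

open Cfsg.Spor MulAction

/-- the graph -/
def edges : List (Fin 5 × ℕ × Fin 5) := [(0, 3, 1), (1, 5, 2), (2, 3, 3), (2, 4, 4), (3, 3, 4)]

/-- the further relators -/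
def extra : List (FreeGroup (Fin 5)) := [.of 0 * ((.of 2 * .of 4) ^ 2)⁻¹, (.of 0 * .of 1 * .of 2) ^ 5]

/-- the presented group -/
abbrev Gp : Type := CoxPresented (Fin 5) edges extra

/-- the generators in order -/
def gs : List (Fin 5) := [0, 1, 2, 3, 4]

theorem hgs (x : (Fin 5)) : x ∈ gs := by revert x; decide

/-- the letters -/
def gen : ℕ → Gp := genL gs

theorem hI : Inv gen 0 := inv_genL (by decide)

theorem pres_eq : presW gs.idxOf 0 gs edges extra = rels := by decide +kernel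

theorem hR : Rels gen rels := pres_eq ▸ rels_pres hI (genL_idx hgs) gs

theorem cardLe : CardLe (⊤ : Subgroup Gp) 7920 :=
  (cardG hI hR).mono (clW_pres_top (genL_idx hgs) (fun x => by revert x; decide)).ge le_rfl

instance finiteGp : Finite Gp := cardLe.finite

theorem relP : Rels (permW 8 11 nW okW) rels := (sys_permW 8 11 nW okW).rels_perm (finPts_all _) relW

theorem oneP (l : ℕ) (h : 5 ≤ l) : permW 8 11 nW okW l = 1 := (sys_permW 8 11 nW okW).perm_of_le (finPts_all _) h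

/-- the permutation representation of degree 11 -/
noncomputable def φ : Gp →* Equiv.Perm (Fin 11) :=
  presHom (inv_of_rels oneP (by decide) relP (by decide +kernel)) hgs (pres_eq ▸ relP)

noncomputable instance actGp : MulAction Gp (Fin 11) := MulAction.compHom _ φ

theorem sys : Sys (finPts 11) 8 gen nW := (sys_permW 8 11 nW okW).comp φ (presHom_genL _ hgs (by decide) _ oneP)

theorem card_eq : Nat.card Gp = 7920 := (sys.top_pack c1 g1 cardLe).1

theorem faith : Faith (finPts 11) (⊤ : Subgroup Gp) := (sys.top_pack c1 g1 cardLe).2.1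

theorem orbit_eq : orbit Gp ((finPts 11).pt 0) = (finPts 11).set :=
  sys.orbit_top_eq_set tr (fun _ _ _ => finPts_set 11 ▸ trivial) (by decide)

theorem stab : clW gen c2.hs = stabilizer Gp ((finPts 11).pt 0) ∧ Nat.card (clW gen c2.hs) = 720 :=
  sys.stab_eq c2 g2 fx orbit_eq (by decide) card_eq

theorem orbs : Orbs (clW gen c2.hs) (finPts 11).set (fun j => (finPts 11).pt (nthN [0, 1] j)) [1, 10] :=
  sys.orbsW _ _ _ _ _ rfl lb

theorem coatom : IsCoatom (stabilizer Gp ((finPts 11).pt 0)) := by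
  have h := isCoatom_of_orbs orbs orbit_eq stab.1.le (by decide +kernel)
  exact h

theorem simple : IsSimpleGroup Gp :=
  simple_of_words coatom (normalCore_stabilizer_eq_bot orbit_eq faith) (stab.1 ▸ stab.2) (by norm_num)
    (sys.top_pack c1 g1 cardLe).2.2 (sys.rels_faith faith (fun _ => trivial) pw)

/-- the homomorphism given by elements satisfying the relators -/
theorem exists_sub {G : Type*} [Group G] {g : ℕ → G} (h : Inv g 0) (h' : Rels g rels) (h0 : g 0 ≠ 1) :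
    ∃ K : Subgroup G, IsSimpleGroup K ∧ Nat.card K = 7920 := by
  have := simple
  let ψ : Gp →* G := presHom h hgs (pres_eq ▸ h')
  have e := MonoidHom.ofInjective (ψ.ker_eq_bot_iff.1 (ψ.normal_ker.eq_bot_or_eq_top.resolve_right fun c =>
    h0 ((presHom_of 0).symm.trans (c.ge (Subgroup.mem_top (PresentedGroup.of 0))))))
  exact ⟨ψ.range, e.symm.isSimpleGroup, (Nat.card_congr e.toEquiv).symm.trans card_eq⟩

end H13.M11
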