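import Cfsg.Agent.H13.Chain
import Cfsg.Agent.H14.M24Bound

/-!
`M24` as a computational group (namespace H13).
* `P24` (the 24 points, numbered as in H14), generators `g24 : ℕ → M24` (0,1,2 = x+1, -1/x, cube twist; the others a
  strong generating set for the base 0,1,2,3,4,7,5 given by the program `vs24`), `nets24`, `sys24 : Sys P24 6 g24 nets24`.
* `card_M24`, `closure_g24`, `closure_g0` (the three standard generators generate), `closure_std`, `trans5`,
  `faith24`, `netRep_of_tab`, `sys24_induce` (the same generators on another numbered set).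
-/

namespace H13

open Cfsg MulAction

/-- the 24 points -/
def P24 : Pts GolayPt := ⟨24, H14.pt, fun _ hi _ hj h => H14.pt_inj hi hj h⟩

theorem P24_all (x : GolayPt) : ∃ i < P24.n, P24.pt i = x := ⟨H14.idx x, H14.idx_lt x, H14.pt_idx x⟩

theorem P24_set : P24.set = Set.univ := Set.eq_univ_of_forall fun x => P24_all x

theorem faith24 (K : Subgroup M24) : Faith P24 K := fun g _ h => Subtype.ext (Equiv.ext fun x => by
  obtain ⟨i, hi, rfl⟩ := P24_all x
  exact h i hi)

theorem rep_of_tab {σ : M24} {T : ℕ} (h : H14.Tab σ T) : Rep P24 σ (H14.ap T) :=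
  fun _ hi => ⟨h.lt hi, h.apply_pt hi⟩

/-- the network `N` has the H14 table `T` -/
noncomputable def tabOk (N : Net) (T : ℕ) : Bool :=
  band (N.ok 6 24) (force (N.ap (idv 6 24)) fun x => allLt (fun i => Nat.beq (get 6 x i) (H14.ap T i)) 24)

theorem netRep_of_tab {σ : M24} {T : ℕ} (h : H14.Tab σ T) {N : Net} (hN : tabOk N T = true) :
    NetRep P24 6 σ N := by
  simp only [tabOk, band_eq_true, force_eq, allLt_iff, Nat.beq_eq] at hN
  exact netRep_of_ok (by norm_num) (by decide) hN.1 ((rep_of_tab h).congr hN.2)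

/-- the three standard generators -/
noncomputable def g0 : ℕ → M24
  | 0 => ⟨H14.alphaP, H14.alpha_mem⟩
  | 1 => ⟨projInv, H14.gamma_mem⟩
  | 2 => ⟨cubeTwist, H14.delta_mem⟩
  | _ + 3 => 1

/-- straight-line program for the strong generators -/
def vs24 : List (List ℕ) := [[2, 1, 1, 1, 2, 2], [0, 1, 0], [2, 2, 4, 2, 2, 4, 2], [2, 4, 2, 4], [5, 6, 5, 6, 5, 5], [5, 7, 5], [5, 7, 6, 5, 6, 7], [9, 8, 8], [8, 8, 9, 9, 9], [8, 10, 10, 10, 9], [12, 12, 11, 12, 12, 12, 11, 11], [12, 12, 11, 11, 12, 12, 12], [12, 11, 11, 11, 11, 11], [13, 15, 15, 13, 15, 14, 14], [15, 15, 13, 14, 15], [15, 15, 14, 15, 13, 13]]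

/-- all the generators -/
noncomputable def g24 : ℕ → M24 := slp g0 3 vs24

/-- networks on the 24 points -/
noncomputable def nets24 : List Net := [mkNet (nat_lit 6) (nat_lit 24) (nat_lit 0x400000000000000000000080000080000000080808222222555555),
  mkNet (nat_lit 6) (nat_lit 24) (nat_lit 0x114400323000a0a0000006c0000ff0000930f0b04301033411441),
  mkNet (nat_lit 6) (nat_lit 24) (nat_lit 0x1505402012300d000000001c00009e00001e010706220120050410),
  mkNet (nat_lit 6) (nat_lit 24) (nat_lit 0x544550233200040a0000000c0000bd0000d2090c03320323501044),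
  mkNet (nat_lit 6) (nat_lit 24) (nat_lit 0x510401000000009000000830000ef00005500030a111112545104),
  mkNet (nat_lit 6) (nat_lit 24) (nat_lit 0x14110030122005090000002b0000ff000007090608133310051404),
  mkNet (nat_lit 6) (nat_lit 24) (nat_lit 0x1000102000300108000000300000b4000084040a0c223010115004),
  mkNet (nat_lit 6) (nat_lit 24) (nat_lit 0x54000021011000090000000c0000bc0000700f0e08102210515544),
  mkNet (nat_lit 6) (nat_lit 24) (nat_lit 0x54000030200020a000000a40000ec00004c0c0b00111000510450),
  mkNet (nat_lit 6) (nat_lit 24) (nat_lit 0x51541021010001040000003c00007c0000ac050a08030010150000),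
  mkNet (nat_lit 6) (nat_lit 24) (nat_lit 0x4114501020000d0f000000830000cb00007b080800311330554140),
  mkNet (nat_lit 6) (nat_lit 24) (nat_lit 0x4140403102000500000000810000e1000081030300001010141510),
  mkNet (nat_lit 6) (nat_lit 24) (nat_lit 0x451400131000105000000810000d10000e1060e00222220415050),
  mkNet (nat_lit 6) (nat_lit 24) (nat_lit 0x4551003122000c040000001d00007d00001d0d0700332200455100),
  mkNet (nat_lit 6) (nat_lit 24) (nat_lit 0x450002020000206000000170000770000170a0600202200045000),
  mkNet (nat_lit 6) (nat_lit 24) (nat_lit 0x511500013000000000000006000066000086050900322000511500),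
  mkNet (nat_lit 6) (nat_lit 24) (nat_lit 0x101400203000020000000017000017000077030100123000401500),
  mkNet (nat_lit 6) (nat_lit 24) (nat_lit 0x4445000103000c00000000090000690000090c0400132300444500),
  mkNet (nat_lit 6) (nat_lit 24) (nat_lit 0x11500302000000400000015000035000055010700333000111500)]

/-- the stabiliser chain -/
def lv24 : List Lvl := [⟨0, [[0], [1], [2], [3]], nat_lit 0x410830830c31041030c41041030c20c4080, 24⟩,
  ⟨1, [[2], [4]], nat_lit 0x420c50c41051041030c510210110314201f, 23⟩,
  ⟨2, [[5], [6], [7]], nat_lit 0x1020c10c30830c31440431041021021407df, 22⟩,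
  ⟨3, [[8], [9], [10]], nat_lit 0x1020c50c21030c11010c310210308301f7df, 21⟩,
  ⟨4, [[11], [12]], nat_lit 0xc11041050840c21041450c30810c07df7df, 20⟩,
  ⟨7, [[13], [14], [15]], nat_lit 0x7df7df7df7df7df7c17c27df01f7df7df7df, 3⟩,
  ⟨5, [[14], [16], [17], [18]], nat_lit 0x430420820430420df0df0827c401f7df7df, 16⟩]

theorem sys24_induce {α : Type*} [MulAction M24 α] {P : Pts α} {w : ℕ} {nets : List Net} (hw : 0 < w)
    (hn : P.n ≤ 2 ^ (w - 1)) (h0 : NetRep P w (g0 0) (nth nets 0)) (h1 : NetRep P w (g0 1) (nth nets 1))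
    (h2 : NetRep P w (g0 2) (nth nets 2)) (h : slpOk w P.n nets 3 vs24 = true) : Sys P w g24 nets := by
  refine sys_slp hw hn (fun l hl => ?_) (fun l hl => ?_) h
  · interval_cases l <;> assumption
  · obtain ⟨k, rfl⟩ := Nat.exists_eq_add_of_le' hl; rfl

theorem sys24 : Sys P24 6 g24 nets24 :=
  sys24_induce (by norm_num) (by decide) (netRep_of_tab H14.alpha_tab (by decide +kernel))
    (netRep_of_tab H14.gamma_tab (by decide +kernel)) (netRep_of_tab H14.delta_tab (by decide +kernel))
    (by decide +kernel)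

theorem chain24 : chainOk 6 P24.n nets24 [] lv24 = true := by decide +kernel

theorem prod24 : chainProd lv24 = 244823040 := by decide +kernel

theorem card_top24 : Nat.card (⊤ : Subgroup M24) ≤ chainProd lv24 := by
  rw [Subgroup.card_top, prod24]; exact H14.card_M24_le

theorem card_M24 : Nat.card M24 = 244823040 := by
  rw [← Subgroup.card_top, ← prod24]
  exact sys24.card_eq_of_le (chainIn_of_gen (fun _ => Subgroup.mem_top _) _) chain24 card_top24

theorem eq_top_of_g24 {K : Subgroup M24} (h : ∀ l, g24 l ∈ K) : K = ⊤ :=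
  (sys24.eq_of_chain le_top (chainIn_of_gen h _) chain24 card_top24).symm

theorem eq_top_of_g0 {K : Subgroup M24} (h0 : g0 0 ∈ K) (h1 : g0 1 ∈ K) (h2 : g0 2 ∈ K) : K = ⊤ :=
  eq_top_of_g24 (slp_mem (fun l => match l with
    | 0 => h0
    | 1 => h1
    | 2 => h2
    | _ + 3 => K.one_mem) _ _)

theorem closure_g24 : Subgroup.closure (Set.range g24) = ⊤ :=
  eq_top_of_g24 fun l => Subgroup.subset_closure ⟨l, rfl⟩

theorem closure_g0 : Subgroup.closure {g0 0, g0 1, g0 2} = ⊤ :=
  eq_top_of_g0 (Subgroup.subset_closure (by simp)) (Subgroup.subset_closure (by simp))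
    (Subgroup.subset_closure (by simp))

theorem g24_of_lt {l : ℕ} (h : l < 3) : g24 l = g0 l := slp_of_lt h _

theorem closure_std : Subgroup.closure {H14.alphaP, projInv, cubeTwist} = M24 := by
  have h := congrArg (Subgroup.map M24.subtype) closure_g0
  rw [MonoidHom.map_closure, ← MonoidHom.range_eq_map, Subgroup.range_subtype] at h
  simpa [Set.image_insert_eq, g0] using h

theorem trans5 : IsMultiplyPretransitive M24 GolayPt 5 :=
  sys24.multiplyPretransitive P24_all (lv := lv24.take 5) (by decide +kernel) (by decide +kernel) rfl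

/-- every numbered set carrying the system `g24` is invariant -/
theorem smul_mem_set24 {α : Type*} [MulAction M24 α] {P : Pts α} {w : ℕ} {nets : List Net}
    (S : Sys P w g24 nets) (g : M24) (x : α) (hx : x ∈ P.set) : g • x ∈ P.set :=
  S.smul_mem_set (by rw [closure_g24]; trivial) hx

end H13
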