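import Cfsg.Agent.H13.F24
import Cfsg.Agent.H13.Fast

/-! The model of Fi24 with tables: `H13.F24.evf`, `mo`, `Is`, `of_type`. -/

namespace H13.F24

def R : ℕ := nat_lit 0x1000000000000000000000000000000000000000000000000000000000000000000000000001000000000000000000000000000000000000000000000000000000000000000000000000001000000000000000000000000000000000000000000000000000000000000000000000000001000000000000000000000000000000000000000000000000000000000000000000000000001000000000000000000000000000000000000000000000000000000000000000000000000001000000000000000000000000000000000000000000000000000000000000000000000000001000000000000000000000000000000000000000000000000000000000000000000000000001000000000000000000000000000000000000000000000000000000000000000000000000001000000000000000000000000000000000000000000000000000000000000000000000000001000000000000000000000000000000000000000000000000000000000000000000000000001000000000000000000000000000000000000000000000000000000000000000000000000001000000000000000000000000000000000000000000000000000000000000000000000000001000000000000000000000000000000000000000000000000000000000000000000000000001000000000000000000000000000000000000000000000000000000000000000000000000001000000000000000000000000000000000000000000000000000000000000000000000000001000000000000000000000000000000000000000000000000000000000000000000000000001000000000000000000000000000000000000000000000000000000000000000000000000001000000000000000000000000000000000000000000000000000000000000000000000000001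

def M : ℕ := nat_lit 0xffffffffffffffffffffffffffffffffffffffffffffffffffffffffffffffffffffffffffe

/-- the evaluator -/
noncomputable def evf : ℕ → ℕ → ℕ := evF tabs (nat_lit 19) (nat_lit 300) (nat_lit 5) (nat_lit 5) R M

theorem evlf : Ev (finPts 306936) gen evf :=
  evl.fast (by decide : 306936 ≤ 2 ^ 19) (by decide : 306936 ≤ 307200) (by decide +kernel)

theorem dw_eq : evalW gen [11] = gen 11 := mul_one _

theorem mo : Mo 306936 31672 2510411418381323442585600 nets evf [11] bs (conjugatesOf (evalW gen [11])) gen :=
  ⟨⟨_, _, _, _, sys, evlf, hI, finPts_all _, by decide, dw_eq ▸ cls, fixd, base⟩, rfl, card_eq,
    eq_top_iff.2 (top.ge.trans (Subgroup.closure_mono (Set.image_subset_range _ _)))⟩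

/-- the tables describe `gen` and `D` -/
abbrev Is {G : Type*} [Group G] (D : Set G) (gen : ℕ → G) : Prop :=
  Mo 306936 31672 2510411418381323442585600 nets evf [11] bs D gen

theorem of_type {G : Type*} [Group G] [Finite G] {D : Set G} (hD : Cfsg.IsThreeTranspositionGroup D)
    (hp : Cfsg.IsPrimitiveUnderConj D) (ht : Cfsg.IsOfTypeM24 G D) : ∃ gen, Is D gen := by
  obtain ⟨e, he⟩ := T24.model (H29.t24_of_type hD hp ht) hD.2.2 ht.1
  have := mo.map e.symm
  rw [dw_eq, ← he, Set.image_image, show (fun x => e.symm (e x)) = id from funext e.symm_apply_apply, Set.image_id] at this
  exact ⟨_, this⟩

end H13.F24
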