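import Cfsg.Agent.H13.M24Rank
import Cfsg.Agent.H13.Misc

/-!
Point stabilisers in `M24` (namespace H13): `sysPt : Sys P24 12 g0 netsPt`, words `h23`, `h22`, `h21` (fixing 23; 23,0; 23,0,1), `fix23/22/21`,
transitivity on ordered points `ex_pt`, `ex_pt2`, `ex_pt3`; invariance of `∃ o ∈ octads, φ c o` (`smul_ex_oct`).
-/

namespace H13

open Cfsg MulAction
open scoped Pointwise

/-- networks at width 12 -/
noncomputable def netsPt : List Net := [mkNet (nat_lit 12) (nat_lit 24) (nat_lit 0x400000000000000000000080000080000000080808222222555555),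
  mkNet (nat_lit 12) (nat_lit 24) (nat_lit 0x114400323000a0a0000006c0000ff0000930f0b04301033411441),
  mkNet (nat_lit 12) (nat_lit 24) (nat_lit 0x1505402012300d000000001c00009e00001e010706220120050410)]

theorem sysPt : Sys P24 12 g0 netsPt := sys0.rewidth (by norm_num) (by decide) g0_of_le (by decide +kernel)

/-- generators -/
def h23 : List (List ℕ) := [[0], [2]]

theorem fix23 : ∀ g ∈ clW g0 h23, g • P24.pt 23 = P24.pt 23 :=
  (sysPt.clW_fix (b := 23) (by decide +kernel) rfl)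

theorem orb23 : Orbs (clW g0 h23) (Set.univ) (fun j => P24.pt (nthN [23, 0] j)) [1, 23] :=
  sysPt.orbsW _ (nat_lit 0x900a00b00a00b00c00d00e00d00e00f00b00c00d00e00c00d00b00c00d00e00c008) 3 _ _ P24_set (by decide +kernel)

/-- generators -/
def h22 : List (List ℕ) := [[2], [0, 0, 0, 0, 0, 2, 0]]

theorem fix22 : ∀ g ∈ clW g0 h22, g • (P24.pt 23, P24.pt 0) = (P24.pt 23, P24.pt 0) :=
  (fix_prod (sysPt.clW_fix (b := 23) (by decide +kernel) rfl)
    (sysPt.clW_fix (b := 0) (by decide +kernel) rfl))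

theorem orb22 : Orbs (clW g0 h22) (Set.univ) (fun j => P24.pt (nthN [0, 23, 1] j)) [1, 1, 22] :=
  sysPt.orbsW _ (nat_lit 0x8013013012014014016015015013014014015011015016013011012013014012010000) 3 _ _ P24_set (by decide +kernel)

/-- generators -/
def h21 : List (List ℕ) := [[0, 2, 0, 2, 0, 2], [0, 0, 2, 2, 0, 2, 0, 0, 2]]

theorem fix21 : ∀ g ∈ clW g0 h21, g • ((P24.pt 23, P24.pt 0), P24.pt 1) = ((P24.pt 23, P24.pt 0), P24.pt 1) :=
  (fix_prod (fix_prod (sysPt.clW_fix (b := 23) (by decide +kernel) rfl)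
    (sysPt.clW_fix (b := 0) (by decide +kernel) rfl))
    (sysPt.clW_fix (b := 1) (by decide +kernel) rfl))

theorem orb21 : Orbs (clW g0 h21) (Set.univ) (fun j => P24.pt (nthN [0, 1, 23, 2] j)) [1, 1, 1, 21] :=
  sysPt.orbsW _ (nat_lit 0x20032036033036038035035039031035033034032034033034034035036037030010000) 4 _ _ P24_set (by decide +kernel)

theorem ex_pt (p : GolayPt) : ∃ g : M24, g • P24.pt 23 = p :=
  have := sys0.orbit_top_eq_set (us := [[0], [1], [2]]) (E := nat_lit 0x20c40c41461c51841051451441051850c1) (b := 23) (by decide +kernel) (smul_mem_set0 sys0) (y := 23)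
    (by decide)
  (show p ∈ orbit M24 (P24.pt 23) by rw [this, P24_set]; trivial)

theorem ex_pt2 {p q : GolayPt} (h : p ≠ q) : ∃ g : M24, g • (P24.pt 23, P24.pt 0) = (p, q) :=
  orb23.rel_trans fix23 smul_univ_iff (ex_pt p) (fun c x => c ≠ x) (fun g _ _ h => (MulAction.injective g).ne h) 1 rfl
    (by decide +kernel) trivial h

theorem ex_pt3 {p q r : GolayPt} (h : p ≠ q) (h' : p ≠ r) (h'' : q ≠ r) :
    ∃ g : M24, g • ((P24.pt 23, P24.pt 0), P24.pt 1) = ((p, q), r) :=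
  orb22.rel_trans fix22 smul_univ_iff (ex_pt2 h) (fun c x => c.1 ≠ x ∧ c.2 ≠ x)
    (fun g _ _ h => ⟨(MulAction.injective g).ne h.1, (MulAction.injective g).ne h.2⟩) 2 rfl
    (by decide +kernel) trivial ⟨h', h''⟩

theorem smul_ex_oct {φ ψ : Finset GolayPt → Prop} (g : M24) (h : ∀ o, ψ (g • o) ↔ φ o) :
    (∃ o ∈ octads, ψ o) ↔ ∃ o ∈ octads, φ o :=
  ⟨fun ⟨o, h1, h2⟩ => ⟨g⁻¹ • o, (smul_oct_iff _ _).2 h1, (h _).1 (by rwa [smul_inv_smul])⟩,
    fun ⟨o, h1, h2⟩ => ⟨g • o, (smul_oct_iff _ _).2 h1, (h _).2 h2⟩⟩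

end H13
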