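import Cfsg.Agent.H13.Ub
import Cfsg.Agent.H13.Tw
import Cfsg.Agent.H13.M11
import Cfsg.Agent.H13.SzM
import Cfsg.Agent.H13.SuzK
import Cfsg.Agent.H13.Lin2
import Cfsg.Agent.H19.RecM11

/-! The subgroup 3^5:M11 of the Suzuki group: `H13.SzA.Is`, `good`, `main`. -/

set_option maxRecDepth 100000
set_option Elab.async false

namespace H13.SzA

open Subgroup Cfsg Suz

def as : List (List ℕ) := [[1, 6, 0, 1, 2, 3, 1, 2, 0, 1, 6, 5, 1, 2, 3, 2, 0, 1, 5, 2, 0, 1], [2, 1, 5, 6, 1, 2, 3, 2, 0, 1, 6, 5, 0, 1, 2, 3, 2, 0, 1, 5, 0, 1, 2, 1, 0, 1, 0], [1, 5, 6, 1, 2, 3, 2, 0, 1, 6, 0, 1, 2, 3, 2, 1, 5, 3, 0, 1, 0, 1, 2, 3, 2, 1, 0], [6, 2, 3, 2, 1, 5, 6, 1, 2, 3, 2, 1, 6, 5, 1, 2, 3, 1, 2, 0, 1, 5, 3, 1, 2, 1, 0, 1], [1, 2, 3, 2, 3, 1, 2, 3, 2, 3, 1, 2, 3, 2, 3, 1, 2, 3, 2, 3, 1, 2, 3, 2, 3]]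

def hs : List (List ℕ) := [[3, 2, 1, 5, 1, 2, 3], [1, 2, 3, 4, 2, 3, 1, 2, 1, 0, 1, 6, 5, 3, 2, 3, 4, 3, 2, 3, 1, 0, 1, 2, 3, 4, 3, 1, 2, 3, 2, 1], [5, 3, 1, 2, 0, 1, 5, 3, 1], [5, 3, 4, 2, 3, 2, 1, 6, 2, 3, 4, 2, 3, 2, 0, 1, 5, 4, 3, 1, 2, 3, 4, 3, 2, 3], [3, 2, 3, 1, 2, 3, 0, 1, 2, 3]]

def lv : List (ℕ × List (List ℕ × ℕ)) := [(0, [([1, 3, 6, 4, 2], 8), ([1, 0, 6, 3, 1, 6, 1, 4, 2], 8), ([4, 3, 5, 6, 1, 5], 3), ([0, 5, 2], 2), ([5, 3, 6, 3, 6, 3, 1, 5], 2), ([3, 6], 2), ([0, 2, 0, 1, 2], 2), ([6, 1, 5, 1, 4, 2, 1, 5, 6], 2), ([4, 3, 1], 2)]),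
 (417, [([3, 2, 1], 8), ([4, 1, 3, 5, 2], 8), ([3, 5], 2), ([2, 5, 3, 2, 0], 2), ([2, 5, 4], 2), ([5, 1, 0, 2, 3, 2, 1, 2], 2), ([2, 1, 5, 4, 3, 0, 2, 1], 2), ([1, 4, 0, 5, 2, 1, 3], 2), ([5, 1, 5, 1, 0, 5, 3, 1], 2)]),
 (1706, [([2, 3, 2, 0, 1, 5, 2, 3, 1, 2, 3, 4, 1, 2, 3, 0, 1, 0, 1, 2, 3, 4, 0, 1, 0, 1, 2, 0, 1], 8), ([3, 1, 2, 3, 0, 1, 2, 3, 4, 0, 1, 2, 3, 0, 1, 2, 3, 4, 3, 1, 0, 1, 2, 3, 0, 1, 2, 3], 3)]),
 (1539, [([2, 3, 2, 1, 5, 0, 1, 2, 3, 1, 0, 1, 2, 3, 4, 1, 2, 0, 1, 0, 1, 2, 3], 3)]),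
 (14, [([1, 5, 1, 0, 1, 2, 3, 1, 2, 0, 1, 5, 0, 1, 2, 3, 1, 0, 1, 2, 3, 4, 2, 3, 1, 0, 1, 0], 6), ([5, 3, 1, 2, 3, 0, 1, 2, 3, 4, 0, 1, 2, 3, 0, 1, 2, 3, 4, 3, 0, 1, 0, 1, 2, 3, 0, 1, 2, 3], 2), ([1, 5, 4, 3, 2, 3, 4, 1, 2, 3, 2, 1, 5, 0, 1, 0, 1, 2, 3, 4, 2, 3, 2, 1, 0, 1, 2, 3, 0, 1, 2], 2)]),
 (82, [([1, 5, 4, 0, 1, 2, 3, 1, 2, 0, 1, 5, 3, 0, 1, 0, 1, 2, 3, 4, 1, 0, 1, 2, 3, 1, 0, 1], 6), ([1, 5, 4, 0, 1, 2, 3, 1, 2, 0, 1, 5, 1, 0, 1, 2, 3, 4, 2, 3, 1, 2, 3, 4, 3, 0, 1, 2, 3, 0, 1, 2, 3, 0, 1, 0, 1, 2, 1], 6), ([1, 5, 4, 1, 0, 1, 2, 3, 1, 2, 0, 1, 5, 2, 3, 4, 3, 0, 1, 2, 3, 0, 1, 2, 3, 4, 2, 1, 0, 1], 2), ([2, 3, 4, 3, 1, 2, 3, 0, 1, 0, 1, 2, 3, 4, 1, 2, 3, 0, 1, 0, 1, 2], 2)]),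
 (1, [([1, 5, 3, 1, 2, 3, 4, 1, 2, 3, 2, 0, 1, 5, 2, 1, 0, 1, 2, 3, 4, 3, 2, 3, 1, 2, 3, 4, 3, 2, 3, 2, 1, 0, 1, 2, 3, 0, 1, 2], 3)])]

def O0 : ℕ := nat_lit 0x1000000000000000000000000000006000000000000000000080c0300440121120084122028200021490490245440895b195290e9c000000000000000000000000000000000000400000000000000404010000060000000004000000000004080020088414c4044001

def F0 : ℕ := nat_lit 0x10000000000000000000000000020060000004000800004001c0c0310c489211200c412252a2501214b64b82555cde95bdf57fbffe00000000000000000000000000000000000040200000060000040401800006004010101c000e0401020c08c42608c495c495caef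

theorem o0 : band (band (Nat.beq (orbM (evG ev as) [([0], 3), ([1], 3), ([2], 3), ([3], 3), ([4], 3)] 0 0) O0) (allL (fun s => inB 0 5 s.1) [([0], 3), ([1], 3), ([2], 3), ([3], 3), ([4], 3)]))
    (allLt (fun c => O0.testBit (evW (evG ev as) (wd (fun _ => 3) 5 0 c) 0)) (po (fun _ => 3) 5 0)) = true := by decide +kernel

theorem f0 : band (band (band (inB 0 5 [4]) (Nat.beq (evW (evG ev as) [4] 0) 0)) (allLt (fun i => F0.testBit i == Nat.beq (evW (evG ev as) [4] i) i) 1782))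
    (allLt (fun c => bor (!Nat.beq (evW (evG ev as) (wd (fun _ => 3) 5 0 c) 0) 0) (!allLt (fun k => !eqB (evG ev as) bs [(wd (fun _ => 3) 5 0 c, powW [4] k)]) 3)) (po (fun _ => 3) 5 0)) = true := by decide +kernel

def O1 : ℕ := nat_lit 0x1000000400004002000004000000000220000000300000050000ca000000000000000080006000010000083210c0003000040000a0000100000008080000000000000000000040000000002024000100000000000000000000024000000180000200100000000110000000000000800000a00001000202000002000000001000040000000000000020000000000000000008008000004000000000001000000800100000000000148000060000020000082000000040200002000000001000800000000000001100000006000010000000000000000000000000000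

def F1 : ℕ := nat_lit 0x20001000020400584002600004000000001222002000300104053000ca840000001104010080006000010008083210c0603400840000a00201100000080800000000060800180000400000008022240801001800000000020000000240000009c0000a20100000140194000002000000880000a0008300020300020240000000180004012000200000002080800000000000000800c0000040000000000010060008021000000000001d80200680000200300c2400000060228202000000001010c00000004200001100000006100010000001000000000000000000000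

theorem o1 : band (band (Nat.beq (orbM (evG ev as) [([0], 3), ([1], 3), ([2], 3), ([3], 3), ([4], 3)] 1706 0) O1) (allL (fun s => inB 0 5 s.1) [([0], 3), ([1], 3), ([2], 3), ([3], 3), ([4], 3)]))
    (allLt (fun c => O1.testBit (evW (evG ev as) (wd (fun _ => 3) 5 0 c) 1706)) (po (fun _ => 3) 5 0)) = true := by decide +kernel

theorem f1 : band (band (band (inB 0 5 [1, 2, 2, 3, 3, 4]) (Nat.beq (evW (evG ev as) [1, 2, 2, 3, 3, 4] 1706) 1706)) (allLt (fun i => F1.testBit i == Nat.beq (evW (evG ev as) [1, 2, 2, 3, 3, 4] i) i) 1782))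
    (allLt (fun c => bor (!Nat.beq (evW (evG ev as) (wd (fun _ => 3) 5 0 c) 1706) 1706) (!allLt (fun k => !eqB (evG ev as) bs [(wd (fun _ => 3) 5 0 c, powW [1, 2, 2, 3, 3, 4] k)]) 3)) (po (fun _ => 3) 5 0)) = true := by decide +kernel

theorem ch : chG ev 1782 8 223 7 lv [] = 448345497600 := by decide +kernel

theorem cu : chU ev 8 223 [([0], O0), ([0], F0), ([1706], O1), ([1706], F1)] lv [] = 7920 * 243 := by decide +kernel

theorem pa : allLt (pcOk (evG ev as) bs (fun _ => 3) 5 false [[1, 1, 1, 1, 1], [1, 1, 1, 1, 1], [1, 1, 1, 1, 1], [1, 1, 1, 1, 1], [1, 1, 1, 1, 1]]) 5 = true := by decide +kernel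

theorem ca : chG (evG ev as) 1782 8 223 5 [(0, [([0], 3), ([1], 3), ([2], 3), ([3], 3)]), (12, [([4], 3)])] [] = 243 := by decide +kernel

theorem nm : allLt (fun l => nmW ev bs as 5 0 (nthW hs l) (nthW [[nat_lit 0x2420c6210420, nat_lit 37849152, nat_lit 34, nat_lit 0x8c4208400, nat_lit 36],
 [nat_lit 32, nat_lit 37882912, nat_lit 0x48318841, nat_lit 0x8c4208400, nat_lit 0x2420c6210420],
 [nat_lit 36800544, nat_lit 33, nat_lit 0x906308400, nat_lit 0x48310400, nat_lit 36],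
 [nat_lit 0x908210400, nat_lit 33, nat_lit 36, nat_lit 0x8c4208400, nat_lit 34],
 [nat_lit 32, nat_lit 0x48318841, nat_lit 37882912, nat_lit 0x8c4208400, nat_lit 36]] l)) 5 = true := by decide +kernel

theorem ny : allL (fun l => nmW ev bs as 5 4 [l] [if l = 3 then 1156 else 36]) [0, 1, 2, 3, 5, 6] = true := by decide +kernel

/-- a model of the Suzuki group -/
def Is {G : Type*} [Group G] (gen : ℕ → G) : Prop := Nat.card G = 448345497600 ∧ Nat.card (clW gen [[0], [1], [2], [3], [5], [6]]) = 19595520 ∧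
  ∃ (α : Type) (_ : MulAction G α) (pt : ℕ → α), Sm 1782 ev bs gen pt

theorem is : Is gen := ⟨card_eq, card_c3, _, _, _, sm⟩

variable {G : Type*} [Group G] {gen : ℕ → G}

theorem Is.map {H : Type*} [Group H] (M : Is gen) (e : G ≃* H) : Is fun l => e (gen l) :=
  let ⟨a, b, _, _, _, S⟩ := M
  ⟨(Nat.card_congr e.toEquiv).symm.trans a, (map_clW e.toMonoidHom _ ▸ card_map_of_injective e.injective).trans b, _, _, _, S.map e⟩

variable [Finite G] (M : Is gen)
include M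

theorem ea : IsElementaryAbelian 3 (tl (genW gen as) 5 0) ∧ Nat.card (tl (genW gen as) 5 0) = 3 ^ 5 := by
  obtain ⟨-, -, _, _, _, S⟩ := M
  refine ⟨ea_closure ?_ ?_, le_antisymm (((S.genW as).pc pa).1.card_le (Nat.zero_le _)) (ca.ge.trans ((S.genW as).card_ge (by decide) _))⟩
  · rintro _ ⟨i, p, rfl⟩ _ ⟨j, q, rfl⟩
    simpa using (S.genW as).eq1 ((by decide +kernel : ∀ i < 5, ∀ j < 5, eqB (evG ev as) bs [([i, j], [j, i])] = true) i p.2 j q.2)
  · rintro _ ⟨i, p, rfl⟩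
    simpa [pow_succ, mul_assoc] using (S.genW as).eq1 ((by decide +kernel : ∀ i < 5, eqB (evG ev as) bs [([i, i, i], [])] = true) i p.2)

theorem good {A : Subgroup G} (hA : A = tl (genW gen as) 5 0) : centralizer (A : Set G) = A ∧
    ∃ _ : (A.subgroupOf (normalizer (A : Set G))).Normal, Spor.IsoM11 (normalizer (A : Set G) ⧸ A.subgroupOf (normalizer (A : Set G))) := by
  obtain ⟨a, b⟩ := hA ▸ ea M
  obtain ⟨c, -, _, _, pt, S⟩ := M
  have pc := ((S.genW as).pc pa).1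
  have u : Nat.card (normalizer (A : Set G)) ≤ 7920 * 243 := cu ▸ S.card_le (by decide) (by
    simpa [hA] using ⟨(S.genW as).inv_orb pc (by decide) o0, (S.genW as).inv_fix pc (by decide) f0, (S.genW as).inv_orb pc (by decide) o1,
      (S.genW as).inv_fix pc (by decide) f1⟩) lv (c.trans ch.symm).le
  have R : Rels (genW gen hs) M11.rels := (S.genW hs).evl.rels S.base (by decide +kernel)
  have := M11.simple
  have ne : ¬Commute (genW gen hs 0) (genW gen as 0) := fun h => by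
    have := (S.act (nthW hs 0 ++ nthW as 0) (i := 0) (by decide)).2
    rw [evalW_append, ← genW_eq, ← genW_eq, h.eq, genW_eq, genW_eq, ← evalW_append, (S.act _ (by decide)).2] at this
    exact absurd (S.inj _ (S.act _ (by decide)).1 _ (S.act _ (by decide)).1 this) (by decide +kernel)
  obtain ⟨e⟩ := equiv_of_pair (gen := M11.gen) (gen' := genW gen hs) (M11.card_eq ▸ M11.cardG (M11.hI.pair
    (inv_of_rels (m := 5) (fun _ q => genW_of_le q) (by decide) R (by decide +kernel))) (M11.hR.pair R))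
    (clW_pres_top (genL_idx M11.hgs) fun x => by revert x; decide) (u := [0]) (by decide) fun h => ne (by simp [show genW gen hs 0 = 1 by simpa using h])
  have nW : clW (genW gen hs) [[0], [1], [2], [3], [4]] ≤ normalizer (A : Set G) := clW_le fun u h => by
    obtain ⟨l, q, rfl⟩ := (by decide : ∀ u ∈ [[0], [1], [2], [3], [4]], ∃ l < 5, u = [l]) u h
    simpa [genW_eq, hA] using S.nm' (allLt_iff.1 nm l q)
  have z : pCore 3 M11.Gp = ⊥ := (Normal.eq_bot_or_eq_top inferInstance).resolve_right fun h => by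
    obtain ⟨k, q⟩ := (H02.pCore_eq_top_iff.1 h).exists_card_eq
    exact absurd (Nat.prime_two.dvd_of_dvd_pow (q ▸ M11.card_eq ▸ by decide : 2 ∣ 3 ^ k)) (by decide)
  obtain ⟨-, N, ⟨f⟩⟩ := split_quot le_normalizer nW nW (.of_card (n := 5) b) e.symm z (by rwa [M11.card_eq, b])
  have := f.isSimpleGroup
  have l : A ≤ centralizer (A : Set G) := le_centralizer_iff_isMulCommutative.2 a.1
  refine ⟨le_antisymm (fun x hx => ?_) l, N, H19.isoM11_of_simple ((Nat.card_congr f.toEquiv).trans M11.card_eq)⟩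
  rcases (Normal.map (H := (centralizer (A : Set G)).subgroupOf (normalizer (A : Set G))) inferInstance _
    (QuotientGroup.mk'_surjective (A.subgroupOf _))).eq_bot_or_eq_top with r | r
  · exact (QuotientGroup.eq_one_iff (N := A.subgroupOf (normalizer (A : Set G))) ⟨x, centralizer_le_normalizer _ hx⟩).1 (r.le ⟨_, hx, rfl⟩)
  · obtain ⟨t, p, q⟩ := r.ge (mem_top (QuotientGroup.mk ⟨_, nW (evalW_mem_clW (u := [0]) (by decide))⟩))
    exact (ne (by simpa [commute_iff_eq] using (mem_centralizer_iff.1 (mul_mem (mem_subgroupOf.1 p) (l (mem_subgroupOf.1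
      (QuotientGroup.eq.1 ((QuotientGroup.mk'_apply (A.subgroupOf _) t).symm.trans q))))) _ (hA ▸ mem_tl (j := 0) le_rfl (by decide))).symm)).elim

theorem main {Y : Subgroup G} (hY : Y = zpowers ((gen 1 * gen 2 * gen 3 * gen 2 * gen 3) ^ 5)) (P : Sylow 3 (normalizer (Y : Set G))) :
    ¬3 ∣ ((P : Subgroup (normalizer (Y : Set G))).map (normalizer (Y : Set G)).subtype).index ∧
    ∃ A : Subgroup G, A ≤ (P : Subgroup (normalizer (Y : Set G))).map (normalizer (Y : Set G)).subtype ∧ IsElementaryAbelian 3 A ∧ Nat.card A = 3 ^ 5 ∧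
      centralizer (A : Set G) = A ∧ ∃ _ : (A.subgroupOf (normalizer (A : Set G))).Normal,
        Spor.IsoM11 (normalizer (A : Set G) ⧸ A.subgroupOf (normalizer (A : Set G))) := by
  replace hY : Y = tl (genW gen as) 5 4 := by
    rw [hY, tl, show {j | 4 ≤ j ∧ j < 5} = {4} by ext; simp; omega, Set.image_singleton, ← zpowers_eq_closure, genW_eq]
    exact congrArg _ (Eq.symm ((evalW_powW (gen := gen) [1, 2, 3, 2, 3] 5).trans (by simp [mul_assoc])))
  obtain ⟨a, b⟩ := ea M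
  have l : tl (genW gen as) 5 0 ≤ normalizer (Y : Set G) := (le_centralizer_iff_isMulCommutative.2 a.1).trans
    ((centralizer_le (hY.trans_le (tl_mono _ _ (by decide)))).trans (centralizer_le_normalizer _))
  obtain ⟨Q, q⟩ := ((IsPGroup.of_card (n := 5) b).of_equiv (subgroupOfEquivOfLe l).symm).exists_le_sylow
  obtain ⟨n, rfl⟩ := MulAction.exists_smul_eq (normalizer (Y : Set G)) Q P
  have M' := M.map (MulAut.conj (n : G))
  refine ⟨fun h => ?_, _, tl_le fun j _ p => ⟨n * ⟨_, l (mem_tl j.zero_le p)⟩ * n⁻¹, smul_mem_pointwise_smul _ (MulAut.conj n) _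
    (q (mem_tl j.zero_le p)), by simp only [genW_eq]; exact map_evalW (MulAut.conj (n : G)).toMonoidHom _ _⟩, (ea M').1, (ea M').2, good M' rfl⟩
  obtain ⟨c, d, _, _, _, S⟩ := M
  have k : clW gen [[0], [1], [2], [3], [5], [6]] ≤ normalizer (Y : Set G) := clW_le fun u h => by
    obtain ⟨l, q, rfl⟩ := (by decide : ∀ u ∈ [[0], [1], [2], [3], [5], [6]], ∃ l ∈ [0, 1, 2, 3, 5, 6], u = [l]) u h
    exact hY ▸ S.nm' (allL_iff.1 ny l q)
  have := mul_dvd_mul h ((n • Q).pow_dvd_card_of_pow_dvd_card (n := 7) ((by decide : 3 ^ 7 ∣ 19595520).trans (d ▸ card_dvd_of_le k)))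
  rw [← card_map_of_injective (normalizer (Y : Set G)).subtype_injective, index_mul_card, c] at this
  exact absurd this (by decide)

end H13.SzA
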