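import Cfsg.Agent.H13.Y22T
import Cfsg.Agent.H13.I22
import Cfsg.Agent.H13.Tw
import Cfsg.Agent.H13.Ct2

/-! Outer involutions of Fi22: centralisers. -/

set_option maxRecDepth 100000
set_option Elab.async false

namespace H13.Y22

def es : List (List ℕ) := [[0, 2, 10, 3, 12, 1, 0, 1, 12, 3, 10, 2], [2, 10, 0, 10, 3, 12, 1, 0, 1, 12, 3, 2], [4, 2, 10, 0, 10, 3, 12, 1, 0, 1, 12, 3, 2, 4], [11, 0, 11, 0, 1, 13, 3, 10, 0, 10, 3, 13, 1, 0], [1, 9, 11, 0, 11, 9, 10, 5, 13, 10, 0, 10, 13, 5, 10, 1], [9, 0, 10, 0, 10, 0, 5, 2, 13, 11, 0, 11, 13, 2, 5, 9]]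

def hs : List (List ℕ) := [[0], [11, 0, 11], [11, 9, 10, 0, 10, 9, 11], [4, 11, 9, 10, 0, 10, 9, 11, 4], [12, 11, 13, 1, 0, 1, 13, 11, 12], [4, 1, 9, 11, 0, 11, 9, 1, 4]]

def uR : ℕ :=
 nat_lit 0xdb6c8fc1ebc5bbdbbbba8b69b0eb06b04af1ab2a4fa4da399fd9e597f97d96992d9158ba8a789d8658527fb7e87de7a679370f6e967b6555f55d058155c52051e4c64c445a4123df3c93ad39738538237c35f35c3563283103002fd2ee2eb28f27f26d26926025c24a23422c21d21321020c2081df1ca19018f18415a15214e10c1091041010e30d50b40ac08807706d06404604503d03c03b01a01000f00d008007001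

def uT0 : ℕ :=
 nat_lit 0xd5af263c587069d19f365b566c57ad7ef5db96e84f9d36655a94e95193225ca8b123c683021c27cfddba7af1b3568e5c3764cd7ae62c16ac56a94a84e992a446890a03e78e9c3668c982e58a9426488901e3868c16284880e182840608080

def uT1 : ℕ :=
 nat_lit 0x96cf49f3b990abc788a602f79310b768e58ae2eaa3a6a4b279e566ccd72990530822c4870868406f9e9e00e911118d9ab4d5258b012216acc8aa928a1752a4a8e72c6d0f33d93668cc7bf467612649c5c1e3a0b7ac297ae0e1a4407e080bb

def uT2 : ℕ :=
 nat_lit 0xa93ece8cf9b2dec78b0e0bf92adca56b4d0af36eeba36e9d8d532b4e72f1b3a8f1a2c486de0b460b9eca77225b88525ac066c98bf5ef8a17568549d4e98c1f448d51b487941c40688255858aad22489991e3838c16280881a002840608486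

def uT3 : ℕ :=
 nat_lit 0xd7ab1e4a956968d33e84dbf7aed1b76acd8995b367a796e61c53b057972a4c872f1b3a86f60bb5ec614681123b86f15ab466c9f307eb969a3ea90a528994243a6149e568119c36b0ca22e40aa71c488961e4c68c161c18814182801208084

def uT4 : ℕ :=
 nat_lit 0xd7aac68bf99c5dc76b0b5cf5725cb78a869af5af548549bd99f026b496fa4bf831a1c48b4e3ce9129eae76c1ce5a2db04c66c98ba5ef16a84c4d4ac38ac3a446888a03e20ba73628c8d3a3021454490901e38c16166849e4a181950a08080

def uT5 : ℕ :=
 nat_lit 0xd7ab4e8a13de64c756a3ab36aeb9b77afd86d5b161a71a3e7cd3a245972a4c8a34a64d6909bc07ef9ee57782e2e835d84366c98b55ee0cac56a90283a9928f2840f293e8539736696963860aa32604422483860d16284910e082840618900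

noncomputable def uev : ℕ → ℕ → ℕ := evS (nat_lit 7) [uT0, uT1, uT2, uT3, uT4, uT5]

def ubs : List ℕ := [85, 55, 77, 25, 84, 44]

def ulv : List (ℕ × List (List ℕ × ℕ)) := [(85, [([5, 4, 2, 3, 1, 2, 5, 1, 2, 3, 4, 0, 1, 2, 3, 2, 0, 1], 8), ([3], 2), ([5, 4, 2, 3, 0, 1, 2, 5, 1, 2, 3, 4, 0, 1, 2, 3, 2, 0, 1, 0], 3), ([4, 3, 2, 5, 2, 3, 4, 1, 2, 3, 0, 1, 2, 5, 4, 2, 3, 0, 1], 2), ([4, 2, 3, 0, 1, 2, 5, 3, 1, 2, 0, 1, 0], 2), ([0], 2)]),
 (55, [([5, 4, 2, 3, 1, 2, 5, 0, 1, 2, 3, 4, 0, 1, 2, 3, 2, 0, 1], 6), ([2, 3, 1, 2, 5, 3, 1, 2], 3), ([4, 3, 1, 2, 5, 0, 1, 2, 3, 4, 0, 1, 2, 3, 0, 1, 2, 0], 2), ([5, 4, 2, 3, 1, 2, 5, 0, 1, 2, 3, 4, 0, 1, 2, 3, 2, 0, 1], 2)]),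
 (77, [([2, 5, 0, 1, 2, 3, 4, 3, 1, 2, 1, 0], 3), ([2, 3, 1, 2, 5, 3, 1, 2], 2)]),
 (25, [([2, 3, 1, 2, 5, 3, 1, 2], 3)]),
 (84, [([2, 3, 1, 2, 5, 2, 3, 1, 2], 2)])]

def elv : List (ℕ × List (List ℕ × ℕ)) := [(0, [([1], 2)]),
 (695, [([0], 2), ([1, 2], 2), ([1, 3], 2), ([4], 2), ([1, 5], 2)])]

def ers : List (List ℕ) := [[nat_lit 1, nat_lit 1, nat_lit 1, nat_lit 1, nat_lit 1, nat_lit 1],
 [nat_lit 1, nat_lit 1, nat_lit 1, nat_lit 1, nat_lit 1, nat_lit 1],
 [nat_lit 1, nat_lit 1, nat_lit 1, nat_lit 1, nat_lit 1, nat_lit 1],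
 [nat_lit 1, nat_lit 1, nat_lit 1, nat_lit 1, nat_lit 1, nat_lit 1],
 [nat_lit 1, nat_lit 1, nat_lit 1, nat_lit 1, nat_lit 1, nat_lit 1],
 [nat_lit 1, nat_lit 1, nat_lit 1, nat_lit 1, nat_lit 1, nat_lit 1]]

def nmL : List (List ℕ) := [[nat_lit 32, nat_lit 1056, nat_lit 1088, nat_lit 1120, nat_lit 36, nat_lit 1184],
 [nat_lit 1120, nat_lit 1121, nat_lit 34, nat_lit 35, nat_lit 1155, nat_lit 1187],
 [nat_lit 32, nat_lit 37985, nat_lit 34, nat_lit 37, nat_lit 36, nat_lit 35],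
 [nat_lit 32, nat_lit 33, nat_lit 37985, nat_lit 35, nat_lit 38931521, nat_lit 35905],
 [nat_lit 32, nat_lit 1155, nat_lit 34, nat_lit 35, nat_lit 1121, nat_lit 37],
 [nat_lit 32, nat_lit 1154, nat_lit 34, nat_lit 35, nat_lit 1089, nat_lit 1216577]]

def wlv : List (ℕ × List (List ℕ × ℕ)) := [(78, [([1, 0, 5, 6, 4, 2, 3], 8), ([3, 2, 4, 0, 3], 2), ([2, 6, 1, 0, 2, 1, 3], 2), ([5, 4, 1, 3, 5, 2, 6, 4], 2), ([2, 1, 6, 5, 2], 2)]),
 (90, [([1, 0, 5, 2, 4, 3], 8), ([5, 3, 1, 0, 2], 2), ([1, 2, 3], 2), ([2, 5, 4, 1, 0, 5, 3, 1, 2], 2)]),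
 (91, [([3, 5, 2, 0, 1], 8), ([0, 2, 5, 0, 3, 0, 1, 0, 2], 2)]),
 (72, [([3, 1, 0, 2], 5)]),
 (79, [([1, 2, 0], 4)]),
 (112, [([0, 1], 3)]),
 (81, [([0], 2)])]

noncomputable def aX : List (List ℕ) := [nthW reps 0]

noncomputable def am : List (List ℕ) := nthW reps 0 :: I22.rs

noncomputable def aA0 : ℕ :=
 nat_lit 0x3fd3beffbf9fdffee7f9ffff3bffffafdff3fd7f3fffbfefffde3fffffbf5f3effffbfdcb7befbc76ded71faf77f5dffffffcb8ffbc6bfe5fc5dbfbdefeffcfdef73ab3ec7fecae09b2c7d361caf6f1fffff746ffffffadfeff27ccddeb461fe74787fb85edffffffbf59bd3f7559b330255768367fbf1b08ddfedbcb9d506e715ef3be88b60f8693b361f53d67169afd1888d138dbc998d265d983bfbfcc340990b4c7e4b2cb6f4c63dcb3bfffd5362a2021a0f787989057a063edcdd9341ab8c73d035a328aedc4e2c4008faa34239b2acfe94b9f362d4ffbecd4b48001e39c1c35aa2eb2bcf133a254171c6b73cb001a0dc181fd7b0911cac263c6202c910452c6169723903ccc2205e708c98045bc11d6a0081f104722058d156865b81805c400ed8842057815a40000190650765c11b81900390650345c23a00028163b88e8100e058ee02c0040cd30b0010334c90614890614c28810a204a92a5146400c001220018100000484009012821100000410400b091144000000000802c040400000000040508000040100003042100000000200200600000000000000040001000000000000002000000000008400000000000000000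

noncomputable def as0E : ℕ :=
 nat_lit 0x2c4000406020011806000000000050000c0280c000001000214000000000000000002300010438020002050000800000003020040140020000000210000000000040000800341000528000a20090000000820000000100000c020000018a00088380008000000000080020000020000002003480000c0810000000000818084800401000000010c000000800000610024160006001021000000500000000a02000100020c30801200020000000200015048010000040000018c020000000401200280800c300000000011400401500000001204400800000002084208000000400000d0080000001020000214080004012000700000040c0400000112800000092100000000000101800000100202000000014000000000200080800800020208cc00101140000008908860000100000004001000100003000440901020000001000040610042100000000000004000000040000020000005000094009000020f00000060414400002000c0200000000080000004000000000024000000000000000124808102000000081488000050000000401040004002c0800002810000a03008002084100a0800008840600000000400000448800010001010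00004601000000000010000100a0000000040008600000100000000000000000010000802281000000000000001c01004004800000000404000000001000060005440014a0000880000000002000000000000000008008000180008000002000000000020008000000000000000900000100040000000002040202001000000000003000000000000184009040001c0040800000004000000000080004000810c0000800000000000800004020040000000000023000000000000400020200008000002000000010050000000008110000000000080108a0000100000002000000020000800008102000100440014000001030100000044800000004840020000000000200000840480800000001000000000000000000200000082010000044000008000021800004000000100040030028040011004000800000000001008001080000000000000100000000000000800000000002100000000030000000010000000080030000000000020000001000000000008040000000000000009002040800000000100000010000000100500000000b0000000a0800000080200003100010200002210180000000100000102000200000006020000002000000000010000c0000800000000021c00000400000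00000003000004180000800100008000000030300000401000000002000000000000000010002100000200000200900000008200000001000008020020018e0008020000000000000008000000002000000200000000000000000000000010004000400000000010c0000008000004100000200030000000000000000000002000001000000308000000200000000000010480100000400000000020000000400000280000c00000108001140000000000000100400080000000008402000004040000050000000800020000010080000003000400000000c0000000102000000000000080000000001000002001200000000010000000000000080800000000008c000000140000008108000000000000000001000100a000000409010200000000000006100001000000000000040000000400000200000000000900010000001000000000140000000008020000000008000000000000000000410000000000000012080010000000008008800001000000000000000000040800200020000a00000002040000800000000400000000000000000488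

noncomputable def as0 : Stp := ⟨747, [2, 10], .all, [([0], aA0)], [[1], [2], [6], [7], [8], [9], [3]], 7, 3, as0E⟩

noncomputable def aB1 : List (ℕ × List ℕ) := [(747, [2, 10])]

noncomputable def as1E : ℕ :=
 nat_lit 0x284000404020000000000000000050000c0000800000000000800000400000000000230000000800008a01000000000000307004014002000000021000000000004000180025000040000080000000000000000000000000080000200000000082000080000000000800200000200000020010000004000000000000081800480000100000000000000008000006000000600020000200000005000000000020001000000000010000000000000000040400000000000000104000000000000000280000c20000108001100000040000000120440000000000000002800004040000040000000001000000200080000001000000000000404000000008000000020000800000000000000001012020000000140000000002000808008000200000800001000000200800000000000000004000000800a00000000001020000000000040000040000000000000004000000040000020000004000000008000000f000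000200040000000000020000000000000000000000000000410000000000000000000010200000008100800001000000000000000000040000200820000a030000000000008080000880000000000000000000880010000000800004601800000000000000000a0100000040008500000000000000000000000400c00800001000020000000000000000004000000000004000000000000000004040004a000088024000000208000000040000100000000238002806000000000000000000000000000000000092000020204000000000000020000100000000004300000000000000400904000140040040000000000000028000000000830c20008000800000008000440200400001000000220080000001004800002000040000000000100100440000000000000200000000821000000000000000240200002000080000050000000048001c0000010000000000440000000240400000000000406000008000000000000000000000000000000000000000823100000050000002040218000000000000000400100000c00010200000000000000000184000040000000000000000000000000000000000000021000400008000000010104100000800300000000000200000010000000000080000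00000000000049202000000000000120000010000000100510001000a0200000804000000002000831040180000000101000000000000001100000c000000600001180400000000000000000200c00000100020c000000000000000002300010438000000040000800000000000000000020000000000100000000000000000000000520000a20010000000820000000000000c020020018e00020380000000000000000000000000000000000480000c0010000000000000000000000000000010c000000000000010000000004001001000000500000000a00000000020c3080100000000000020001504801000000000000000000000000012002808004000000000000000401100000000000000800000000004200000000000000d0080000800000000014000004013000500000040800000000128000000900000000000001018000020000000000000000000000000000000000000000080000100140000008100860000100000000000000d0000000044010000000000100000061000200000000000000000000000000000000000100001400900002000000006041040000200040000000000080000004000000000000000000000000000124808002000000000000000000000000401440004002808002000000000000080000c4100608000000404000000000000000000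

noncomputable def as1L0 : List (ℕ × ℕ × ℕ) := [(nat_lit 38, nat_lit 0x1500aa, nat_lit 33),
 (nat_lit 73, nat_lit 0x1611a7, nat_lit 33)]

noncomputable def as1 : Stp := ⟨1123, [4, 10, 11, 10], (.diff .all (.pt 747)), [([0], aA0)], [[1], [2], [6], [7], [8], [4], [5], [9, 3, 6, 9, 3]], 8, 3, as1E⟩

noncomputable def aB2 : List (ℕ × List ℕ) := [(747, [2, 10]), (1123, [4, 10, 11, 10])]

noncomputable def as2E : ℕ :=
 nat_lit 0x24000000402001000000000000004000040200000000000020c00000000000000000030000003000000a0000000000000020000001401000000000101000000000000000001500001080000200000000000000000001000008020000000e000a8200000000000000000020000000000000000000000800000000000008180000000010000000004000000000000000004000006001001000000000000000000000000000430800200000000000200011048010000040000018c00000000000000000080001000010800100000000000000000004000000000000000200000000000008000000000000000000000000401300010000000000000000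0000000000800000000000000008000000010020000000000000000000000800000000000004800000040000008000020000100000000000000100a000000408000000000000000002100000000000000000000000000400000200000000000800000000005000000204144000000008000000000000000000000000000002010000000000000012400010000000000148000000000000040144000000080800000000000a010000000c0000800000000000000000000000004000002100010080000060180000000000400020020300000040000400000100000000000080000400200802001400020000000040c0100000080000000800000000000100006000804000080002800040000002080000000000001000008000000000060002000000000000000000008000000800d2000010204000000000000021200100000000004200000020000018400805800040000800000014000000028080004000820000040000800000000000100000000000000000000080000001004800a00003080000000000500100440000000481000200000000821002000010000000140200002004080000850200000000001000000003000000000420000000484002000000004040000080008000000000100000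00000800000002000080822100000440000080240210000000000001000400300000c000000404000000000000101000108400000000000010000000000000000000014000000024000082800000100000000008001008000000002000000100000000000100000000000000000020200080000002000000001400000000000000100090000080a0c00000080200080000018200002200100000000000000012000000000402000001006000000000000000c0000800000000001c0000040000000000000000104080000800000008000000010700400000200000002100000000000400018002410004280002000900000008200000000000004000020018400000180008000000000080000000000000000003480000408000000000000100040000000000000108000000800000000020120004000020000000400000000202000000000800001000000000000200000000000000000000000c000000000000200280000820000000000140000050000000020000080000000000420800000000000010080000001020000010080000010000600000040404000001028000000921000800000001018000001002000000000100000000002000008008000002088400101100000200900820000000000000000000800201000400100020000001000040000042100000000000000000000000000000000004000014008000020e000000404000000020004020000000000000000400000000002000000000000000000000000200000008000800005000000000000000000240000000800000002000000044100608000080004000000000000000400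

noncomputable def as2L0 : List (ℕ × ℕ × ℕ) := [(nat_lit 3, nat_lit 0x15006a, nat_lit 34),
 (nat_lit 38, nat_lit 0x1500aa, nat_lit 33),
 (nat_lit 73, nat_lit 0x1611a7, nat_lit 33),
 (nat_lit 82, nat_lit 0x10b56c, nat_lit 33)]

noncomputable def as2 : Stp := ⟨1714, [9, 12], (.diff (.diff .all (.pt 747)) (.pt 1123)), [([0], aA0)], [[1], [2], [6], [4], [7, 8, 7], [7, 5, 7], [9, 1, 6, 9, 7, 9, 6, 1, 9], [8, 5, 3, 9, 7, 5, 9, 2, 3, 8]], 8, 3, as2E⟩

noncomputable def aB3 : List (ℕ × List ℕ) := [(747, [2, 10]), (1123, [4, 10, 11, 10]), (1714, [9, 12])]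

noncomputable def as3E : ℕ :=
 nat_lit 0x200000004020010002000000000010000c0000c0000000002000000040000000000003000000080000880100008000000030200401401200000002001000000000400010001400001080008200000000008000000001000008000020010e00008200000000000000000020000000000000003480000c00000000000008180848000010000000100000000800000600024120000000021000000400000000000000000000c30800200000000000200001040010000000000018c02000000000100028000003000010000110000004000000000044000000000020800280000400000000008000000102000000000000001100000000000000000000000000000010000080000000000000000001002000000004000000000200080800000000000cc00000040000000100000000100000000000000100a01000000800000000000000000600002000000000000004000000000000000000000000000000000000f00000060400000000000802000000000000000000000000000041000000000000001008001000000000814800000400000004010000040020000000282000080300000004400020800008800000000000000000000000910000008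00000601000000000000000000a0000000040000200000000000000000080000400c0080008100000000000000040000400000000000040000000000100002000c40001080000800240000000080000000400001008000000000028060002000000000000008000008000000800000000002040000000000020000001000000000003000000200000104000018001c004080000000400000000808000400080000004000080000000000010020000000100000000000000000100080000200200000002000050010044000000040000020000000000100000000000000024000000200408000005020001000800140000010300000000002000000208400000000000406000008400808000000040000000000000000000000080820000000040000002200208000000000001000000300080c0000000040000000040001000401004000000000000000000000000000800000140002100200000800000000000510000080010000000000020000000000000000008000000000000000009002000800000000002000004000000000110000000202000000040000800020008200003000000000000000000000000001020008400040600001000400000000004000000200c00000000021c00000000000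0000000300010438000000000000800000000040000000020000000000100000000000000000001000120000a20010000000820000000000000c020020018e00020380000000000000080000000000000000000480000c0800000000000000000000000000000010c000000000000000000000006000001000000500000000a02000000020c3080100002000000020000504801000000000000000000000000012002808004000000000000000000000000001200000800000000004200000000000000d0080000000000000210000004013000300000040400000001128000000921000000000001018000000000000000000000000000000000000008000000000000101140000208900860000100000004001000d0000000044010002000000100000061004010000000000000000000004000000000000100001000900002000000006041440000000040000000000080000004000000000000000000000000000124808000000000000000000000000000401440004002800000000000000000080000c4100608000000000000000000000000008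

noncomputable def as3L0 : List (ℕ × ℕ × ℕ) := [(nat_lit 7, nat_lit 0x2a00cea, nat_lit 35),
 (nat_lit 14, nat_lit 0x1580eb, nat_lit 34),
 (nat_lit 38, nat_lit 0x1500aa, nat_lit 33),
 (nat_lit 73, nat_lit 0x1611a7, nat_lit 33),
 (nat_lit 74, nat_lit 0x1590eb, nat_lit 35),
 (nat_lit 82, nat_lit 0x10b56c, nat_lit 33),
 (nat_lit 213, nat_lit 0x10a562, nat_lit 33),
 (nat_lit 234, nat_lit 0x2a019c2, nat_lit 33)]

noncomputable def as3 : Stp := ⟨2100, [0, 13], (.diff (.diff (.diff (.diff .all (.pt 747)) (.pt 1123)) (.img [3] (.pt 1123))) (.pt 1714)), [([0], aA0)], [[1], [6], [4], [9, 1, 6, 9, 7, 9, 6, 1, 9], [9, 3, 6, 9, 2, 9, 7, 6, 5, 2, 9], [7, 5, 7, 8, 5, 3, 9, 7, 5, 9, 2, 3, 8]], 6, 3, as3E⟩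

noncomputable def aB4 : List (ℕ × List ℕ) := [(747, [2, 10]), (1123, [4, 10, 11, 10]), (1714, [9, 12]), (2100, [0, 13])]

noncomputable def as4E : ℕ :=
 nat_lit 0x1000080080c0000000000000000000000000000003000004080000020000000000000020300001401000000002001000000000000000000000000080002000100000000200000000000004020000000e0002000000000000000000000000000000000000000000040000000000000800080000001000000000c000000000000000004120001000021000000400000000200000000000010801200000000000000000000000000000000008402000000000000028000000000010800000000000000000000000000000000000800000000000000001008000000000000001000000401000000000000000000000000000000000000080000000100000000000200000000000000000000000080000000000000880000004000000010000000010000000000000010000000000000000000000000004040000000000000000000400000000000000000000000000000000002000000000001000000000000000000000000000000000000000000000000000000000000800000000000001400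00004000000040100000400000000000800000801000000044000000000000000000000000000000000008100000180800460080000000000000010080000000040008200000100000000000080000400e0080220040002000000004000100000080000000040000000000100004000c400000800020802000000020000000004000020080080040000020e0002000000000000008000008000000800d00000302040000000000060012001000000000040000000200000104000010001000400000000040000000000000040008308000000008000000080001412004000010000004000000000010008000020010c000000000450010014000000048110020000000080100800001000000030000000200408000001020001000c00100000000300000000002000000248400000000000006000008404000000000050000000000800002000000000801100000040000002000200000000000001000000300280c000102004000000004000000840000000000000000000000000100000080000014000200000000000c000001010410000080020080000000020000000000000000009000000000000000049000000800000020022000000000000000010000000a020000080c000080802000000000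380000000000000000000000000000002c000040602001000600000000004000080080000000000021c00000000000000000000000002002000a01000080000000106004014010000000000000000000000000180014100050800000000000000000000000010000080000200180000a8180000000000000080000000000000000003080000800000000000000000848004010000000100000000800000600020000003000001000000100000000802000000020400000200000000000000000040000000000000018800000000000120000080083000000000010000004000000012044000000000020842080000000000004000000000102000020000000000200070000004040000000112000000082100000000000001800000000002000000000000000000200000800800020008c400101000000208000060000000000004001000c00201000400900020000001000000210042000000000000004000000000000000000001000014001000000f00000060404400000000c020000000000000000000000000000010000000000000002000010000000008148000005000000000044000000080000000000000202000000000000600000000000000000000000000000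

noncomputable def as4L0 : List (ℕ × ℕ × ℕ) := [(nat_lit 3, nat_lit 0x15006a, nat_lit 35),
 (nat_lit 7, nat_lit 0x2a00cea, nat_lit 36),
 (nat_lit 10, nat_lit 0x152564, nat_lit 35),
 (nat_lit 14, nat_lit 0x1580eb, nat_lit 35),
 (nat_lit 38, nat_lit 0x1500aa, nat_lit 33),
 (nat_lit 73, nat_lit 0x1611a7, nat_lit 33),
 (nat_lit 74, nat_lit 0x1590eb, nat_lit 36),
 (nat_lit 82, nat_lit 0x10b56c, nat_lit 33),
 (nat_lit 87, nat_lit 0x2103928, nat_lit 33),
 (nat_lit 91, nat_lit 0x15a424, nat_lit 33),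
 (nat_lit 111, nat_lit 0x16a545, nat_lit 33),
 (nat_lit 139, nat_lit 0x151188, nat_lit 33),
 (nat_lit 145, nat_lit 0xb8c9, nat_lit 33),
 (nat_lit 213, nat_lit 0x10a562, nat_lit 33),
 (nat_lit 234, nat_lit 0x2a019c2, nat_lit 33),
 (nat_lit 395, nat_lit 0x150d81, nat_lit 34),
 (nat_lit 526, nat_lit 0x215b46a, nat_lit 36),
 (nat_lit 715, nat_lit 0x15846a, nat_lit 33),
 (nat_lit 888, nat_lit 0x2163988, nat_lit 35),
 (nat_lit 1860, nat_lit 0x1515c2, nat_lit 33)]

noncomputable def as4 : Stp := ⟨1131, [0, 11], (.diff (.diff (.diff (.diff (.diff (.diff (.diff .all (.img [4] (.pt 1714))) (.pt 747)) (.pt 1123)) (.img [3] (.pt 1123))) (.pt 1714)) (.pt 2100)) (.img [3, 4] (.pt 1123))), [([0], aA0)], [[6], [4], [9, 1, 6, 9, 7, 9, 6, 1, 9], [9, 3, 6, 9, 2, 9, 7, 6, 5, 2, 9], [1, 2, 3, 9, 6, 3, 9, 4, 9, 3, 6, 9, 3, 2, 1]], 5, 3, as4E⟩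

noncomputable def aB5 : List (ℕ × List ℕ) := [(747, [2, 10]), (1123, [4, 10, 11, 10]), (1714, [9, 12]), (2100, [0, 13]), (1131, [0, 11])]

noncomputable def as5L0 : List (ℕ × ℕ × ℕ) := [(nat_lit 3, nat_lit 0x15006a, nat_lit 33),
 (nat_lit 726, nat_lit 0x21, nat_lit 0),
 (nat_lit 3494, nat_lit 0x22, nat_lit 0),
 (nat_lit 7, nat_lit 0x2a00cea, nat_lit 33),
 (nat_lit 712, nat_lit 0x21, nat_lit 0),
 (nat_lit 3478, nat_lit 0x22, nat_lit 0),
 (nat_lit 10, nat_lit 0x152564, nat_lit 33),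
 (nat_lit 1114, nat_lit 0x21, nat_lit 0),
 (nat_lit 2926, nat_lit 0x22, nat_lit 0),
 (nat_lit 14, nat_lit 0x1580eb, nat_lit 33),
 (nat_lit 3390, nat_lit 0x22, nat_lit 0),
 (nat_lit 3444, nat_lit 0x21, nat_lit 0),
 (nat_lit 38, nat_lit 0x1500aa, nat_lit 36),
 (nat_lit 728, nat_lit 0x20, nat_lit 0),
 (nat_lit 3102, nat_lit 0x22, nat_lit 0),
 (nat_lit 1365, nat_lit 0x22, nat_lit 0),
 (nat_lit 3443, nat_lit 0x21, nat_lit 0),
 (nat_lit 2940, nat_lit 0x21, nat_lit 0),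
 (nat_lit 73, nat_lit 0x1611a7, nat_lit 35),
 (nat_lit 1485, nat_lit 0x20, nat_lit 0),
 (nat_lit 1176, nat_lit 0x21, nat_lit 0),
 (nat_lit 2759, nat_lit 0x22, nat_lit 0),
 (nat_lit 196, nat_lit 0x21, nat_lit 0),
 (nat_lit 1013, nat_lit 0x22, nat_lit 0),
 (nat_lit 2342, nat_lit 0x22, nat_lit 0),
 (nat_lit 2601, nat_lit 0x21, nat_lit 0),
 (nat_lit 2728, nat_lit 0x22, nat_lit 0),
 (nat_lit 1388, nat_lit 0x21, nat_lit 0),
 (nat_lit 3469, nat_lit 0x21, nat_lit 0),
 (nat_lit 3388, nat_lit 0x21, nat_lit 0),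
 (nat_lit 74, nat_lit 0x1590eb, nat_lit 33),
 (nat_lit 1168, nat_lit 0x22, nat_lit 0),
 (nat_lit 1856, nat_lit 0x21, nat_lit 0),
 (nat_lit 82, nat_lit 0x10b56c, nat_lit 35),
 (nat_lit 969, nat_lit 0x20, nat_lit 0),
 (nat_lit 2667, nat_lit 0x22, nat_lit 0),
 (nat_lit 3324, nat_lit 0x22, nat_lit 0),
 (nat_lit 1614, nat_lit 0x21, nat_lit 0),
 (nat_lit 3304, nat_lit 0x21, nat_lit 0),
 (nat_lit 87, nat_lit 0x2103928, nat_lit 35),
 (nat_lit 1972, nat_lit 0x20, nat_lit 0),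
 (nat_lit 2583, nat_lit 0x21, nat_lit 0),
 (nat_lit 1534, nat_lit 0x22, nat_lit 0),
 (nat_lit 478, nat_lit 0x21, nat_lit 0),
 (nat_lit 1306, nat_lit 0x22, nat_lit 0),
 (nat_lit 205, nat_lit 0x22, nat_lit 0),
 (nat_lit 197, nat_lit 0x21, nat_lit 0),
 (nat_lit 2760, nat_lit 0x22, nat_lit 0),
 (nat_lit 2773, nat_lit 0x21, nat_lit 0),
 (nat_lit 2428, nat_lit 0x21, nat_lit 0),
 (nat_lit 2013, nat_lit 0x21, nat_lit 0),
 (nat_lit 91, nat_lit 0x15a424, nat_lit 35),
 (nat_lit 898, nat_lit 0x20, nat_lit 0),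
 (nat_lit 111, nat_lit 0x16a545, nat_lit 35),
 (nat_lit 1743, nat_lit 0x20, nat_lit 0),
 (nat_lit 1341, nat_lit 0x21, nat_lit 0),
 (nat_lit 2369, nat_lit 0x22, nat_lit 0),
 (nat_lit 2586, nat_lit 0x21, nat_lit 0),
 (nat_lit 1164, nat_lit 0x22, nat_lit 0),
 (nat_lit 2855, nat_lit 0x22, nat_lit 0),
 (nat_lit 1483, nat_lit 0x21, nat_lit 0),
 (nat_lit 1814, nat_lit 0x22, nat_lit 0),
 (nat_lit 177, nat_lit 0x21, nat_lit 0),
 (nat_lit 3461, nat_lit 0x21, nat_lit 0),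
 (nat_lit 2884, nat_lit 0x21, nat_lit 0),
 (nat_lit 117, nat_lit 0x151982, nat_lit 35),
 (nat_lit 1722, nat_lit 0x20, nat_lit 0),
 (nat_lit 1023, nat_lit 0x21, nat_lit 0),
 (nat_lit 1908, nat_lit 0x22, nat_lit 0),
 (nat_lit 1969, nat_lit 0x21, nat_lit 0),
 (nat_lit 1035, nat_lit 0x22, nat_lit 0),
 (nat_lit 657, nat_lit 0x22, nat_lit 0),
 (nat_lit 266, nat_lit 0x21, nat_lit 0),
 (nat_lit 3278, nat_lit 0x22, nat_lit 0),
 (nat_lit 1903, nat_lit 0x21, nat_lit 0),
 (nat_lit 3175, nat_lit 0x21, nat_lit 0),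
 (nat_lit 638, nat_lit 0x21, nat_lit 0),
 (nat_lit 118, nat_lit 0xb08d, nat_lit 35),
 (nat_lit 1745, nat_lit 0x20, nat_lit 0),
 (nat_lit 1352, nat_lit 0x21, nat_lit 0),
 (nat_lit 3109, nat_lit 0x22, nat_lit 0),
 (nat_lit 270, nat_lit 0x21, nat_lit 0),
 (nat_lit 2727, nat_lit 0x22, nat_lit 0),
 (nat_lit 3197, nat_lit 0x22, nat_lit 0),
 (nat_lit 2737, nat_lit 0x21, nat_lit 0),
 (nat_lit 1882, nat_lit 0x22, nat_lit 0),
 (nat_lit 3100, nat_lit 0x21, nat_lit 0),
 (nat_lit 1431, nat_lit 0x21, nat_lit 0),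
 (nat_lit 1034, nat_lit 0x21, nat_lit 0),
 (nat_lit 119, nat_lit 0x1684cd, nat_lit 36),
 (nat_lit 1135, nat_lit 0x20, nat_lit 0),
 (nat_lit 134, nat_lit 0x10b889, nat_lit 35),
 (nat_lit 2370, nat_lit 0x20, nat_lit 0),
 (nat_lit 1765, nat_lit 0x21, nat_lit 0),
 (nat_lit 1759, nat_lit 0x22, nat_lit 0),
 (nat_lit 1452, nat_lit 0x21, nat_lit 0),
 (nat_lit 1128, nat_lit 0x22, nat_lit 0),
 (nat_lit 3208, nat_lit 0x22, nat_lit 0),
 (nat_lit 2423, nat_lit 0x21, nat_lit 0),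
 (nat_lit 472, nat_lit 0x22, nat_lit 0),
 (nat_lit 1810, nat_lit 0x21, nat_lit 0),
 (nat_lit 2470, nat_lit 0x21, nat_lit 0),
 (nat_lit 1119, nat_lit 0x21, nat_lit 0),
 (nat_lit 138, nat_lit 0x16a86b, nat_lit 35),
 (nat_lit 1021, nat_lit 0x20, nat_lit 0),
 (nat_lit 2165, nat_lit 0x21, nat_lit 0),
 (nat_lit 3068, nat_lit 0x22, nat_lit 0),
 (nat_lit 1580, nat_lit 0x21, nat_lit 0),
 (nat_lit 2754, nat_lit 0x22, nat_lit 0),
 (nat_lit 2168, nat_lit 0x22, nat_lit 0),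
 (nat_lit 2785, nat_lit 0x21, nat_lit 0),
 (nat_lit 2460, nat_lit 0x22, nat_lit 0),
 (nat_lit 2919, nat_lit 0x21, nat_lit 0),
 (nat_lit 3169, nat_lit 0x21, nat_lit 0),
 (nat_lit 644, nat_lit 0x21, nat_lit 0),
 (nat_lit 139, nat_lit 0x151188, nat_lit 35),
 (nat_lit 2353, nat_lit 0x20, nat_lit 0),
 (nat_lit 2946, nat_lit 0x21, nat_lit 0),
 (nat_lit 2963, nat_lit 0x22, nat_lit 0),
 (nat_lit 406, nat_lit 0x21, nat_lit 0),
 (nat_lit 555, nat_lit 0x22, nat_lit 0),
 (nat_lit 1691, nat_lit 0x22, nat_lit 0),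
 (nat_lit 2098, nat_lit 0x21, nat_lit 0),
 (nat_lit 1929, nat_lit 0x22, nat_lit 0),
 (nat_lit 1243, nat_lit 0x21, nat_lit 0),
 (nat_lit 3090, nat_lit 0x21, nat_lit 0),
 (nat_lit 403, nat_lit 0x21, nat_lit 0),
 (nat_lit 145, nat_lit 0xb8c9, nat_lit 37),
 (nat_lit 998, nat_lit 0x20, nat_lit 0),
 (nat_lit 1561, nat_lit 0x22, nat_lit 0),
 (nat_lit 1659, nat_lit 0x22, nat_lit 0),
 (nat_lit 1527, nat_lit 0x21, nat_lit 0),
 (nat_lit 1444, nat_lit 0x21, nat_lit 0),
 (nat_lit 159, nat_lit 0x2a024eb, nat_lit 33),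
 (nat_lit 1308, nat_lit 0x21, nat_lit 0),
 (nat_lit 1449, nat_lit 0x22, nat_lit 0),
 (nat_lit 168, nat_lit 0xb52a, nat_lit 35),
 (nat_lit 1455, nat_lit 0x20, nat_lit 0),
 (nat_lit 1577, nat_lit 0x21, nat_lit 0),
 (nat_lit 2300, nat_lit 0x22, nat_lit 0),
 (nat_lit 481, nat_lit 0x21, nat_lit 0),
 (nat_lit 1191, nat_lit 0x22, nat_lit 0),
 (nat_lit 3028, nat_lit 0x22, nat_lit 0),
 (nat_lit 2350, nat_lit 0x21, nat_lit 0),
 (nat_lit 3302, nat_lit 0x22, nat_lit 0),
 (nat_lit 908, nat_lit 0x21, nat_lit 0),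
 (nat_lit 3303, nat_lit 0x21, nat_lit 0),
 (nat_lit 2944, nat_lit 0x21, nat_lit 0),
 (nat_lit 169, nat_lit 0x16248a, nat_lit 35),
 (nat_lit 2076, nat_lit 0x20, nat_lit 0),
 (nat_lit 1576, nat_lit 0x21, nat_lit 0),
 (nat_lit 3065, nat_lit 0x22, nat_lit 0),
 (nat_lit 2964, nat_lit 0x21, nat_lit 0),
 (nat_lit 687, nat_lit 0x22, nat_lit 0),
 (nat_lit 351, nat_lit 0x22, nat_lit 0),
 (nat_lit 685, nat_lit 0x21, nat_lit 0),
 (nat_lit 1162, nat_lit 0x22, nat_lit 0),
 (nat_lit 2903, nat_lit 0x21, nat_lit 0),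
 (nat_lit 2422, nat_lit 0x21, nat_lit 0),
 (nat_lit 1190, nat_lit 0x21, nat_lit 0),
 (nat_lit 179, nat_lit 0x1610ab, nat_lit 35),
 (nat_lit 2090, nat_lit 0x20, nat_lit 0),
 (nat_lit 1387, nat_lit 0x21, nat_lit 0),
 (nat_lit 2795, nat_lit 0x22, nat_lit 0),
 (nat_lit 2022, nat_lit 0x21, nat_lit 0),
 (nat_lit 2305, nat_lit 0x22, nat_lit 0),
 (nat_lit 2500, nat_lit 0x22, nat_lit 0),
 (nat_lit 2982, nat_lit 0x21, nat_lit 0),
 (nat_lit 650, nat_lit 0x22, nat_lit 0),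
 (nat_lit 3448, nat_lit 0x21, nat_lit 0),
 (nat_lit 2924, nat_lit 0x21, nat_lit 0),
 (nat_lit 2653, nat_lit 0x21, nat_lit 0),
 (nat_lit 203, nat_lit 0x15258d, nat_lit 35),
 (nat_lit 913, nat_lit 0x20, nat_lit 0),
 (nat_lit 2563, nat_lit 0x21, nat_lit 0),
 (nat_lit 2190, nat_lit 0x22, nat_lit 0),
 (nat_lit 1888, nat_lit 0x21, nat_lit 0),
 (nat_lit 2507, nat_lit 0x22, nat_lit 0),
 (nat_lit 2341, nat_lit 0x22, nat_lit 0),
 (nat_lit 2499, nat_lit 0x21, nat_lit 0),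
 (nat_lit 3143, nat_lit 0x22, nat_lit 0),
 (nat_lit 658, nat_lit 0x21, nat_lit 0),
 (nat_lit 3309, nat_lit 0x21, nat_lit 0),
 (nat_lit 2344, nat_lit 0x21, nat_lit 0),
 (nat_lit 213, nat_lit 0x10a562, nat_lit 35),
 (nat_lit 1141, nat_lit 0x20, nat_lit 0),
 (nat_lit 1231, nat_lit 0x21, nat_lit 0),
 (nat_lit 1749, nat_lit 0x22, nat_lit 0),
 (nat_lit 227, nat_lit 0x21, nat_lit 0),
 (nat_lit 1982, nat_lit 0x22, nat_lit 0),
 (nat_lit 234, nat_lit 0x2a019c2, nat_lit 34),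
 (nat_lit 1621, nat_lit 0x20, nat_lit 0),
 (nat_lit 1488, nat_lit 0x21, nat_lit 0),
 (nat_lit 335, nat_lit 0x21, nat_lit 0),
 (nat_lit 2887, nat_lit 0x22, nat_lit 0),
 (nat_lit 2197, nat_lit 0x22, nat_lit 0),
 (nat_lit 235, nat_lit 0x16046c, nat_lit 35),
 (nat_lit 1251, nat_lit 0x20, nat_lit 0),
 (nat_lit 1349, nat_lit 0x21, nat_lit 0),
 (nat_lit 3370, nat_lit 0x22, nat_lit 0),
 (nat_lit 409, nat_lit 0x21, nat_lit 0),
 (nat_lit 3470, nat_lit 0x22, nat_lit 0),
 (nat_lit 1690, nat_lit 0x22, nat_lit 0),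
 (nat_lit 1947, nat_lit 0x21, nat_lit 0),
 (nat_lit 922, nat_lit 0x22, nat_lit 0),
 (nat_lit 3033, nat_lit 0x21, nat_lit 0),
 (nat_lit 2949, nat_lit 0x21, nat_lit 0),
 (nat_lit 2272, nat_lit 0x21, nat_lit 0),
 (nat_lit 237, nat_lit 0x1689cc, nat_lit 35),
 (nat_lit 2483, nat_lit 0x20, nat_lit 0),
 (nat_lit 1194, nat_lit 0x21, nat_lit 0),
 (nat_lit 2735, nat_lit 0x22, nat_lit 0),
 (nat_lit 1688, nat_lit 0x21, nat_lit 0),
 (nat_lit 693, nat_lit 0x22, nat_lit 0),
 (nat_lit 2794, nat_lit 0x22, nat_lit 0),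
 (nat_lit 2237, nat_lit 0x21, nat_lit 0),
 (nat_lit 2324, nat_lit 0x22, nat_lit 0),
 (nat_lit 3185, nat_lit 0x21, nat_lit 0),
 (nat_lit 3359, nat_lit 0x21, nat_lit 0),
 (nat_lit 3202, nat_lit 0x21, nat_lit 0),
 (nat_lit 250, nat_lit 0x159584, nat_lit 35),
 (nat_lit 1265, nat_lit 0x20, nat_lit 0),
 (nat_lit 1641, nat_lit 0x21, nat_lit 0),
 (nat_lit 2486, nat_lit 0x22, nat_lit 0),
 (nat_lit 2184, nat_lit 0x21, nat_lit 0),
 (nat_lit 3361, nat_lit 0x22, nat_lit 0),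
 (nat_lit 3225, nat_lit 0x22, nat_lit 0),
 (nat_lit 2897, nat_lit 0x21, nat_lit 0),
 (nat_lit 3501, nat_lit 0x22, nat_lit 0),
 (nat_lit 686, nat_lit 0x21, nat_lit 0),
 (nat_lit 2395, nat_lit 0x21, nat_lit 0),
 (nat_lit 2729, nat_lit 0x21, nat_lit 0),
 (nat_lit 272, nat_lit 0x169d4d, nat_lit 35),
 (nat_lit 3080, nat_lit 0x20, nat_lit 0),
 (nat_lit 2816, nat_lit 0x21, nat_lit 0),
 (nat_lit 2028, nat_lit 0x22, nat_lit 0),
 (nat_lit 2179, nat_lit 0x21, nat_lit 0),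
 (nat_lit 1679, nat_lit 0x22, nat_lit 0),
 (nat_lit 2117, nat_lit 0x22, nat_lit 0),
 (nat_lit 3196, nat_lit 0x21, nat_lit 0),
 (nat_lit 987, nat_lit 0x22, nat_lit 0),
 (nat_lit 339, nat_lit 0x21, nat_lit 0),
 (nat_lit 2023, nat_lit 0x21, nat_lit 0),
 (nat_lit 2185, nat_lit 0x21, nat_lit 0),
 (nat_lit 282, nat_lit 0x215a584, nat_lit 35),
 (nat_lit 1012, nat_lit 0x20, nat_lit 0),
 (nat_lit 2027, nat_lit 0x21, nat_lit 0),
 (nat_lit 2588, nat_lit 0x22, nat_lit 0),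
 (nat_lit 1032, nat_lit 0x21, nat_lit 0),
 (nat_lit 2191, nat_lit 0x22, nat_lit 0),
 (nat_lit 1590, nat_lit 0x22, nat_lit 0),
 (nat_lit 3351, nat_lit 0x21, nat_lit 0),
 (nat_lit 342, nat_lit 0x22, nat_lit 0),
 (nat_lit 3160, nat_lit 0x21, nat_lit 0),
 (nat_lit 1195, nat_lit 0x21, nat_lit 0),
 (nat_lit 1616, nat_lit 0x21, nat_lit 0),
 (nat_lit 312, nat_lit 0x216adcc, nat_lit 35),
 (nat_lit 1934, nat_lit 0x20, nat_lit 0),
 (nat_lit 314, nat_lit 0x216046c, nat_lit 35),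
 (nat_lit 1092, nat_lit 0x20, nat_lit 0),
 (nat_lit 1396, nat_lit 0x21, nat_lit 0),
 (nat_lit 3224, nat_lit 0x22, nat_lit 0),
 (nat_lit 1928, nat_lit 0x21, nat_lit 0),
 (nat_lit 3371, nat_lit 0x22, nat_lit 0),
 (nat_lit 3171, nat_lit 0x22, nat_lit 0),
 (nat_lit 3108, nat_lit 0x21, nat_lit 0),
 (nat_lit 3020, nat_lit 0x22, nat_lit 0),
 (nat_lit 1957, nat_lit 0x21, nat_lit 0),
 (nat_lit 2087, nat_lit 0x21, nat_lit 0),
 (nat_lit 603, nat_lit 0x21, nat_lit 0),
 (nat_lit 344, nat_lit 0x1609a3, nat_lit 35),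
 (nat_lit 2274, nat_lit 0x20, nat_lit 0),
 (nat_lit 1955, nat_lit 0x21, nat_lit 0),
 (nat_lit 2901, nat_lit 0x22, nat_lit 0),
 (nat_lit 834, nat_lit 0x21, nat_lit 0),
 (nat_lit 684, nat_lit 0x22, nat_lit 0),
 (nat_lit 3101, nat_lit 0x22, nat_lit 0),
 (nat_lit 2491, nat_lit 0x21, nat_lit 0),
 (nat_lit 2562, nat_lit 0x22, nat_lit 0),
 (nat_lit 2849, nat_lit 0x21, nat_lit 0),
 (nat_lit 3195, nat_lit 0x21, nat_lit 0),
 (nat_lit 3078, nat_lit 0x21, nat_lit 0),
 (nat_lit 381, nat_lit 0x15a9c8, nat_lit 35),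
 (nat_lit 1062, nat_lit 0x20, nat_lit 0),
 (nat_lit 2326, nat_lit 0x22, nat_lit 0),
 (nat_lit 1113, nat_lit 0x20, nat_lit 0),
 (nat_lit 1526, nat_lit 0x21, nat_lit 0),
 (nat_lit 388, nat_lit 0x20, nat_lit 0),
 (nat_lit 2312, nat_lit 0x21, nat_lit 0),
 (nat_lit 395, nat_lit 0x150d81, nat_lit 33),
 (nat_lit 1935, nat_lit 0x21, nat_lit 0),
 (nat_lit 984, nat_lit 0x22, nat_lit 0),
 (nat_lit 412, nat_lit 0x17308d, nat_lit 35),
 (nat_lit 1884, nat_lit 0x20, nat_lit 0),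
 (nat_lit 1648, nat_lit 0x21, nat_lit 0),
 (nat_lit 3433, nat_lit 0x22, nat_lit 0),
 (nat_lit 914, nat_lit 0x21, nat_lit 0),
 (nat_lit 2755, nat_lit 0x22, nat_lit 0),
 (nat_lit 3350, nat_lit 0x22, nat_lit 0),
 (nat_lit 2753, nat_lit 0x21, nat_lit 0),
 (nat_lit 593, nat_lit 0x22, nat_lit 0),
 (nat_lit 2948, nat_lit 0x21, nat_lit 0),
 (nat_lit 2589, nat_lit 0x21, nat_lit 0),
 (nat_lit 2096, nat_lit 0x21, nat_lit 0),
 (nat_lit 526, nat_lit 0x215b46a, nat_lit 33),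
 (nat_lit 602, nat_lit 0x2b22189, nat_lit 33),
 (nat_lit 2149, nat_lit 0x21, nat_lit 0),
 (nat_lit 1562, nat_lit 0x22, nat_lit 0),
 (nat_lit 617, nat_lit 0x1521c9, nat_lit 33),
 (nat_lit 2212, nat_lit 0x21, nat_lit 0),
 (nat_lit 1754, nat_lit 0x22, nat_lit 0),
 (nat_lit 642, nat_lit 0x214b4a4, nat_lit 33),
 (nat_lit 1799, nat_lit 0x21, nat_lit 0),
 (nat_lit 731, nat_lit 0x22, nat_lit 0),
 (nat_lit 715, nat_lit 0x15846a, nat_lit 36),
 (nat_lit 1213, nat_lit 0x20, nat_lit 0),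
 (nat_lit 748, nat_lit 0x544, nat_lit 33),
 (nat_lit 750, nat_lit 0xa9ac, nat_lit 33),
 (nat_lit 3499, nat_lit 0x22, nat_lit 0),
 (nat_lit 3229, nat_lit 0x21, nat_lit 0),
 (nat_lit 888, nat_lit 0x2163988, nat_lit 33),
 (nat_lit 893, nat_lit 0x21, nat_lit 0),
 (nat_lit 2325, nat_lit 0x22, nat_lit 0),
 (nat_lit 940, nat_lit 0x564, nat_lit 33),
 (nat_lit 976, nat_lit 0x2a59922, nat_lit 33),
 (nat_lit 2548, nat_lit 0x21, nat_lit 0),
 (nat_lit 1048, nat_lit 0x22, nat_lit 0),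
 (nat_lit 994, nat_lit 0xac07, nat_lit 33),
 (nat_lit 1199, nat_lit 0x22, nat_lit 0),
 (nat_lit 2054, nat_lit 0x21, nat_lit 0),
 (nat_lit 1205, nat_lit 0x10b062, nat_lit 33),
 (nat_lit 2239, nat_lit 0x22, nat_lit 0),
 (nat_lit 1360, nat_lit 0x21, nat_lit 0),
 (nat_lit 1492, nat_lit 0x1680a7, nat_lit 37),
 (nat_lit 2364, nat_lit 0x20, nat_lit 0),
 (nat_lit 1560, nat_lit 0x10b46a, nat_lit 33),
 (nat_lit 1821, nat_lit 0xb426, nat_lit 35),
 (nat_lit 2711, nat_lit 0x20, nat_lit 0),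
 (nat_lit 1824, nat_lit 0xb1c9, nat_lit 33),
 (nat_lit 1858, nat_lit 0x21, nat_lit 0),
 (nat_lit 2921, nat_lit 0x22, nat_lit 0),
 (nat_lit 1860, nat_lit 0x1515c2, nat_lit 35),
 (nat_lit 2229, nat_lit 0x20, nat_lit 0),
 (nat_lit 1870, nat_lit 0x162448, nat_lit 36),
 (nat_lit 3434, nat_lit 0x20, nat_lit 0),
 (nat_lit 2555, nat_lit 0x1589aa, nat_lit 35),
 (nat_lit 3498, nat_lit 0x20, nat_lit 0),
 (nat_lit 2739, nat_lit 0x1535cc, nat_lit 33)]

noncomputable def as5 : Stp := ⟨777, [1, 12, 8, 10], (.diff (.diff (.diff (.diff (.diff (.diff (.diff (.diff (.diff (.diff (.diff .all (.img [4] (.pt 1714))) (.pt 747)) (.img [4] (.pt 1131))) (.pt 1123)) (.pt 1131)) (.img [3] (.pt 1123))) (.img [3, 4, 5] (.pt 1123))) (.pt 1714)) (.pt 2100)) (.img [4, 3] (.pt 1131))) (.img [3, 4] (.pt 1123))), [([0], aA0)], [[6], [4], [9, 1, 6, 9, 7, 9, 6, 1, 9]], 0, 0, 0⟩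

noncomputable def aB6 : List (ℕ × List ℕ) := [(747, [2, 10]), (1123, [4, 10, 11, 10]), (1714, [9, 12]), (2100, [0, 13]), (1131, [0, 11]), (777, [1, 12, 8, 10])]

noncomputable def as6L0 : List (ℕ × ℕ × ℕ) := [(nat_lit 7, nat_lit 0x2a00cea, nat_lit 34),
 (nat_lit 38, nat_lit 0x1500aa, nat_lit 33),
 (nat_lit 3443, nat_lit 0x20, nat_lit 0),
 (nat_lit 74, nat_lit 0x1590eb, nat_lit 37),
 (nat_lit 1856, nat_lit 0x20, nat_lit 0),
 (nat_lit 119, nat_lit 0x1684cd, nat_lit 33),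
 (nat_lit 145, nat_lit 0xb8c9, nat_lit 33),
 (nat_lit 1527, nat_lit 0x20, nat_lit 0),
 (nat_lit 234, nat_lit 0x2a019c2, nat_lit 33),
 (nat_lit 2887, nat_lit 0x20, nat_lit 0),
 (nat_lit 335, nat_lit 0x10a566, nat_lit 33),
 (nat_lit 388, nat_lit 0x21009a6, nat_lit 33),
 (nat_lit 2312, nat_lit 0x20, nat_lit 0),
 (nat_lit 395, nat_lit 0x150d81, nat_lit 36),
 (nat_lit 984, nat_lit 0x20, nat_lit 0),
 (nat_lit 526, nat_lit 0x215b46a, nat_lit 37),
 (nat_lit 617, nat_lit 0x1521c9, nat_lit 36),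
 (nat_lit 642, nat_lit 0x214b4a4, nat_lit 37),
 (nat_lit 712, nat_lit 0xa809, nat_lit 34),
 (nat_lit 3478, nat_lit 0x20, nat_lit 0),
 (nat_lit 715, nat_lit 0x15846a, nat_lit 33),
 (nat_lit 728, nat_lit 0xa845, nat_lit 33),
 (nat_lit 2940, nat_lit 0x20, nat_lit 0),
 (nat_lit 731, nat_lit 0xaca9, nat_lit 37),
 (nat_lit 1799, nat_lit 0x20, nat_lit 0),
 (nat_lit 748, nat_lit 0x544, nat_lit 34),
 (nat_lit 3229, nat_lit 0x20, nat_lit 0),
 (nat_lit 976, nat_lit 0x2a59922, nat_lit 36),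
 (nat_lit 1048, nat_lit 0x20, nat_lit 0),
 (nat_lit 998, nat_lit 0xac05, nat_lit 33),
 (nat_lit 1444, nat_lit 0x20, nat_lit 0),
 (nat_lit 1135, nat_lit 0xac29, nat_lit 33),
 (nat_lit 1168, nat_lit 0x1698e8, nat_lit 37),
 (nat_lit 1213, nat_lit 0x214a144, nat_lit 33),
 (nat_lit 1365, nat_lit 0x10ad0d, nat_lit 33),
 (nat_lit 1488, nat_lit 0x214b560, nat_lit 33),
 (nat_lit 1492, nat_lit 0x1680a7, nat_lit 33),
 (nat_lit 1526, nat_lit 0x168466, nat_lit 33),
 (nat_lit 2326, nat_lit 0x20, nat_lit 0),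
 (nat_lit 1561, nat_lit 0xa9c4, nat_lit 33),
 (nat_lit 1621, nat_lit 0x214b564, nat_lit 33),
 (nat_lit 2197, nat_lit 0x20, nat_lit 0),
 (nat_lit 1659, nat_lit 0x10b064, nat_lit 33),
 (nat_lit 1754, nat_lit 0xb407, nat_lit 36),
 (nat_lit 2212, nat_lit 0x20, nat_lit 0),
 (nat_lit 1824, nat_lit 0xb1c9, nat_lit 36),
 (nat_lit 1858, nat_lit 0xb403, nat_lit 36),
 (nat_lit 2921, nat_lit 0x20, nat_lit 0),
 (nat_lit 1870, nat_lit 0x162448, nat_lit 33),
 (nat_lit 1935, nat_lit 0x158dc0, nat_lit 36),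
 (nat_lit 2364, nat_lit 0x172544, nat_lit 33),
 (nat_lit 2548, nat_lit 0x2103464, nat_lit 36),
 (nat_lit 2739, nat_lit 0x1535cc, nat_lit 36),
 (nat_lit 3102, nat_lit 0x169dc0, nat_lit 33),
 (nat_lit 3434, nat_lit 0x162c48, nat_lit 33),
 (nat_lit 3499, nat_lit 0xad86, nat_lit 38)]

noncomputable def as6 : Stp := ⟨750, [12, 13, 10], (.diff (.diff (.diff (.diff (.diff (.diff (.diff (.nb [9, 12]) (.pt 747)) (.pt 777)) (.img [1] (.pt 777))) (.pt 1131)) (.img [3, 4, 5] (.pt 1123))) (.pt 1714)) (.img [3, 4] (.pt 1123))), [([0], aA0)], [[9, 3, 6, 9, 3, 5, 3, 9, 6, 3, 9]], 0, 0, 0⟩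

noncomputable def aB7 : List (ℕ × List ℕ) := [(747, [2, 10]), (1123, [4, 10, 11, 10]), (1714, [9, 12]), (2100, [0, 13]), (1131, [0, 11]), (777, [1, 12, 8, 10]), (750, [12, 13, 10])]

noncomputable def as7L0 : List (ℕ × ℕ × ℕ) := [(nat_lit 7, nat_lit 0x2a00cea, nat_lit 34),
 (nat_lit 10, nat_lit 0x152564, nat_lit 35),
 (nat_lit 74, nat_lit 0x1590eb, nat_lit 37),
 (nat_lit 159, nat_lit 0x2a024eb, nat_lit 35),
 (nat_lit 526, nat_lit 0x215b46a, nat_lit 37),
 (nat_lit 642, nat_lit 0x214b4a4, nat_lit 37),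
 (nat_lit 712, nat_lit 0xa809, nat_lit 34),
 (nat_lit 731, nat_lit 0xaca9, nat_lit 37),
 (nat_lit 748, nat_lit 0x544, nat_lit 39),
 (nat_lit 888, nat_lit 0x2163988, nat_lit 35),
 (nat_lit 893, nat_lit 0x152d24, nat_lit 35),
 (nat_lit 940, nat_lit 0x564, nat_lit 35),
 (nat_lit 994, nat_lit 0xac07, nat_lit 35),
 (nat_lit 1114, nat_lit 0x15890a, nat_lit 35),
 (nat_lit 1168, nat_lit 0x1698e8, nat_lit 37),
 (nat_lit 1199, nat_lit 0x16110a, nat_lit 35),
 (nat_lit 1308, nat_lit 0xac03, nat_lit 35),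
 (nat_lit 1449, nat_lit 0xb127, nat_lit 35),
 (nat_lit 1799, nat_lit 0x1604c9, nat_lit 37),
 (nat_lit 1856, nat_lit 0x1595c9, nat_lit 37),
 (nat_lit 2054, nat_lit 0xb123, nat_lit 35),
 (nat_lit 2325, nat_lit 0xadc0, nat_lit 35),
 (nat_lit 2926, nat_lit 0x2a5b940, nat_lit 35),
 (nat_lit 3229, nat_lit 0x15b58a, nat_lit 38),
 (nat_lit 3478, nat_lit 0x15b062, nat_lit 39)]

noncomputable def as7 : Stp := ⟨3499, [6, 12, 11], (.diff (.diff (.diff (.diff (.diff (.diff (.inter (.nb [0, 13]) (.nb [2, 10])) (.pt 747)) (.pt 750)) (.pt 1123)) (.img [3, 4, 5] (.pt 1123))) (.pt 2100)) (.img [4, 3] (.pt 1131))), [([0], aA0)], [], 0, 0, 0⟩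

noncomputable def aB8 : List (ℕ × List ℕ) := [(747, [2, 10]), (1123, [4, 10, 11, 10]), (1714, [9, 12]), (2100, [0, 13]), (1131, [0, 11]), (777, [1, 12, 8, 10]), (750, [12, 13, 10]), (3499, [6, 12, 11])]

noncomputable def as8L0 : List (ℕ × ℕ × ℕ) := [(nat_lit 14, nat_lit 0x1580eb, nat_lit 35),
 (nat_lit 38, nat_lit 0x1500aa, nat_lit 33),
 (nat_lit 91, nat_lit 0x15a424, nat_lit 33),
 (nat_lit 119, nat_lit 0x1684cd, nat_lit 33),
 (nat_lit 312, nat_lit 0x216adcc, nat_lit 33),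
 (nat_lit 728, nat_lit 0xa845, nat_lit 33),
 (nat_lit 898, nat_lit 0x1580a7, nat_lit 33),
 (nat_lit 976, nat_lit 0x2a59922, nat_lit 37),
 (nat_lit 1048, nat_lit 0xac87, nat_lit 37),
 (nat_lit 1135, nat_lit 0xac29, nat_lit 33),
 (nat_lit 1205, nat_lit 0x10b062, nat_lit 35),
 (nat_lit 1360, nat_lit 0x214b826, nat_lit 35),
 (nat_lit 1365, nat_lit 0x10ad0d, nat_lit 33),
 (nat_lit 1824, nat_lit 0xb1c9, nat_lit 39),
 (nat_lit 1858, nat_lit 0xb403, nat_lit 39),
 (nat_lit 1934, nat_lit 0x1595c0, nat_lit 33),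
 (nat_lit 2239, nat_lit 0x172164, nat_lit 35),
 (nat_lit 2548, nat_lit 0x2103464, nat_lit 37),
 (nat_lit 2739, nat_lit 0x1535cc, nat_lit 37),
 (nat_lit 2940, nat_lit 0x172589, nat_lit 33),
 (nat_lit 3102, nat_lit 0x169dc0, nat_lit 33),
 (nat_lit 3390, nat_lit 0x1695c0, nat_lit 35),
 (nat_lit 3443, nat_lit 0xb161, nat_lit 33),
 (nat_lit 3444, nat_lit 0x1501c9, nat_lit 35)]

noncomputable def as8 : Stp := ⟨2921, [4, 14, 11], (.diff (.diff (.diff (.diff (.img [3] (.nb [4, 10, 11, 10])) (.nb [0, 13])) (.img [4] (.pt 1714))) (.pt 1131)) (.img [3] (.pt 1123))), [([0], aA0)], [], 0, 0, 0⟩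

noncomputable def aB9 : List (ℕ × List ℕ) := [(747, [2, 10]), (1123, [4, 10, 11, 10]), (1714, [9, 12]), (2100, [0, 13]), (1131, [0, 11]), (777, [1, 12, 8, 10]), (750, [12, 13, 10]), (3499, [6, 12, 11]), (2921, [4, 14, 11])]

noncomputable def as9L0 : List (ℕ × ℕ × ℕ) := [(nat_lit 73, nat_lit 0x1611a7, nat_lit 1219619),
 (nat_lit 87, nat_lit 0x2103928, nat_lit 1312037),
 (nat_lit 111, nat_lit 0x16a545, nat_lit 1220739),
 (nat_lit 117, nat_lit 0x151982, nat_lit 1219619),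
 (nat_lit 118, nat_lit 0xb08d, nat_lit 1087592),
 (nat_lit 134, nat_lit 0x10b889, nat_lit 1219619),
 (nat_lit 138, nat_lit 0x16a86b, nat_lit 1344645),
 (nat_lit 139, nat_lit 0x151188, nat_lit 1220739),
 (nat_lit 168, nat_lit 0xb52a, nat_lit 1219619),
 (nat_lit 169, nat_lit 0x16248a, nat_lit 1219619),
 (nat_lit 177, nat_lit 0x1595a8, nat_lit 1344645),
 (nat_lit 179, nat_lit 0x1610ab, nat_lit 1219619),
 (nat_lit 196, nat_lit 0x150187, nat_lit 1219619),
 (nat_lit 197, nat_lit 0x150185, nat_lit 1219619),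
 (nat_lit 203, nat_lit 0x15258d, nat_lit 1344645),
 (nat_lit 205, nat_lit 0x10b922, nat_lit 1220739),
 (nat_lit 235, nat_lit 0x16046c, nat_lit 1218596),
 (nat_lit 237, nat_lit 0x1689cc, nat_lit 1219619),
 (nat_lit 250, nat_lit 0x159584, nat_lit 1344645),
 (nat_lit 266, nat_lit 0xb04d, nat_lit 1218596),
 (nat_lit 270, nat_lit 0xa80c, nat_lit 1218596),
 (nat_lit 272, nat_lit 0x169d4d, nat_lit 1344645),
 (nat_lit 282, nat_lit 0x215a584, nat_lit 1219619),
 (nat_lit 314, nat_lit 0x216046c, nat_lit 1344645),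
 (nat_lit 339, nat_lit 0x1609a5, nat_lit 1219619),
 (nat_lit 342, nat_lit 0x1609a7, nat_lit 1219619),
 (nat_lit 344, nat_lit 0x1609a3, nat_lit 1219619),
 (nat_lit 351, nat_lit 0x150183, nat_lit 1344645),
 (nat_lit 403, nat_lit 0x16384d, nat_lit 1219619),
 (nat_lit 406, nat_lit 0x2161d69, nat_lit 1218596),
 (nat_lit 409, nat_lit 0x2b4b449, nat_lit 1220739),
 (nat_lit 412, nat_lit 0x17308d, nat_lit 1219619),
 (nat_lit 472, nat_lit 0x2160d69, nat_lit 1344645),
 (nat_lit 478, nat_lit 0x214b446, nat_lit 1220739),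
 (nat_lit 481, nat_lit 0x16244a, nat_lit 1219619),
 (nat_lit 555, nat_lit 0x16a8ab, nat_lit 1220739),
 (nat_lit 593, nat_lit 0x160963, nat_lit 1219619),
 (nat_lit 603, nat_lit 0x160965, nat_lit 1219619),
 (nat_lit 638, nat_lit 0x15354b, nat_lit 1090628),
 (nat_lit 644, nat_lit 0x2a131c4, nat_lit 1312037),
 (nat_lit 650, nat_lit 0x2b131c1, nat_lit 1312037),
 (nat_lit 657, nat_lit 0xb04b, nat_lit 1218596),
 (nat_lit 658, nat_lit 0x2b2b984, nat_lit 1219619),
 (nat_lit 684, nat_lit 0x2a6a963, nat_lit 1344645),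
 (nat_lit 685, nat_lit 0x2a6a967, nat_lit 1312037),
 (nat_lit 686, nat_lit 0x2a6a965, nat_lit 1344645),
 (nat_lit 687, nat_lit 0x160967, nat_lit 1312037),
 (nat_lit 693, nat_lit 0x2a5b5ca, nat_lit 1219619),
 (nat_lit 834, nat_lit 0x161489, nat_lit 1219619),
 (nat_lit 908, nat_lit 0x215a9a2, nat_lit 1344645),
 (nat_lit 913, nat_lit 0x161124, nat_lit 1344645),
 (nat_lit 914, nat_lit 0x169d2a, nat_lit 1219619),
 (nat_lit 922, nat_lit 0xb545, nat_lit 1220739),
 (nat_lit 987, nat_lit 0x16b94b, nat_lit 1220739),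
 (nat_lit 1012, nat_lit 0x160867, nat_lit 1219619),
 (nat_lit 1013, nat_lit 0x160865, nat_lit 1219619),
 (nat_lit 1021, nat_lit 0x1608e3, nat_lit 1344645),
 (nat_lit 1023, nat_lit 0x150166, nat_lit 1219619),
 (nat_lit 1032, nat_lit 0x16a865, nat_lit 1219619),
 (nat_lit 1034, nat_lit 0x15b164, nat_lit 1219619),
 (nat_lit 1092, nat_lit 0x214a9a8, nat_lit 1344645),
 (nat_lit 1119, nat_lit 0x16a4a4, nat_lit 1220739),
 (nat_lit 1128, nat_lit 0x214a966, nat_lit 1218596),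
 (nat_lit 1162, nat_lit 0xb043, nat_lit 1344645),
 (nat_lit 1164, nat_lit 0xb045, nat_lit 1220739),
 (nat_lit 1176, nat_lit 0xb047, nat_lit 1219619),
 (nat_lit 1190, nat_lit 0x2b62d22, nat_lit 1344645),
 (nat_lit 1191, nat_lit 0xb543, nat_lit 1344645),
 (nat_lit 1194, nat_lit 0xb1c4, nat_lit 1219619),
 (nat_lit 1195, nat_lit 0xb4ea, nat_lit 1219619),
 (nat_lit 1243, nat_lit 0x2b2b5c8, nat_lit 1344645),
 (nat_lit 1251, nat_lit 0x170982, nat_lit 1317924),
 (nat_lit 1265, nat_lit 0x168089, nat_lit 1344645),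
 (nat_lit 1306, nat_lit 0x21621a1, nat_lit 1219619),
 (nat_lit 1341, nat_lit 0x151589, nat_lit 1317924),
 (nat_lit 1349, nat_lit 0x152587, nat_lit 1220739),
 (nat_lit 1352, nat_lit 0x582, nat_lit 1248548),
 (nat_lit 1387, nat_lit 0x161dc4, nat_lit 1219619),
 (nat_lit 1388, nat_lit 0x16a867, nat_lit 1219619),
 (nat_lit 1396, nat_lit 0x163885, nat_lit 1344645),
 (nat_lit 1431, nat_lit 0x16096d, nat_lit 1219619),
 (nat_lit 1452, nat_lit 0x16388d, nat_lit 1219619),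
 (nat_lit 1455, nat_lit 0x162544, nat_lit 1219619),
 (nat_lit 1483, nat_lit 0x2168d66, nat_lit 1344645),
 (nat_lit 1485, nat_lit 0xac6c, nat_lit 1219619),
 (nat_lit 1534, nat_lit 0x153545, nat_lit 1219619),
 (nat_lit 1576, nat_lit 0x15b543, nat_lit 1219619),
 (nat_lit 1577, nat_lit 0xa92c, nat_lit 1219619),
 (nat_lit 1580, nat_lit 0x2a2b123, nat_lit 1344645),
 (nat_lit 1590, nat_lit 0x15b545, nat_lit 1219619),
 (nat_lit 1616, nat_lit 0xb087, nat_lit 1219619),
 (nat_lit 1641, nat_lit 0x16254c, nat_lit 1344645),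
 (nat_lit 1648, nat_lit 0xb1c2, nat_lit 1219619),
 (nat_lit 1679, nat_lit 0xb085, nat_lit 1219619),
 (nat_lit 1688, nat_lit 0x1709aa, nat_lit 1219619),
 (nat_lit 1690, nat_lit 0x2168486, nat_lit 1220739),
 (nat_lit 1691, nat_lit 0x16b98a, nat_lit 1219619),
 (nat_lit 1722, nat_lit 0x160046, nat_lit 1219619),
 (nat_lit 1743, nat_lit 0x158d83, nat_lit 1220739),
 (nat_lit 1745, nat_lit 0xa9aa, nat_lit 1218596),
 (nat_lit 1759, nat_lit 0x217106a, nat_lit 1317924),
 (nat_lit 1765, nat_lit 0x158d85, nat_lit 1219619),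
 (nat_lit 1810, nat_lit 0x15110c, nat_lit 1220739),
 (nat_lit 1814, nat_lit 0x172961, nat_lit 1219619),
 (nat_lit 1882, nat_lit 0xadaa, nat_lit 1219619),
 (nat_lit 1884, nat_lit 0x152583, nat_lit 1219619),
 (nat_lit 1888, nat_lit 0x168049, nat_lit 1344645),
 (nat_lit 1903, nat_lit 0xb444, nat_lit 1248548),
 (nat_lit 1908, nat_lit 0x584, nat_lit 1218596),
 (nat_lit 1928, nat_lit 0x152da9, nat_lit 1344645),
 (nat_lit 1929, nat_lit 0xb984, nat_lit 1219619),
 (nat_lit 1947, nat_lit 0x10b428, nat_lit 1219619),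
 (nat_lit 1955, nat_lit 0x161dc2, nat_lit 1219619),
 (nat_lit 1957, nat_lit 0x16990a, nat_lit 1312037),
 (nat_lit 1969, nat_lit 0x152daa, nat_lit 1219619),
 (nat_lit 1972, nat_lit 0x1615c2, nat_lit 1312037),
 (nat_lit 2013, nat_lit 0x1608ed, nat_lit 1344645),
 (nat_lit 2022, nat_lit 0x2a6b92d, nat_lit 1219619),
 (nat_lit 2023, nat_lit 0x2161da9, nat_lit 1312037),
 (nat_lit 2027, nat_lit 0x211390a, nat_lit 1219619),
 (nat_lit 2028, nat_lit 0x2a6a86b, nat_lit 1219619),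
 (nat_lit 2076, nat_lit 0x159d83, nat_lit 1219619),
 (nat_lit 2087, nat_lit 0x21709a1, nat_lit 1219619),
 (nat_lit 2090, nat_lit 0x153543, nat_lit 1219619),
 (nat_lit 2096, nat_lit 0x2b131c6, nat_lit 1219619),
 (nat_lit 2098, nat_lit 0x2a6a46b, nat_lit 1344645),
 (nat_lit 2117, nat_lit 0x159d85, nat_lit 1220739),
 (nat_lit 2165, nat_lit 0x153527, nat_lit 1344645),
 (nat_lit 2168, nat_lit 0x1535c0, nat_lit 1312037),
 (nat_lit 2179, nat_lit 0x15b1a8, nat_lit 1220739),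
 (nat_lit 2184, nat_lit 0x160922, nat_lit 1344645),
 (nat_lit 2185, nat_lit 0x170961, nat_lit 1312037),
 (nat_lit 2190, nat_lit 0x158981, nat_lit 1219619),
 (nat_lit 2191, nat_lit 0x168564, nat_lit 1219619),
 (nat_lit 2237, nat_lit 0x2a2218d, nat_lit 1219619),
 (nat_lit 2272, nat_lit 0x15b4ea, nat_lit 1344645),
 (nat_lit 2274, nat_lit 0x168883, nat_lit 1219619),
 (nat_lit 2300, nat_lit 0xb083, nat_lit 1344645),
 (nat_lit 2305, nat_lit 0x169488, nat_lit 1344645),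
 (nat_lit 2324, nat_lit 0x1608eb, nat_lit 1219619),
 (nat_lit 2341, nat_lit 0x16106d, nat_lit 1344645),
 (nat_lit 2342, nat_lit 0x1719a8, nat_lit 1219619),
 (nat_lit 2344, nat_lit 0x2170961, nat_lit 1344645),
 (nat_lit 2350, nat_lit 0x1684a4, nat_lit 1344645),
 (nat_lit 2353, nat_lit 0x215a981, nat_lit 1220739),
 (nat_lit 2369, nat_lit 0x2a2b142, nat_lit 1220739),
 (nat_lit 2370, nat_lit 0x2a5b545, nat_lit 1219619),
 (nat_lit 2395, nat_lit 0x2168c88, nat_lit 1219619),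
 (nat_lit 2422, nat_lit 0x216ac85, nat_lit 1344645),
 (nat_lit 2423, nat_lit 0x214b546, nat_lit 1220739),
 (nat_lit 2428, nat_lit 0x2160da9, nat_lit 1344645),
 (nat_lit 2460, nat_lit 0x1731c4, nat_lit 1312037),
 (nat_lit 2470, nat_lit 0x1608ab, nat_lit 1220739),
 (nat_lit 2483, nat_lit 0xacec, nat_lit 1219619),
 (nat_lit 2486, nat_lit 0x15352b, nat_lit 1344645),
 (nat_lit 2491, nat_lit 0x1608ad, nat_lit 1220739),
 (nat_lit 2499, nat_lit 0x215a92c, nat_lit 1219619),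
 (nat_lit 2500, nat_lit 0x16846c, nat_lit 1312037),
 (nat_lit 2507, nat_lit 0x2169109, nat_lit 1219619),
 (nat_lit 2562, nat_lit 0x1691cc, nat_lit 1312037),
 (nat_lit 2563, nat_lit 0xa9a9, nat_lit 1344645),
 (nat_lit 2583, nat_lit 0x158dcc, nat_lit 1220739),
 (nat_lit 2586, nat_lit 0x1729a0, nat_lit 1218596),
 (nat_lit 2588, nat_lit 0x2a5b5c9, nat_lit 1219619),
 (nat_lit 2589, nat_lit 0x214b928, nat_lit 1219619),
 (nat_lit 2601, nat_lit 0x15b828, nat_lit 1219619),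
 (nat_lit 2653, nat_lit 0x2a231ca, nat_lit 1220739),
 (nat_lit 2727, nat_lit 0x1621a9, nat_lit 1218596),
 (nat_lit 2728, nat_lit 0x15b4ec, nat_lit 1219619),
 (nat_lit 2729, nat_lit 0x2a4b163, nat_lit 1219619),
 (nat_lit 2735, nat_lit 0x16b945, nat_lit 1219619),
 (nat_lit 2737, nat_lit 0xb08b, nat_lit 1248548),
 (nat_lit 2753, nat_lit 0x16890a, nat_lit 1219619),
 (nat_lit 2754, nat_lit 0x16a54b, nat_lit 1219619),
 (nat_lit 2755, nat_lit 0x16a182, nat_lit 1219619),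
 (nat_lit 2759, nat_lit 0x2b73041, nat_lit 1219619),
 (nat_lit 2760, nat_lit 0x2172540, nat_lit 1220739),
 (nat_lit 2773, nat_lit 0x2160d6a, nat_lit 1219619),
 (nat_lit 2785, nat_lit 0x16a965, nat_lit 1219619),
 (nat_lit 2794, nat_lit 0x16a963, nat_lit 1219619),
 (nat_lit 2795, nat_lit 0x2a6a46d, nat_lit 1344645),
 (nat_lit 2816, nat_lit 0x10b564, nat_lit 1220739),
 (nat_lit 2849, nat_lit 0x217244b, nat_lit 1220739),
 (nat_lit 2855, nat_lit 0x2a69948, nat_lit 1219619),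
 (nat_lit 2884, nat_lit 0x2a6a563, nat_lit 1219619),
 (nat_lit 2897, nat_lit 0x21728ac, nat_lit 1344645),
 (nat_lit 2901, nat_lit 0x1684ec, nat_lit 1344645),
 (nat_lit 2903, nat_lit 0x2b13909, nat_lit 1312037),
 (nat_lit 2919, nat_lit 0x15258b, nat_lit 1219619),
 (nat_lit 2924, nat_lit 0xb5ca, nat_lit 1220739),
 (nat_lit 2944, nat_lit 0x2169488, nat_lit 1312037),
 (nat_lit 2946, nat_lit 0x153525, nat_lit 1317924),
 (nat_lit 2948, nat_lit 0x15b46c, nat_lit 1219619),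
 (nat_lit 2949, nat_lit 0x153523, nat_lit 1344645),
 (nat_lit 2963, nat_lit 0x2a2b988, nat_lit 1220739),
 (nat_lit 2964, nat_lit 0x15b148, nat_lit 1219619),
 (nat_lit 2982, nat_lit 0x168488, nat_lit 1220739),
 (nat_lit 3020, nat_lit 0x2b08da0, nat_lit 1219619),
 (nat_lit 3028, nat_lit 0x161167, nat_lit 1312037),
 (nat_lit 3033, nat_lit 0x2a6a86d, nat_lit 1219619),
 (nat_lit 3065, nat_lit 0x1525cc, nat_lit 1312037),
 (nat_lit 3068, nat_lit 0x215a18a, nat_lit 1219619),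
 (nat_lit 3078, nat_lit 0x2a131ca, nat_lit 1220739),
 (nat_lit 3080, nat_lit 0x1610ed, nat_lit 1344645),
 (nat_lit 3090, nat_lit 0x159dcc, nat_lit 1219619),
 (nat_lit 3100, nat_lit 0xb54b, nat_lit 1218596),
 (nat_lit 3101, nat_lit 0x1535ca, nat_lit 1312037),
 (nat_lit 3108, nat_lit 0x2113849, nat_lit 1312037),
 (nat_lit 3109, nat_lit 0x1609ab, nat_lit 1248548),
 (nat_lit 3143, nat_lit 0x16a86d, nat_lit 1344645),
 (nat_lit 3160, nat_lit 0x1610ad, nat_lit 1219619),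
 (nat_lit 3169, nat_lit 0x2a111cc, nat_lit 1312037),
 (nat_lit 3171, nat_lit 0x169dca, nat_lit 1219619),
 (nat_lit 3175, nat_lit 0x15918a, nat_lit 1218596),
 (nat_lit 3185, nat_lit 0x16b943, nat_lit 1219619),
 (nat_lit 3195, nat_lit 0x1501cc, nat_lit 1220739),
 (nat_lit 3196, nat_lit 0x21591a8, nat_lit 1219619),
 (nat_lit 3197, nat_lit 0x1580ca, nat_lit 1219619),
 (nat_lit 3202, nat_lit 0x21690cc, nat_lit 1219619),
 (nat_lit 3208, nat_lit 0x2a01589, nat_lit 1344645),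
 (nat_lit 3224, nat_lit 0x2b1b167, nat_lit 1312037),
 (nat_lit 3225, nat_lit 0x214b888, nat_lit 1219619),
 (nat_lit 3278, nat_lit 0x15018b, nat_lit 1090628),
 (nat_lit 3302, nat_lit 0x16a967, nat_lit 1312037),
 (nat_lit 3303, nat_lit 0x2a6b943, nat_lit 1312037),
 (nat_lit 3309, nat_lit 0x162d09, nat_lit 1344645),
 (nat_lit 3350, nat_lit 0x169d4b, nat_lit 1219619),
 (nat_lit 3351, nat_lit 0x16384b, nat_lit 1219619),
 (nat_lit 3359, nat_lit 0x158d8b, nat_lit 1219619),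
 (nat_lit 3361, nat_lit 0x16b886, nat_lit 1344645),
 (nat_lit 3370, nat_lit 0x216a90c, nat_lit 1219619),
 (nat_lit 3371, nat_lit 0x1731a2, nat_lit 1312037),
 (nat_lit 3388, nat_lit 0x2a6a8ad, nat_lit 1219619),
 (nat_lit 3433, nat_lit 0x2b60444, nat_lit 1219619),
 (nat_lit 3448, nat_lit 0x16a8ad, nat_lit 1220739),
 (nat_lit 3461, nat_lit 0x15b0a4, nat_lit 1219619),
 (nat_lit 3469, nat_lit 0x159d8b, nat_lit 1219619),
 (nat_lit 3470, nat_lit 0x1535c9, nat_lit 1219619),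
 (nat_lit 3501, nat_lit 0x215a5a2, nat_lit 1219619)]

noncomputable def as9 : Stp := ⟨1035, [10, 13], (.diff (.diff (.diff (.diff .all (.img [3, 4] (.nb [4, 10, 11, 10]))) (.nb [2, 10])) (.nb [9, 12])) (.nb [12, 13, 10])), [([0], aA0)], [], 0, 0, 0⟩

noncomputable def aB10 : List (ℕ × List ℕ) := [(747, [2, 10]), (1123, [4, 10, 11, 10]), (1714, [9, 12]), (2100, [0, 13]), (1131, [0, 11]), (777, [1, 12, 8, 10]), (750, [12, 13, 10]), (3499, [6, 12, 11]), (2921, [4, 14, 11]), (1035, [10, 13])]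

noncomputable def as10L0 : List (ℕ × ℕ × ℕ) := [(nat_lit 37, nat_lit 0x150d0a, nat_lit 36),
 (nat_lit 1425, nat_lit 0x20, nat_lit 0),
 (nat_lit 385, nat_lit 0x216a886, nat_lit 35),
 (nat_lit 1255, nat_lit 0x20, nat_lit 0),
 (nat_lit 824, nat_lit 0x10adae, nat_lit 35),
 (nat_lit 2498, nat_lit 0x20, nat_lit 0),
 (nat_lit 963, nat_lit 0x1595aa, nat_lit 35),
 (nat_lit 1367, nat_lit 0x20, nat_lit 0),
 (nat_lit 1257, nat_lit 0x1680ac, nat_lit 35),
 (nat_lit 1852, nat_lit 0x20, nat_lit 0),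
 (nat_lit 2180, nat_lit 0x20, nat_lit 0),
 (nat_lit 1761, nat_lit 0x21590ce, nat_lit 35),
 (nat_lit 1828, nat_lit 0x20, nat_lit 0),
 (nat_lit 1846, nat_lit 0x158dc6, nat_lit 36),
 (nat_lit 2037, nat_lit 0x20, nat_lit 0),
 (nat_lit 2456, nat_lit 0x216a140, nat_lit 35),
 (nat_lit 2823, nat_lit 0x20, nat_lit 0)]

noncomputable def as10 : Stp := ⟨1674, [3, 13, 1], (.inter (.inter (.nb [2, 10]) (.img [10] (.nb [6, 12, 11]))) (.nb [1, 12, 8, 10])), [], [[0]], 0, 0, 0⟩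

noncomputable def aB11 : List (ℕ × List ℕ) := [(747, [2, 10]), (1123, [4, 10, 11, 10]), (1714, [9, 12]), (2100, [0, 13]), (1131, [0, 11]), (777, [1, 12, 8, 10]), (750, [12, 13, 10]), (3499, [6, 12, 11]), (2921, [4, 14, 11]), (1035, [10, 13]), (1674, [3, 13, 1])]

theorem ale : eqB A22.ev A22.bs (am.flatMap fun m => aX.map fun x => (x ++ m, m ++ x)) = true := by decide +kernel

theorem as0h : headOk 3510 694 A22.nets A22.ev [0] aX am [] as0 [] = true := by decide +kernel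

theorem as1h : headOk 3510 694 A22.nets A22.ev [0] aX am aB1 as1 [as1L0] = true := by decide +kernel

theorem as1i0 : itemsOk 3510 694 A22.ev [0] aX am aB1 as1 as1L0 (p2 as1.b) = true := by decide +kernel

theorem as2h : headOk 3510 694 A22.nets A22.ev [0] aX am aB2 as2 [as2L0] = true := by decide +kernel

theorem as2i0 : itemsOk 3510 694 A22.ev [0] aX am aB2 as2 as2L0 (p2 as2.b) = true := by decide +kernel

theorem as3h : headOk 3510 694 A22.nets A22.ev [0] aX am aB3 as3 [as3L0] = true := by decide +kernel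

theorem as3i0 : itemsOk 3510 694 A22.ev [0] aX am aB3 as3 as3L0 (p2 as3.b) = true := by decide +kernel

theorem as4h : headOk 3510 694 A22.nets A22.ev [0] aX am aB4 as4 [as4L0] = true := by decide +kernel

theorem as4i0 : itemsOk 3510 694 A22.ev [0] aX am aB4 as4 as4L0 (p2 as4.b) = true := by decide +kernel

theorem as5h : headOk 3510 694 A22.nets A22.ev [0] aX am aB5 as5 [as5L0] = true := by decide +kernel

theorem as5i0 : itemsOk 3510 694 A22.ev [0] aX am aB5 as5 as5L0 (p2 as5.b) = true := by decide +kernel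

theorem as6h : headOk 3510 694 A22.nets A22.ev [0] aX am aB6 as6 [as6L0] = true := by decide +kernel

theorem as6i0 : itemsOk 3510 694 A22.ev [0] aX am aB6 as6 as6L0 (p2 as6.b) = true := by decide +kernel

theorem as7h : headOk 3510 694 A22.nets A22.ev [0] aX am aB7 as7 [as7L0] = true := by decide +kernel

theorem as7i0 : itemsOk 3510 694 A22.ev [0] aX am aB7 as7 as7L0 (p2 as7.b) = true := by decide +kernel

theorem as8h : headOk 3510 694 A22.nets A22.ev [0] aX am aB8 as8 [as8L0] = true := by decide +kernel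

theorem as8i0 : itemsOk 3510 694 A22.ev [0] aX am aB8 as8 as8L0 (p2 as8.b) = true := by decide +kernel

theorem as9h : headOk 3510 694 A22.nets A22.ev [0] aX am aB9 as9 [as9L0] = true := by decide +kernel

theorem as9i0 : itemsOk 3510 694 A22.ev [0] aX am aB9 as9 as9L0 (p2 as9.b) = true := by decide +kernel

theorem as10h : headOk 3510 694 A22.nets A22.ev [0] aX am aB10 as10 [as10L0] = true := by decide +kernel

theorem as10i0 : itemsOk 3510 694 A22.ev [0] aX am aB10 as10 as10L0 (p2 as10.b) = true := by decide +kernel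

theorem afin : finOk A22.ev [0] aX aB11 A22.bs [(1674, [11, 0, 5, 4, 3, 10]), (1035, [0, 8, 11, 5]), (777, [3, 7, 10, 3, 5, 11, 10]), (2921, [4, 8]), (1674, [0, 4, 10, 3, 4, 5]), (3499, [10, 2, 3, 10]), (1674, [0, 3, 6, 10, 5]), (2921, [3, 5, 4]), (2921, [5, 4, 10, 3, 11, 10])] = true := by decide +kernel

theorem aok : CenOk 3510 694 A22.nets A22.ev [0] A22.bs aX am [] :=
  .step as0 [] as0h (fun _ h => absurd h List.not_mem_nil)
    (.step as1 [as1L0] as1h (List.forall_mem_cons.2 ⟨as1i0, fun _ h => absurd h List.not_mem_nil⟩)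
    (.step as2 [as2L0] as2h (List.forall_mem_cons.2 ⟨as2i0, fun _ h => absurd h List.not_mem_nil⟩)
    (.step as3 [as3L0] as3h (List.forall_mem_cons.2 ⟨as3i0, fun _ h => absurd h List.not_mem_nil⟩)
    (.step as4 [as4L0] as4h (List.forall_mem_cons.2 ⟨as4i0, fun _ h => absurd h List.not_mem_nil⟩)
    (.step as5 [as5L0] as5h (List.forall_mem_cons.2 ⟨as5i0, fun _ h => absurd h List.not_mem_nil⟩)
    (.step as6 [as6L0] as6h (List.forall_mem_cons.2 ⟨as6i0, fun _ h => absurd h List.not_mem_nil⟩)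
    (.step as7 [as7L0] as7h (List.forall_mem_cons.2 ⟨as7i0, fun _ h => absurd h List.not_mem_nil⟩)
    (.step as8 [as8L0] as8h (List.forall_mem_cons.2 ⟨as8i0, fun _ h => absurd h List.not_mem_nil⟩)
    (.step as9 [as9L0] as9h (List.forall_mem_cons.2 ⟨as9i0, fun _ h => absurd h List.not_mem_nil⟩)
    (.step as10 [as10L0] as10h (List.forall_mem_cons.2 ⟨as10i0, fun _ h => absurd h List.not_mem_nil⟩)
    (.fin _ afin)))))))))))

theorem aeq {G : Type*} [Group G] {D : Set G} {gen : ℕ → G} (M : A22.Is D gen) : cenW gen aX = clW gen am :=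
  M.cen (M.le_cen ale) aok

noncomputable def bX : List (List ℕ) := [nthW reps 1, cjW [0] [0, 14, 11]]

noncomputable def bm : List (List ℕ) := nthW reps 1 :: I22.rs.take 7

noncomputable def bB1 : List (ℕ × List ℕ) := [(2325, [0, 14, 11])]

noncomputable def bA0 : ℕ :=
 nat_lit 0x3fffbfffffffffffc7fbffffffffffbff7fffffffffffffdff7ffffffffbfeffe9ffbfffbffffffeffdffdebf7fddff77ffdffbddfffff5dfdffffefbff6fffdff3fff7effd9f7e1fbddf7ff3efffaffffdfdfe76fff7ef9eff7fe7fbce7bfdbdffffffa1fcff7bffffffb51f7fcbb3b05d7dede69dffc97cfffe4d3f9f397ef75ea9deaafc013f16876f9ff96f9edefebff7f539b7cd7ad2a75f5b1f6bdf9f70c6fefe7542af2be5a9d8a0c5f6b7865a315b77889042327e5c3e7b4fd13dbc202007517cee823fd666a459a65800af85f565f8d54fb920767eaee3e2ff28028a7d23282dbb80413fc305db411427b70b781ac5812113e941e004809e89958194d6860d5f1f367e4552e5a14c60768000522d95ac393080a00322841f0040041447099c4302024111170047880050200c3fbfedb4f0231400800c5d4a00100220000560d824410808c0040fde46830406e80102106607160c2a020054be002c218000001a0800081a21068910008081540c0002030000a9000000008002024001202400080000a008000004400020000000000001000000000008000400000000000000850010002000100000000000000000000000000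

noncomputable def bA1 : ℕ :=
 nat_lit 0x37ffbf3ff9f7fbffa4fbf7feffffe9be7fdfefeffbc776be59bff4befdf7b7f3ffd8acfbbbfb7ffebfffdc71f7cb9eeff9bf7abf4c3be3fd1dffc51aff9bfbedfa5fdc60be01bfa5e1d1c1bb7efff5fbe1fecfc47f0cfeeb76e7feb7fe23be7fdeff9f9a7877bd7ccfba77cb4dafb8fb121bff9e5ff05ca2c2fff97ea476934a400da62aa785b3d0572ceffc0029a403a3f3740016c45be16dffa7a21fd5fbba832c274b572a500a9e068766600e2d1f4b1fedbd7966aee8f7e7f9e051abdff9e780f5337fc067e4616801509f01809bf3a4f50357f0ae4cbba7267faebee6803ff76080b0cfc000e00428c401e64b90ba018a800412c81019020011000b04010c40022c9372086fdd0c6b94069f2d10b78e13b092970ca3000ea811b05d00c318208008200030010a000401002100000025dc4106b2c00200f94460a60001062a80426fc2080240417e3014109001330000080018848dbc0800a00150440104000000000000000000000000000000000000000000000000000000000000000000000000000000000000000000000000000000000000000000000000000000000000000000000000000000000000000000000000000000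

noncomputable def bs1L0 : List (ℕ × ℕ × ℕ) := [(nat_lit 1365, nat_lit 0x24, nat_lit 0),
 (nat_lit 802, nat_lit 0x20, nat_lit 0),
 (nat_lit 2940, nat_lit 0x25, nat_lit 0),
 (nat_lit 1141, nat_lit 0x21, nat_lit 0),
 (nat_lit 1561, nat_lit 0x20, nat_lit 0),
 (nat_lit 3102, nat_lit 0x22, nat_lit 0),
 (nat_lit 1131, nat_lit 0x21, nat_lit 0),
 (nat_lit 1870, nat_lit 0x26, nat_lit 0),
 (nat_lit 227, nat_lit 0x21, nat_lit 0),
 (nat_lit 1527, nat_lit 0x20, nat_lit 0),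
 (nat_lit 3443, nat_lit 0x22, nat_lit 0),
 (nat_lit 213, nat_lit 0x22, nat_lit 0),
 (nat_lit 1659, nat_lit 0x22, nat_lit 0),
 (nat_lit 898, nat_lit 0x21, nat_lit 0),
 (nat_lit 1492, nat_lit 0x20, nat_lit 0),
 (nat_lit 3434, nat_lit 0x22, nat_lit 0),
 (nat_lit 1821, nat_lit 0x23, nat_lit 0),
 (nat_lit 750, nat_lit 0x24, nat_lit 0),
 (nat_lit 1231, nat_lit 0x22, nat_lit 0),
 (nat_lit 1444, nat_lit 0x22, nat_lit 0),
 (nat_lit 1449, nat_lit 0x24, nat_lit 0),
 (nat_lit 747, nat_lit 0x24, nat_lit 0),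
 (nat_lit 7, nat_lit 0x24, nat_lit 0),
 (nat_lit 91, nat_lit 0x22, nat_lit 0),
 (nat_lit 119, nat_lit 0x23, nat_lit 0),
 (nat_lit 2364, nat_lit 0x22, nat_lit 0),
 (nat_lit 1860, nat_lit 0x23, nat_lit 0),
 (nat_lit 1199, nat_lit 0x24, nat_lit 0),
 (nat_lit 2711, nat_lit 0x23, nat_lit 0),
 (nat_lit 3494, nat_lit 0x24, nat_lit 0),
 (nat_lit 712, nat_lit 0x25, nat_lit 0),
 (nat_lit 1114, nat_lit 0x23, nat_lit 0),
 (nat_lit 1135, nat_lit 0x23, nat_lit 0),
 (nat_lit 3390, nat_lit 0x24, nat_lit 0),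
 (nat_lit 2229, nat_lit 0x23, nat_lit 0),
 (nat_lit 2054, nat_lit 0x25, nat_lit 0),
 (nat_lit 1168, nat_lit 0x23, nat_lit 0),
 (nat_lit 2921, nat_lit 0x21, nat_lit 0),
 (nat_lit 10, nat_lit 0x23, nat_lit 0),
 (nat_lit 617, nat_lit 0x21, nat_lit 0),
 (nat_lit 3444, nat_lit 0x25, nat_lit 0),
 (nat_lit 2548, nat_lit 0x23, nat_lit 0),
 (nat_lit 1856, nat_lit 0x23, nat_lit 0),
 (nat_lit 940, nat_lit 0x26, nat_lit 0),
 (nat_lit 2212, nat_lit 0x25, nat_lit 0),
 (nat_lit 2149, nat_lit 0x23, nat_lit 0),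
 (nat_lit 976, nat_lit 0x23, nat_lit 0),
 (nat_lit 1607, nat_lit 0x26, nat_lit 0),
 (nat_lit 82, nat_lit 0x24, nat_lit 0),
 (nat_lit 602, nat_lit 0x23, nat_lit 0),
 (nat_lit 3162, nat_lit 0x26, nat_lit 0),
 (nat_lit 969, nat_lit 0x22, nat_lit 0),
 (nat_lit 2326, nat_lit 0x23, nat_lit 0),
 (nat_lit 1518, nat_lit 0x26, nat_lit 0),
 (nat_lit 388, nat_lit 0x23, nat_lit 0),
 (nat_lit 335, nat_lit 0x26, nat_lit 0),
 (nat_lit 1488, nat_lit 0x26, nat_lit 0),
 (nat_lit 1621, nat_lit 0x25, nat_lit 0),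
 (nat_lit 234, nat_lit 0x25, nat_lit 0),
 (nat_lit 1205, nat_lit 0x24, nat_lit 0),
 (nat_lit 984, nat_lit 0x21, nat_lit 0),
 (nat_lit 731, nat_lit 0x20, nat_lit 0)]

noncomputable def bs1 : Stp := ⟨2100, [0, 13], (.diff .all (.pt 2325)), [([0], bA0), ([1], bA1)], [[1], [2], [6], [7], [3], [4], [5]], 0, 0, 0⟩

noncomputable def bB2 : List (ℕ × List ℕ) := [(2325, [0, 14, 11]), (2100, [0, 13])]

noncomputable def bs2L0 : List (ℕ × ℕ × ℕ) := [(nat_lit 7, nat_lit 0x2a00cea, nat_lit 35),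
 (nat_lit 1114, nat_lit 0x22, nat_lit 0),
 (nat_lit 712, nat_lit 0x23, nat_lit 0),
 (nat_lit 750, nat_lit 0x24, nat_lit 0),
 (nat_lit 1492, nat_lit 0x25, nat_lit 0),
 (nat_lit 2054, nat_lit 0x26, nat_lit 0),
 (nat_lit 10, nat_lit 0x23, nat_lit 0),
 (nat_lit 1860, nat_lit 0x25, nat_lit 0),
 (nat_lit 1856, nat_lit 0x26, nat_lit 0),
 (nat_lit 1199, nat_lit 0x26, nat_lit 0),
 (nat_lit 1527, nat_lit 0x25, nat_lit 0),
 (nat_lit 2364, nat_lit 0x21, nat_lit 0),
 (nat_lit 82, nat_lit 0x26, nat_lit 0),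
 (nat_lit 940, nat_lit 0x24, nat_lit 0),
 (nat_lit 1168, nat_lit 0x26, nat_lit 0),
 (nat_lit 2229, nat_lit 0x21, nat_lit 0),
 (nat_lit 2326, nat_lit 0x26, nat_lit 0),
 (nat_lit 1607, nat_lit 0x24, nat_lit 0),
 (nat_lit 1449, nat_lit 0x24, nat_lit 0),
 (nat_lit 1444, nat_lit 0x21, nat_lit 0),
 (nat_lit 1561, nat_lit 0x23, nat_lit 0),
 (nat_lit 969, nat_lit 0x26, nat_lit 0),
 (nat_lit 388, nat_lit 0x26, nat_lit 0),
 (nat_lit 335, nat_lit 0x24, nat_lit 0),
 (nat_lit 1659, nat_lit 0x23, nat_lit 0),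
 (nat_lit 1488, nat_lit 0x24, nat_lit 0),
 (nat_lit 1621, nat_lit 0x23, nat_lit 0),
 (nat_lit 747, nat_lit 0x25, nat_lit 0),
 (nat_lit 234, nat_lit 0x23, nat_lit 0),
 (nat_lit 731, nat_lit 0x25, nat_lit 0),
 (nat_lit 3494, nat_lit 0x26, nat_lit 0),
 (nat_lit 1365, nat_lit 0x25, nat_lit 0),
 (nat_lit 802, nat_lit 0x20, nat_lit 0),
 (nat_lit 1231, nat_lit 0x25, nat_lit 0),
 (nat_lit 3390, nat_lit 0x24, nat_lit 0),
 (nat_lit 2921, nat_lit 0x20, nat_lit 0),
 (nat_lit 2940, nat_lit 0x23, nat_lit 0),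
 (nat_lit 3102, nat_lit 0x21, nat_lit 0),
 (nat_lit 1141, nat_lit 0x20, nat_lit 0),
 (nat_lit 91, nat_lit 0x24, nat_lit 0),
 (nat_lit 3443, nat_lit 0x20, nat_lit 0),
 (nat_lit 227, nat_lit 0x21, nat_lit 0),
 (nat_lit 213, nat_lit 0x23, nat_lit 0),
 (nat_lit 617, nat_lit 0x20, nat_lit 0),
 (nat_lit 2548, nat_lit 0x22, nat_lit 0),
 (nat_lit 3444, nat_lit 0x23, nat_lit 0),
 (nat_lit 1870, nat_lit 0x24, nat_lit 0),
 (nat_lit 3434, nat_lit 0x20, nat_lit 0),
 (nat_lit 898, nat_lit 0x21, nat_lit 0),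
 (nat_lit 1135, nat_lit 0x22, nat_lit 0),
 (nat_lit 2149, nat_lit 0x22, nat_lit 0),
 (nat_lit 2212, nat_lit 0x23, nat_lit 0),
 (nat_lit 976, nat_lit 0x23, nat_lit 0),
 (nat_lit 1821, nat_lit 0x22, nat_lit 0),
 (nat_lit 2711, nat_lit 0x22, nat_lit 0),
 (nat_lit 119, nat_lit 0x22, nat_lit 0),
 (nat_lit 602, nat_lit 0x23, nat_lit 0),
 (nat_lit 3162, nat_lit 0x24, nat_lit 0),
 (nat_lit 1518, nat_lit 0x24, nat_lit 0),
 (nat_lit 1205, nat_lit 0x26, nat_lit 0),
 (nat_lit 984, nat_lit 0x26, nat_lit 0)]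

noncomputable def bs2 : Stp := ⟨1131, [0, 11], (.diff (.diff .all (.pt 2100)) (.pt 2325)), [([0], bA0), ([1], bA1)], [[2], [6], [7], [4], [5], [1, 2, 3, 2, 1], [3, 2, 4, 3, 6, 3, 4, 2, 3]], 0, 0, 0⟩

noncomputable def bB3 : List (ℕ × List ℕ) := [(2325, [0, 14, 11]), (2100, [0, 13]), (1131, [0, 11])]

noncomputable def bs3L0 : List (ℕ × ℕ × ℕ) := [(nat_lit 7, nat_lit 0x2a00cea, nat_lit 36),
 (nat_lit 1114, nat_lit 0x21, nat_lit 0),
 (nat_lit 712, nat_lit 0x22, nat_lit 0),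
 (nat_lit 750, nat_lit 0x23, nat_lit 0),
 (nat_lit 969, nat_lit 0x24, nat_lit 0),
 (nat_lit 10, nat_lit 0x22, nat_lit 0),
 (nat_lit 388, nat_lit 0x24, nat_lit 0),
 (nat_lit 82, nat_lit 0x24, nat_lit 0),
 (nat_lit 747, nat_lit 0x24, nat_lit 0),
 (nat_lit 940, nat_lit 0x23, nat_lit 0),
 (nat_lit 2326, nat_lit 0x24, nat_lit 0),
 (nat_lit 1488, nat_lit 0x23, nat_lit 0),
 (nat_lit 335, nat_lit 0x23, nat_lit 0),
 (nat_lit 1621, nat_lit 0x24, nat_lit 0),
 (nat_lit 234, nat_lit 0x22, nat_lit 0),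
 (nat_lit 91, nat_lit 0x15a424, nat_lit 35),
 (nat_lit 898, nat_lit 0x20, nat_lit 0),
 (nat_lit 1135, nat_lit 0x21, nat_lit 0),
 (nat_lit 1231, nat_lit 0x23, nat_lit 0),
 (nat_lit 2212, nat_lit 0x24, nat_lit 0),
 (nat_lit 119, nat_lit 0x21, nat_lit 0),
 (nat_lit 227, nat_lit 0x23, nat_lit 0),
 (nat_lit 617, nat_lit 0x24, nat_lit 0),
 (nat_lit 602, nat_lit 0x24, nat_lit 0),
 (nat_lit 213, nat_lit 0x22, nat_lit 0),
 (nat_lit 1141, nat_lit 0x24, nat_lit 0),
 (nat_lit 2149, nat_lit 0x24, nat_lit 0),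
 (nat_lit 2921, nat_lit 0x23, nat_lit 0),
 (nat_lit 1518, nat_lit 0x23, nat_lit 0),
 (nat_lit 1205, nat_lit 0x24, nat_lit 0),
 (nat_lit 1199, nat_lit 0x23, nat_lit 0),
 (nat_lit 2054, nat_lit 0x22, nat_lit 0),
 (nat_lit 1168, nat_lit 0x21, nat_lit 0),
 (nat_lit 1492, nat_lit 0x24, nat_lit 0),
 (nat_lit 1856, nat_lit 0x21, nat_lit 0),
 (nat_lit 2364, nat_lit 0x24, nat_lit 0),
 (nat_lit 1860, nat_lit 0x24, nat_lit 0),
 (nat_lit 1527, nat_lit 0x23, nat_lit 0),
 (nat_lit 1607, nat_lit 0x23, nat_lit 0),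
 (nat_lit 2229, nat_lit 0x24, nat_lit 0),
 (nat_lit 1444, nat_lit 0x23, nat_lit 0),
 (nat_lit 1561, nat_lit 0x22, nat_lit 0),
 (nat_lit 731, nat_lit 0x24, nat_lit 0),
 (nat_lit 1659, nat_lit 0x22, nat_lit 0),
 (nat_lit 976, nat_lit 0x2a59922, nat_lit 35),
 (nat_lit 3444, nat_lit 0x21, nat_lit 0),
 (nat_lit 2548, nat_lit 0x22, nat_lit 0),
 (nat_lit 3162, nat_lit 0x23, nat_lit 0),
 (nat_lit 2711, nat_lit 0x24, nat_lit 0),
 (nat_lit 3390, nat_lit 0x22, nat_lit 0),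
 (nat_lit 3434, nat_lit 0x24, nat_lit 0),
 (nat_lit 1821, nat_lit 0x24, nat_lit 0),
 (nat_lit 984, nat_lit 0x24, nat_lit 0),
 (nat_lit 3494, nat_lit 0x23, nat_lit 0),
 (nat_lit 1870, nat_lit 0x24, nat_lit 0),
 (nat_lit 3443, nat_lit 0x23, nat_lit 0),
 (nat_lit 2940, nat_lit 0x23, nat_lit 0),
 (nat_lit 1365, nat_lit 0x24, nat_lit 0),
 (nat_lit 3102, nat_lit 0x22, nat_lit 0)]

noncomputable def bs3 : Stp := ⟨1449, [7, 9, 12], (.diff (.diff (.diff (.diff .all (.img [3] (.pt 1131))) (.pt 1131)) (.pt 2100)) (.pt 2325)), [([0], bA0), ([1], bA1)], [[6], [7], [4], [5], [2, 1, 2, 3, 2, 1, 3, 2, 4, 3, 6, 3, 4, 2, 3, 4, 6, 1, 2, 3, 2, 1]], 0, 0, 0⟩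

noncomputable def bB4 : List (ℕ × List ℕ) := [(2325, [0, 14, 11]), (2100, [0, 13]), (1131, [0, 11]), (1449, [7, 9, 12])]

noncomputable def bs4L0 : List (ℕ × ℕ × ℕ) := [(nat_lit 7, nat_lit 0x22, nat_lit 0),
 (nat_lit 10, nat_lit 0x21, nat_lit 0),
 (nat_lit 82, nat_lit 0x23, nat_lit 0),
 (nat_lit 2326, nat_lit 0x24, nat_lit 0),
 (nat_lit 1114, nat_lit 0x21, nat_lit 0),
 (nat_lit 969, nat_lit 0x23, nat_lit 0),
 (nat_lit 388, nat_lit 0x20, nat_lit 0),
 (nat_lit 91, nat_lit 0x15a424, nat_lit 35),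
 (nat_lit 898, nat_lit 0x20, nat_lit 0),
 (nat_lit 1135, nat_lit 0x21, nat_lit 0),
 (nat_lit 2212, nat_lit 0x23, nat_lit 0),
 (nat_lit 119, nat_lit 0x21, nat_lit 0),
 (nat_lit 617, nat_lit 0x23, nat_lit 0),
 (nat_lit 2149, nat_lit 0x24, nat_lit 0),
 (nat_lit 602, nat_lit 0x23, nat_lit 0),
 (nat_lit 213, nat_lit 0x10a562, nat_lit 35),
 (nat_lit 1141, nat_lit 0x20, nat_lit 0),
 (nat_lit 1231, nat_lit 0x22, nat_lit 0),
 (nat_lit 227, nat_lit 0x22, nat_lit 0),
 (nat_lit 1518, nat_lit 0x24, nat_lit 0),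
 (nat_lit 1205, nat_lit 0x24, nat_lit 0),
 (nat_lit 234, nat_lit 0x2a019c2, nat_lit 37),
 (nat_lit 1621, nat_lit 0x20, nat_lit 0),
 (nat_lit 1488, nat_lit 0x22, nat_lit 0),
 (nat_lit 335, nat_lit 0x22, nat_lit 0),
 (nat_lit 750, nat_lit 0x24, nat_lit 0),
 (nat_lit 747, nat_lit 0x24, nat_lit 0),
 (nat_lit 731, nat_lit 0xaca9, nat_lit 36),
 (nat_lit 1607, nat_lit 0x23, nat_lit 0),
 (nat_lit 1444, nat_lit 0x24, nat_lit 0),
 (nat_lit 1561, nat_lit 0x24, nat_lit 0),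
 (nat_lit 1527, nat_lit 0x20, nat_lit 0),
 (nat_lit 1659, nat_lit 0x22, nat_lit 0),
 (nat_lit 940, nat_lit 0x564, nat_lit 37),
 (nat_lit 976, nat_lit 0x2a59922, nat_lit 35),
 (nat_lit 3444, nat_lit 0x21, nat_lit 0),
 (nat_lit 2548, nat_lit 0x22, nat_lit 0),
 (nat_lit 2711, nat_lit 0x23, nat_lit 0),
 (nat_lit 3390, nat_lit 0x22, nat_lit 0),
 (nat_lit 3434, nat_lit 0x23, nat_lit 0),
 (nat_lit 1821, nat_lit 0x23, nat_lit 0),
 (nat_lit 1870, nat_lit 0x24, nat_lit 0),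
 (nat_lit 984, nat_lit 0x15952b, nat_lit 35),
 (nat_lit 3162, nat_lit 0x23, nat_lit 0),
 (nat_lit 3443, nat_lit 0x24, nat_lit 0),
 (nat_lit 1365, nat_lit 0x24, nat_lit 0),
 (nat_lit 2940, nat_lit 0x20, nat_lit 0),
 (nat_lit 3102, nat_lit 0x22, nat_lit 0),
 (nat_lit 1168, nat_lit 0x1698e8, nat_lit 36),
 (nat_lit 1199, nat_lit 0x21, nat_lit 0),
 (nat_lit 1856, nat_lit 0x22, nat_lit 0),
 (nat_lit 1860, nat_lit 0x23, nat_lit 0),
 (nat_lit 1492, nat_lit 0x24, nat_lit 0),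
 (nat_lit 2054, nat_lit 0x22, nat_lit 0),
 (nat_lit 2229, nat_lit 0x23, nat_lit 0),
 (nat_lit 2364, nat_lit 0x20, nat_lit 0)]

noncomputable def bs4 : Stp := ⟨712, [9, 0, 10], (.diff (.diff (.diff (.diff (.diff (.diff (.diff .all (.img [3] (.pt 1131))) (.pt 1131)) (.pt 1449)) (.pt 2100)) (.pt 2325)) (.img [4, 3] (.pt 1449))) (.img [4] (.pt 1449))), [([0], bA0), ([1], bA1)], [[6], [7], [4], [2, 1, 2, 3, 2, 1, 3, 2, 4, 3, 6, 3, 4, 2, 3, 4, 6, 1, 2, 3, 2, 1], [5, 7, 1, 2, 3, 2, 1, 4, 5, 3, 2, 4, 3, 6, 3, 4, 2, 3, 5, 4, 1, 2, 3, 2, 1, 7, 5]], 0, 0, 0⟩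

noncomputable def bB5 : List (ℕ × List ℕ) := [(2325, [0, 14, 11]), (2100, [0, 13]), (1131, [0, 11]), (1449, [7, 9, 12]), (712, [9, 0, 10])]

noncomputable def bs5L0 : List (ℕ × ℕ × ℕ) := [(nat_lit 3, nat_lit 0x23, nat_lit 0),
 (nat_lit 38, nat_lit 0x20, nat_lit 0),
 (nat_lit 312, nat_lit 0x21, nat_lit 0),
 (nat_lit 1935, nat_lit 0x21, nat_lit 0),
 (nat_lit 1934, nat_lit 0x22, nat_lit 0),
 (nat_lit 29, nat_lit 0xb848, nat_lit 36),
 (nat_lit 121, nat_lit 0x21, nat_lit 0),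
 (nat_lit 944, nat_lit 0x22, nat_lit 0),
 (nat_lit 34, nat_lit 0x23, nat_lit 0),
 (nat_lit 2922, nat_lit 0x22, nat_lit 0),
 (nat_lit 611, nat_lit 0x23, nat_lit 0),
 (nat_lit 30, nat_lit 0x10a546, nat_lit 33),
 (nat_lit 835, nat_lit 0x20, nat_lit 0),
 (nat_lit 3086, nat_lit 0x21, nat_lit 0),
 (nat_lit 1448, nat_lit 0x22, nat_lit 0),
 (nat_lit 2689, nat_lit 0x21, nat_lit 0),
 (nat_lit 2812, nat_lit 0x22, nat_lit 0),
 (nat_lit 50, nat_lit 0x108146, nat_lit 37),
 (nat_lit 2534, nat_lit 0x21, nat_lit 0),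
 (nat_lit 860, nat_lit 0x23, nat_lit 0),
 (nat_lit 180, nat_lit 0x23, nat_lit 0),
 (nat_lit 53, nat_lit 0x150cca, nat_lit 1027),
 (nat_lit 3034, nat_lit 0x21, nat_lit 0),
 (nat_lit 1716, nat_lit 0x23, nat_lit 0),
 (nat_lit 3289, nat_lit 0x23, nat_lit 0),
 (nat_lit 145, nat_lit 0xb8c9, nat_lit 35),
 (nat_lit 998, nat_lit 0x20, nat_lit 0),
 (nat_lit 1062, nat_lit 0x21, nat_lit 0),
 (nat_lit 1308, nat_lit 0x23, nat_lit 0),
 (nat_lit 381, nat_lit 0x21, nat_lit 0),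
 (nat_lit 642, nat_lit 0x22, nat_lit 0),
 (nat_lit 146, nat_lit 0x2158d4b, nat_lit 37),
 (nat_lit 1991, nat_lit 0x21, nat_lit 0),
 (nat_lit 1010, nat_lit 0x22, nat_lit 0),
 (nat_lit 2397, nat_lit 0x23, nat_lit 0),
 (nat_lit 1197, nat_lit 0x22, nat_lit 0),
 (nat_lit 1158, nat_lit 0x23, nat_lit 0),
 (nat_lit 573, nat_lit 0x20, nat_lit 0),
 (nat_lit 1695, nat_lit 0x23, nat_lit 0),
 (nat_lit 2671, nat_lit 0x20, nat_lit 0),
 (nat_lit 633, nat_lit 0x23, nat_lit 0),
 (nat_lit 2430, nat_lit 0x23, nat_lit 0),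
 (nat_lit 1820, nat_lit 0x23, nat_lit 0),
 (nat_lit 213, nat_lit 0x10a562, nat_lit 36),
 (nat_lit 1141, nat_lit 0x20, nat_lit 0),
 (nat_lit 1205, nat_lit 0x22, nat_lit 0),
 (nat_lit 215, nat_lit 0x2a01167, nat_lit 36),
 (nat_lit 1121, nat_lit 0x20, nat_lit 0),
 (nat_lit 631, nat_lit 0x21, nat_lit 0),
 (nat_lit 3025, nat_lit 0x22, nat_lit 0),
 (nat_lit 1524, nat_lit 0x23, nat_lit 0),
 (nat_lit 3230, nat_lit 0x21, nat_lit 0),
 (nat_lit 2791, nat_lit 0x23, nat_lit 0),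
 (nat_lit 1391, nat_lit 0x22, nat_lit 0),
 (nat_lit 1340, nat_lit 0x23, nat_lit 0),
 (nat_lit 2925, nat_lit 0x23, nat_lit 0),
 (nat_lit 2035, nat_lit 0x23, nat_lit 0),
 (nat_lit 3180, nat_lit 0x23, nat_lit 0),
 (nat_lit 234, nat_lit 0x2a019c2, nat_lit 35),
 (nat_lit 1621, nat_lit 0x20, nat_lit 0),
 (nat_lit 747, nat_lit 0x22, nat_lit 0),
 (nat_lit 249, nat_lit 0x16994c, nat_lit 37),
 (nat_lit 1323, nat_lit 0x20, nat_lit 0),
 (nat_lit 1945, nat_lit 0x21, nat_lit 0),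
 (nat_lit 876, nat_lit 0x23, nat_lit 0),
 (nat_lit 2536, nat_lit 0x21, nat_lit 0),
 (nat_lit 544, nat_lit 0x22, nat_lit 0),
 (nat_lit 1196, nat_lit 0x23, nat_lit 0),
 (nat_lit 3040, nat_lit 0x23, nat_lit 0),
 (nat_lit 1052, nat_lit 0x22, nat_lit 0),
 (nat_lit 341, nat_lit 0x23, nat_lit 0),
 (nat_lit 1992, nat_lit 0x23, nat_lit 0),
 (nat_lit 1186, nat_lit 0x23, nat_lit 0),
 (nat_lit 263, nat_lit 0x159da4, nat_lit 36),
 (nat_lit 2972, nat_lit 0x20, nat_lit 0),
 (nat_lit 579, nat_lit 0x21, nat_lit 0),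
 (nat_lit 2722, nat_lit 0x22, nat_lit 0),
 (nat_lit 2282, nat_lit 0x23, nat_lit 0),
 (nat_lit 1565, nat_lit 0x21, nat_lit 0),
 (nat_lit 936, nat_lit 0x23, nat_lit 0),
 (nat_lit 809, nat_lit 0x22, nat_lit 0),
 (nat_lit 1554, nat_lit 0x23, nat_lit 0),
 (nat_lit 3015, nat_lit 0x23, nat_lit 0),
 (nat_lit 1226, nat_lit 0x23, nat_lit 0),
 (nat_lit 1768, nat_lit 0x23, nat_lit 0),
 (nat_lit 328, nat_lit 0x10b08d, nat_lit 33),
 (nat_lit 1497, nat_lit 0x20, nat_lit 0),
 (nat_lit 1029, nat_lit 0x21, nat_lit 0),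
 (nat_lit 2392, nat_lit 0x22, nat_lit 0),
 (nat_lit 626, nat_lit 0x23, nat_lit 0),
 (nat_lit 3210, nat_lit 0x21, nat_lit 0),
 (nat_lit 1866, nat_lit 0x22, nat_lit 0),
 (nat_lit 1397, nat_lit 0x23, nat_lit 0),
 (nat_lit 2330, nat_lit 0x22, nat_lit 0),
 (nat_lit 2705, nat_lit 0x23, nat_lit 0),
 (nat_lit 2645, nat_lit 0x22, nat_lit 0),
 (nat_lit 2923, nat_lit 0x23, nat_lit 0),
 (nat_lit 560, nat_lit 0x10a5a2, nat_lit 35),
 (nat_lit 3001, nat_lit 0x20, nat_lit 0),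
 (nat_lit 1154, nat_lit 0x21, nat_lit 0),
 (nat_lit 2387, nat_lit 0x22, nat_lit 0),
 (nat_lit 3328, nat_lit 0x21, nat_lit 0),
 (nat_lit 2824, nat_lit 0x22, nat_lit 0),
 (nat_lit 623, nat_lit 0x21590ca, nat_lit 35),
 (nat_lit 2320, nat_lit 0x21, nat_lit 0),
 (nat_lit 1066, nat_lit 0x23, nat_lit 0),
 (nat_lit 2692, nat_lit 0x23, nat_lit 0),
 (nat_lit 748, nat_lit 0x544, nat_lit 35),
 (nat_lit 2926, nat_lit 0x21, nat_lit 0),
 (nat_lit 2312, nat_lit 0x22, nat_lit 0),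
 (nat_lit 3324, nat_lit 0x23, nat_lit 0),
 (nat_lit 2667, nat_lit 0x22, nat_lit 0),
 (nat_lit 1526, nat_lit 0x23, nat_lit 0),
 (nat_lit 1168, nat_lit 0x1698e8, nat_lit 35),
 (nat_lit 1562, nat_lit 0xa9c2, nat_lit 36),
 (nat_lit 1714, nat_lit 0x21, nat_lit 0),
 (nat_lit 1821, nat_lit 0xb426, nat_lit 33),
 (nat_lit 2711, nat_lit 0x20, nat_lit 0),
 (nat_lit 3444, nat_lit 0x22, nat_lit 0),
 (nat_lit 1860, nat_lit 0x1515c2, nat_lit 35),
 (nat_lit 2229, nat_lit 0x20, nat_lit 0),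
 (nat_lit 2054, nat_lit 0x22, nat_lit 0),
 (nat_lit 2548, nat_lit 0x2103464, nat_lit 33)]

noncomputable def bs5 : Stp := ⟨728, [5, 2, 10], (.diff (.diff (.inter (.nb [9, 0, 10]) (.img [4, 3] (.nb [7, 9, 12]))) (.pt 1131)) (.pt 2325)), [], [[6], [0], [4, 5, 7, 1, 2, 3, 2, 1, 4, 5, 3, 2, 4, 3, 6, 3, 4, 2, 3, 5, 4, 1, 2, 3, 2, 1, 7, 5, 4], [5, 7, 1, 2, 3, 2, 1, 4, 5, 3, 2, 4, 3, 6, 3, 4, 2, 3, 5, 4, 1, 2, 3, 2, 1, 7, 5, 2, 1, 2, 3, 2, 1, 3, 2, 4, 3, 6, 3, 4, 2, 3, 4, 6, 1, 2, 3, 2, 1, 7]], 0, 0, 0⟩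

noncomputable def bB6 : List (ℕ × List ℕ) := [(2325, [0, 14, 11]), (2100, [0, 13]), (1131, [0, 11]), (1449, [7, 9, 12]), (712, [9, 0, 10]), (728, [5, 2, 10])]

noncomputable def bs6L0 : List (ℕ × ℕ × ℕ) := [(nat_lit 7, nat_lit 0x2a00cea, nat_lit 37),
 (nat_lit 2326, nat_lit 0x20, nat_lit 0),
 (nat_lit 10, nat_lit 0x152564, nat_lit 37),
 (nat_lit 82, nat_lit 0x10b56c, nat_lit 37),
 (nat_lit 1114, nat_lit 0x20, nat_lit 0),
 (nat_lit 91, nat_lit 0x15a424, nat_lit 35),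
 (nat_lit 119, nat_lit 0x1684cd, nat_lit 35),
 (nat_lit 2212, nat_lit 0x20, nat_lit 0),
 (nat_lit 213, nat_lit 0x10a562, nat_lit 35),
 (nat_lit 1205, nat_lit 0x20, nat_lit 0),
 (nat_lit 227, nat_lit 0x2110d61, nat_lit 35),
 (nat_lit 1518, nat_lit 0x20, nat_lit 0),
 (nat_lit 234, nat_lit 0x20, nat_lit 0),
 (nat_lit 335, nat_lit 0x10a566, nat_lit 38),
 (nat_lit 750, nat_lit 0x20, nat_lit 0),
 (nat_lit 388, nat_lit 0x21009a6, nat_lit 37),
 (nat_lit 602, nat_lit 0x2b22189, nat_lit 35),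
 (nat_lit 898, nat_lit 0x20, nat_lit 0),
 (nat_lit 731, nat_lit 0xaca9, nat_lit 36),
 (nat_lit 1659, nat_lit 0x20, nat_lit 0),
 (nat_lit 940, nat_lit 0x564, nat_lit 38),
 (nat_lit 969, nat_lit 0x215a5c0, nat_lit 37),
 (nat_lit 976, nat_lit 0x2a59922, nat_lit 35),
 (nat_lit 1870, nat_lit 0x20, nat_lit 0),
 (nat_lit 984, nat_lit 0x15952b, nat_lit 35),
 (nat_lit 3102, nat_lit 0x20, nat_lit 0),
 (nat_lit 1135, nat_lit 0xac29, nat_lit 35),
 (nat_lit 1141, nat_lit 0x8568, nat_lit 35),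
 (nat_lit 1168, nat_lit 0x1698e8, nat_lit 36),
 (nat_lit 1231, nat_lit 0x158488, nat_lit 35),
 (nat_lit 1365, nat_lit 0x10ad0d, nat_lit 35),
 (nat_lit 1444, nat_lit 0xb944, nat_lit 36),
 (nat_lit 1488, nat_lit 0x214b560, nat_lit 38),
 (nat_lit 1492, nat_lit 0x1680a7, nat_lit 36),
 (nat_lit 1856, nat_lit 0x20, nat_lit 0),
 (nat_lit 1527, nat_lit 0x163925, nat_lit 36),
 (nat_lit 1607, nat_lit 0x20, nat_lit 0),
 (nat_lit 1561, nat_lit 0xa9c4, nat_lit 36),
 (nat_lit 1621, nat_lit 0x214b564, nat_lit 39),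
 (nat_lit 1821, nat_lit 0xb426, nat_lit 35),
 (nat_lit 3444, nat_lit 0x20, nat_lit 0),
 (nat_lit 1860, nat_lit 0x1515c2, nat_lit 36),
 (nat_lit 2054, nat_lit 0x20, nat_lit 0),
 (nat_lit 2149, nat_lit 0x1525c0, nat_lit 35),
 (nat_lit 2229, nat_lit 0x16ac29, nat_lit 36),
 (nat_lit 2364, nat_lit 0x172544, nat_lit 36),
 (nat_lit 2548, nat_lit 0x2103464, nat_lit 35),
 (nat_lit 2711, nat_lit 0x15852d, nat_lit 35),
 (nat_lit 2940, nat_lit 0x172589, nat_lit 35),
 (nat_lit 3162, nat_lit 0x20, nat_lit 0),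
 (nat_lit 3434, nat_lit 0x162c48, nat_lit 35),
 (nat_lit 3443, nat_lit 0xb161, nat_lit 35)]

noncomputable def bs6 : Stp := ⟨747, [2, 10], (.diff (.diff (.diff (.diff (.diff (.diff (.diff (.diff (.diff (.diff (.diff .all (.img [5, 4, 3] (.pt 712))) (.pt 712)) (.img [3] (.pt 1131))) (.pt 1131)) (.img [5] (.pt 712))) (.pt 1449)) (.pt 2100)) (.pt 2325)) (.img [4, 3] (.pt 1449))) (.img [5, 4] (.pt 712))) (.img [4] (.pt 1449))), [([0], bA0), ([1], bA1)], [[4, 5, 7, 1, 2, 3, 2, 1, 4, 5, 3, 2, 4, 3, 6, 3, 4, 2, 3, 5, 4, 1, 2, 3, 2, 1, 7, 5, 4]], 0, 0, 0⟩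

noncomputable def bB7 : List (ℕ × List ℕ) := [(2325, [0, 14, 11]), (2100, [0, 13]), (1131, [0, 11]), (1449, [7, 9, 12]), (712, [9, 0, 10]), (728, [5, 2, 10]), (747, [2, 10])]

noncomputable def bs7L0 : List (ℕ × ℕ × ℕ) := [(nat_lit 7, nat_lit 0x2a00cea, nat_lit 40),
 (nat_lit 10, nat_lit 0x152564, nat_lit 40),
 (nat_lit 82, nat_lit 0x10b56c, nat_lit 37),
 (nat_lit 91, nat_lit 0x15a424, nat_lit 35),
 (nat_lit 119, nat_lit 0x1684cd, nat_lit 35),
 (nat_lit 213, nat_lit 0x10a562, nat_lit 35),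
 (nat_lit 227, nat_lit 0x2110d61, nat_lit 35),
 (nat_lit 234, nat_lit 0x2a019c2, nat_lit 39),
 (nat_lit 335, nat_lit 0x10a566, nat_lit 38),
 (nat_lit 388, nat_lit 0x21009a6, nat_lit 37),
 (nat_lit 602, nat_lit 0x2b22189, nat_lit 35),
 (nat_lit 750, nat_lit 0xa9ac, nat_lit 40),
 (nat_lit 898, nat_lit 0x1580a7, nat_lit 35),
 (nat_lit 940, nat_lit 0x564, nat_lit 40),
 (nat_lit 969, nat_lit 0x215a5c0, nat_lit 37),
 (nat_lit 1114, nat_lit 0x15890a, nat_lit 40),
 (nat_lit 1135, nat_lit 0xac29, nat_lit 35),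
 (nat_lit 1141, nat_lit 0x8568, nat_lit 35),
 (nat_lit 1168, nat_lit 0x1698e8, nat_lit 36),
 (nat_lit 1231, nat_lit 0x158488, nat_lit 35),
 (nat_lit 1365, nat_lit 0x10ad0d, nat_lit 35),
 (nat_lit 1444, nat_lit 0xb944, nat_lit 36),
 (nat_lit 1488, nat_lit 0x214b560, nat_lit 38),
 (nat_lit 1492, nat_lit 0x1680a7, nat_lit 36),
 (nat_lit 1527, nat_lit 0x163925, nat_lit 36),
 (nat_lit 1561, nat_lit 0xa9c4, nat_lit 36),
 (nat_lit 1607, nat_lit 0x2a2b826, nat_lit 36),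
 (nat_lit 1659, nat_lit 0x10b064, nat_lit 36),
 (nat_lit 1821, nat_lit 0xb426, nat_lit 35),
 (nat_lit 1856, nat_lit 0x1595c9, nat_lit 36),
 (nat_lit 1860, nat_lit 0x1515c2, nat_lit 36),
 (nat_lit 1870, nat_lit 0x162448, nat_lit 35),
 (nat_lit 2054, nat_lit 0xb123, nat_lit 36),
 (nat_lit 2100, nat_lit 0x5a0, nat_lit 36),
 (nat_lit 2149, nat_lit 0x1525c0, nat_lit 35),
 (nat_lit 2212, nat_lit 0x15b849, nat_lit 35),
 (nat_lit 2229, nat_lit 0x16ac29, nat_lit 36),
 (nat_lit 2325, nat_lit 0xadc0, nat_lit 40),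
 (nat_lit 2326, nat_lit 0x2161541, nat_lit 37),
 (nat_lit 2364, nat_lit 0x172544, nat_lit 36),
 (nat_lit 2548, nat_lit 0x2103464, nat_lit 35),
 (nat_lit 2711, nat_lit 0x15852d, nat_lit 35),
 (nat_lit 2921, nat_lit 0xadc4, nat_lit 35),
 (nat_lit 2940, nat_lit 0x172589, nat_lit 35),
 (nat_lit 3102, nat_lit 0x169dc0, nat_lit 35),
 (nat_lit 3162, nat_lit 0x215b445, nat_lit 35),
 (nat_lit 3390, nat_lit 0x1695c0, nat_lit 35),
 (nat_lit 3434, nat_lit 0x162c48, nat_lit 35),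
 (nat_lit 3443, nat_lit 0xb161, nat_lit 35),
 (nat_lit 3444, nat_lit 0x1501c9, nat_lit 35),
 (nat_lit 3494, nat_lit 0x15b028, nat_lit 35)]

noncomputable def bs7 : Stp := ⟨1621, [4, 11, 13, 9, 1], (.diff (.diff (.diff (.diff (.diff (.diff (.diff (.diff (.diff (.diff (.diff (.diff .all (.img [5, 4, 3] (.pt 712))) (.pt 712)) (.img [8, 3, 1, 7] (.pt 728))) (.pt 747)) (.img [3] (.pt 1131))) (.img [5, 4, 7, 8, 1, 7] (.pt 712))) (.img [8, 4, 1, 7, 3] (.pt 728))) (.pt 1131)) (.img [5] (.pt 712))) (.img [8, 4, 1, 7] (.pt 728))) (.pt 1449)) (.img [8, 4, 1, 7, 5, 3] (.pt 728))), [([0], bA0), ([1], bA1)], [], 0, 0, 0⟩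

noncomputable def bB8 : List (ℕ × List ℕ) := [(2325, [0, 14, 11]), (2100, [0, 13]), (1131, [0, 11]), (1449, [7, 9, 12]), (712, [9, 0, 10]), (728, [5, 2, 10]), (747, [2, 10]), (1621, [4, 11, 13, 9, 1])]

noncomputable def bs8L0 : List (ℕ × ℕ × ℕ) := [(nat_lit 7, nat_lit 0x2a00cea, nat_lit 37),
 (nat_lit 10, nat_lit 0x152564, nat_lit 37),
 (nat_lit 963, nat_lit 0x1595aa, nat_lit 37),
 (nat_lit 1367, nat_lit 0x20, nat_lit 0),
 (nat_lit 1161, nat_lit 0x20, nat_lit 0),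
 (nat_lit 1168, nat_lit 0x1698e8, nat_lit 36),
 (nat_lit 1247, nat_lit 0xb525, nat_lit 35),
 (nat_lit 3441, nat_lit 0x20, nat_lit 0),
 (nat_lit 1682, nat_lit 0x15b525, nat_lit 36),
 (nat_lit 2101, nat_lit 0x20, nat_lit 0),
 (nat_lit 1696, nat_lit 0x15b8ce, nat_lit 35),
 (nat_lit 2216, nat_lit 0x20, nat_lit 0),
 (nat_lit 2054, nat_lit 0xb123, nat_lit 36),
 (nat_lit 2149, nat_lit 0x1525c0, nat_lit 35),
 (nat_lit 2212, nat_lit 0x15b849, nat_lit 35),
 (nat_lit 2548, nat_lit 0x2103464, nat_lit 35),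
 (nat_lit 3444, nat_lit 0x1501c9, nat_lit 35)]

noncomputable def bs8 : Stp := ⟨1468, [2, 0, 12], (.diff (.diff (.diff (.diff (.diff (.diff (.diff (.diff (.diff (.diff (.diff (.diff (.inter (.img [5, 4, 7] (.nb [9, 0, 10])) (.nb [2, 10])) (.img [8, 3, 1, 7] (.pt 728))) (.img [3] (.pt 1131))) (.img [8, 4, 1, 7, 3] (.pt 728))) (.pt 1131)) (.img [8, 4, 1, 7] (.pt 728))) (.pt 1449)) (.img [8, 4, 1, 7, 5, 3] (.pt 728))) (.img [8, 4, 1, 7, 5, 4] (.pt 728))) (.pt 2100)) (.img [4, 3] (.pt 1449))) (.img [8, 4, 1, 7, 5] (.pt 728))) (.img [4] (.pt 1449))), [([1], bA1)], [[4, 5, 7, 1, 2, 3, 2, 1, 4, 5, 3, 2, 4, 3, 6, 3, 4, 2, 3, 5, 4, 1, 2, 3, 2, 1, 7, 5, 4, 6, 0, 5, 7, 1, 2, 3, 2, 1, 4, 5, 3, 2, 4, 3, 6, 3, 4, 2, 3, 5, 4, 1, 2, 3, 2, 1, 7, 5, 2, 1, 2, 3, 2, 1, 3, 2, 4, 3, 6, 3, 4, 2, 3, 4, 6, 1, 2, 3, 2, 1, 7, 6]], 0, 0, 0⟩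

noncomputable def bB9 : List (ℕ × List ℕ) := [(2325, [0, 14, 11]), (2100, [0, 13]), (1131, [0, 11]), (1449, [7, 9, 12]), (712, [9, 0, 10]), (728, [5, 2, 10]), (747, [2, 10]), (1621, [4, 11, 13, 9, 1]), (1468, [2, 0, 12])]

theorem ble : eqB A22.ev A22.bs (bm.flatMap fun m => bX.map fun x => (x ++ m, m ++ x)) = true := by decide +kernel

theorem bs1h : headOk 3510 694 A22.nets A22.ev [0] bX bm bB1 bs1 [bs1L0] = true := by decide +kernel

theorem bs1i0 : itemsOk 3510 694 A22.ev [0] bX bm bB1 bs1 bs1L0 (p2 bs1.b) = true := by decide +kernel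

theorem bs2h : headOk 3510 694 A22.nets A22.ev [0] bX bm bB2 bs2 [bs2L0] = true := by decide +kernel

theorem bs2i0 : itemsOk 3510 694 A22.ev [0] bX bm bB2 bs2 bs2L0 (p2 bs2.b) = true := by decide +kernel

theorem bs3h : headOk 3510 694 A22.nets A22.ev [0] bX bm bB3 bs3 [bs3L0] = true := by decide +kernel

theorem bs3i0 : itemsOk 3510 694 A22.ev [0] bX bm bB3 bs3 bs3L0 (p2 bs3.b) = true := by decide +kernel

theorem bs4h : headOk 3510 694 A22.nets A22.ev [0] bX bm bB4 bs4 [bs4L0] = true := by decide +kernel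

theorem bs4i0 : itemsOk 3510 694 A22.ev [0] bX bm bB4 bs4 bs4L0 (p2 bs4.b) = true := by decide +kernel

theorem bs5h : headOk 3510 694 A22.nets A22.ev [0] bX bm bB5 bs5 [bs5L0] = true := by decide +kernel

theorem bs5i0 : itemsOk 3510 694 A22.ev [0] bX bm bB5 bs5 bs5L0 (p2 bs5.b) = true := by decide +kernel

theorem bs6h : headOk 3510 694 A22.nets A22.ev [0] bX bm bB6 bs6 [bs6L0] = true := by decide +kernel

theorem bs6i0 : itemsOk 3510 694 A22.ev [0] bX bm bB6 bs6 bs6L0 (p2 bs6.b) = true := by decide +kernel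

theorem bs7h : headOk 3510 694 A22.nets A22.ev [0] bX bm bB7 bs7 [bs7L0] = true := by decide +kernel

theorem bs7i0 : itemsOk 3510 694 A22.ev [0] bX bm bB7 bs7 bs7L0 (p2 bs7.b) = true := by decide +kernel

theorem bs8h : headOk 3510 694 A22.nets A22.ev [0] bX bm bB8 bs8 [bs8L0] = true := by decide +kernel

theorem bs8i0 : itemsOk 3510 694 A22.ev [0] bX bm bB8 bs8 bs8L0 (p2 bs8.b) = true := by decide +kernel

theorem bfin : finOk A22.ev [0] bX bB9 A22.bs [(1621, [6, 9, 10, 7, 4, 8, 7, 0, 10]), (1621, [7, 1, 9, 8, 10, 6, 7, 10]), (1621, [1, 7, 4, 8, 10, 6, 7, 0, 8, 10]), (1621, [1, 7, 8]), (1621, [1, 7, 10, 6, 9, 8, 7, 1, 4, 7, 8, 10]), (728, [8]), (1621, [6, 8, 9, 10, 7, 3, 8, 7, 0, 10]), (1621, [1, 6, 7, 10, 0, 10]), (1621, [4, 3, 5, 7, 10, 0, 6, 10])] = true := by decide +kernel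

theorem bok : CenOk 3510 694 A22.nets A22.ev [0] A22.bs bX bm [] :=
  .known 2325 [0, 14, 11] (by decide +kernel)
    (.step bs1 [bs1L0] bs1h (List.forall_mem_cons.2 ⟨bs1i0, fun _ h => absurd h List.not_mem_nil⟩)
    (.step bs2 [bs2L0] bs2h (List.forall_mem_cons.2 ⟨bs2i0, fun _ h => absurd h List.not_mem_nil⟩)
    (.step bs3 [bs3L0] bs3h (List.forall_mem_cons.2 ⟨bs3i0, fun _ h => absurd h List.not_mem_nil⟩)
    (.step bs4 [bs4L0] bs4h (List.forall_mem_cons.2 ⟨bs4i0, fun _ h => absurd h List.not_mem_nil⟩)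
    (.step bs5 [bs5L0] bs5h (List.forall_mem_cons.2 ⟨bs5i0, fun _ h => absurd h List.not_mem_nil⟩)
    (.step bs6 [bs6L0] bs6h (List.forall_mem_cons.2 ⟨bs6i0, fun _ h => absurd h List.not_mem_nil⟩)
    (.step bs7 [bs7L0] bs7h (List.forall_mem_cons.2 ⟨bs7i0, fun _ h => absurd h List.not_mem_nil⟩)
    (.step bs8 [bs8L0] bs8h (List.forall_mem_cons.2 ⟨bs8i0, fun _ h => absurd h List.not_mem_nil⟩)
    (.fin _ bfin)))))))))

theorem beq {G : Type*} [Group G] {D : Set G} {gen : ℕ → G} (M : A22.Is D gen) : cenW gen bX = clW gen bm :=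
  M.cen (M.le_cen ble) bok

noncomputable def bfA0_0 : ℕ :=
 nat_lit 0x3fffbfffffffffffc7fbffffffffffbff7fffffffffffffdff7ffffffffbfeffe9ffbfffbffffffeffdffdebf7fddff77ffdffbddfffff5dfdffffefbff6fffdff3fff7effd9f7e1fbddf7ff3efffaffffdfdfe76fff7ef9eff7fe7fbce7bfdbdffffffa1fcff7bffffffb51f7fcbb3b05d7dede69dffc97cfffe4d3f9f397ef75ea9deaafc013f16876f9ff96f9edefebff7f539b7cd7ad2a75f5b1f6bdf9f70c6fefe7542af2be5a9d8a0c5f6b7865a315b77889042327e5c3e7b4fd13dbc202007517cee823fd666a459a65800af85f565f8d54fb920767eaee3e2ff28028a7d23282dbb80413fc305db411427b70b781ac5812113e941e004809e89958194d6860d5f1f367e4552e5a14c60768000522d95ac393080a00322841f0040041447099c4302024111170047880050200c3fbfedb4f0231400800c5d4a00100220000560d824410808c0040fde46830406e80102106607160c2a020054be002c218000001a0800081a21068910008081540c0002030000a9000000008002024001202400080000a008000004400020000000000001000000000008000400000000000000850010002000100000000000000000000000000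

def bL : List ((ℕ × List ℕ) × ℕ) := [((7, [10, 7, 3, 0, 10]), 91), ((10, [4, 11, 9, 10]), 82), ((82, [12, 11, 13, 1]), 10), ((91, [4, 1, 9, 11]), 7), ((119, [13, 6, 1, 13]), 10), ((213, [2, 11, 9, 1]), 7), ((227, [1, 11, 3, 2, 1]), 10), ((234, [2, 14, 6, 0, 10]), 7), ((335, [6, 11, 9, 1]), 10), ((388, [6, 13, 2, 0, 1]), 7), ((602, [9, 12, 8, 4, 11]), 91), ((617, [9, 14, 8, 10]), 82), ((712, [9, 0, 10]), 7), ((731, [9, 5, 11]), 82), ((747, [2, 10]), 82), ((750, [12, 13, 10]), 7), ((802, [13, 0, 11]), 91), ((898, [7, 5, 0, 11]), 7), ((940, [4, 11]), 7), ((969, [0, 14, 9, 11, 1]), 10), ((976, [2, 9, 6, 11, 10]), 119), ((984, [11, 9, 5, 11]), 82), ((1114, [10, 8, 2, 11]), 7), ((1131, [0, 11]), 731), ((1135, [9, 1, 11]), 10), ((1141, [8, 11, 1]), 7), ((1168, [8, 7, 6, 13]), 7), ((1199, [10, 8, 4, 12]), 82), ((1205, [2, 3, 12, 1]), 82), ((1231, [8, 4, 1, 11]), 10), ((1365, [13, 8, 11, 1]), 7), ((1444, [4, 10, 14]), 10), ((1449,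 [7, 9, 12]), 7), ((1488, [0, 11, 13, 9, 1]), 10), ((1492, [7, 5, 0, 13]), 7), ((1518, [4, 14, 2, 0, 10]), 7), ((1527, [5, 9, 14, 12]), 10), ((1561, [4, 14, 10]), 7), ((1607, [6, 1, 14, 5, 10]), 7), ((1621, [4, 11, 13, 9, 1]), 7), ((1659, [4, 3, 12, 1]), 7), ((1821, [6, 1, 13]), 10), ((1856, [9, 14, 5, 11]), 119), ((1860, [2, 14, 5, 10]), 10), ((1870, [8, 2, 9, 12]), 7), ((2054, [3, 9, 12]), 7), ((2100, [0, 13]), 91), ((2149, [0, 14, 9, 10]), 7), ((2212, [9, 2, 14, 11]), 7), ((2229, [9, 1, 11, 13]), 10), ((2325, [0, 14, 11]), 0), ((2326, [1, 10, 5, 12, 1]), 7), ((2364, [4, 10, 9, 14]), 7), ((2548, [4, 3, 13, 0, 1]), 7), ((2711, [13, 9, 1, 11]), 10), ((2921, [4, 14, 11]), 7), ((2940, [9, 12, 9, 14]), 10), ((3102, [0, 14, 7, 13]), 7), ((3162, [5, 2, 13, 11, 1]), 7), ((3390, [0, 14, 5, 13]), 82), ((3434, [8, 2, 11, 12]), 7), ((3443, [1, 11, 12]), 10), ((3444, [9, 14, 0, 10]), 7), ((3494, [8, 1, 12, 11]), 7)]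

theorem bcen {G : Type*} [Group G] {D : Set G} {gen : ℕ → G} (M : A22.Is D gen) : cenW gen [nthW reps 1] = clW gen bm :=
  le_antisymm ((M.fix_pt (fs := [([0], bfA0_0)]) (L := bL) (a := 2325) (by decide +kernel) (by decide +kernel)).trans (beq M).le)
    (M.le_cen (by decide +kernel))

noncomputable def cX : List (List ℕ) := [nthW reps 2]

noncomputable def cm : List (List ℕ) := nthW reps 2 :: (es ++ hs)

noncomputable def cA0 : ℕ :=
 nat_lit 0x3fffffffffffffdcdfffffffee6ffbdf77ffffffffffbfffe179cffbfffffafefffffffd9ffffffd7bddfbfff75d5ffffffecfffeffebdeefdf7fbaeaffeffffb777bff65dfa4bd55bdcf83e2c7ffff6fffffeed7dffff6aef5fecb3f497aab3b9f07c58ffe7ed7fffddd2758ffebdeb0bf73dffff4ff9879df386f8f1cdd2fffce094e549f58bfab5eb0bf73dfbff42d9879df384f8708dd27ddca094e541df40fdc3da90ff69b6e6af4f1a45740628d5db2e6222ae19b681fb87b521fe936dcc169e3482e80c51abb65884455c33619a081f856873b67542700ca466221ba89d7201a081f856873b665427004a0662211a899200111e1d1a046609a42844100520000111e1c0a002201a428441004000081000003108120000000652040000044204800000009511700048180701000111700048180700000008010000408000004000102010008800024000000008208100000000000000000800000000003fdfffffbfbfefefbff9fefb3ffe7fbfffee3de67eeedff61fdabadea8b1bfebfbaa6c8ebdba2ab8f47e8bcf533a26812802149d52f90f540a00e202430c00010085101858050102100d40000000004400000000000000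

noncomputable def cs0L0 : List (ℕ × ℕ × ℕ) := [(nat_lit 1131, nat_lit 0x21, nat_lit 0),
 (nat_lit 2325, nat_lit 0x26, nat_lit 0),
 (nat_lit 1059, nat_lit 0x20, nat_lit 0),
 (nat_lit 718, nat_lit 0x22, nat_lit 0),
 (nat_lit 70, nat_lit 0x21, nat_lit 0),
 (nat_lit 2533, nat_lit 0x20, nat_lit 0),
 (nat_lit 1958, nat_lit 0x22, nat_lit 0),
 (nat_lit 712, nat_lit 0x22, nat_lit 0),
 (nat_lit 990, nat_lit 0x23, nat_lit 0),
 (nat_lit 1321, nat_lit 0x25, nat_lit 0),
 (nat_lit 2149, nat_lit 0x22, nat_lit 0),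
 (nat_lit 2738, nat_lit 0x23, nat_lit 0),
 (nat_lit 1372, nat_lit 0x25, nat_lit 0),
 (nat_lit 20, nat_lit 0x21, nat_lit 0),
 (nat_lit 940, nat_lit 0x23, nat_lit 0),
 (nat_lit 1231, nat_lit 0x25, nat_lit 0),
 (nat_lit 2534, nat_lit 0x24, nat_lit 0),
 (nat_lit 1063, nat_lit 0x25, nat_lit 0),
 (nat_lit 608, nat_lit 0x21, nat_lit 0),
 (nat_lit 2921, nat_lit 0x23, nat_lit 0),
 (nat_lit 1488, nat_lit 0x25, nat_lit 0),
 (nat_lit 860, nat_lit 0x24, nat_lit 0),
 (nat_lit 919, nat_lit 0x25, nat_lit 0),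
 (nat_lit 11, nat_lit 0x23, nat_lit 0),
 (nat_lit 12, nat_lit 0x25, nat_lit 0),
 (nat_lit 2326, nat_lit 0x24, nat_lit 0),
 (nat_lit 1135, nat_lit 0x25, nat_lit 0),
 (nat_lit 1295, nat_lit 0x25, nat_lit 0),
 (nat_lit 1141, nat_lit 0x22, nat_lit 0),
 (nat_lit 524, nat_lit 0x23, nat_lit 0),
 (nat_lit 520, nat_lit 0x25, nat_lit 0),
 (nat_lit 898, nat_lit 0x24, nat_lit 0),
 (nat_lit 969, nat_lit 0x25, nat_lit 0),
 (nat_lit 765, nat_lit 0x25, nat_lit 0),
 (nat_lit 1621, nat_lit 0x22, nat_lit 0),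
 (nat_lit 10, nat_lit 0x22, nat_lit 0),
 (nat_lit 50, nat_lit 0x24, nat_lit 0),
 (nat_lit 56, nat_lit 0x25, nat_lit 0),
 (nat_lit 91, nat_lit 0x22, nat_lit 0),
 (nat_lit 1205, nat_lit 0x25, nat_lit 0),
 (nat_lit 1069, nat_lit 0x22, nat_lit 0),
 (nat_lit 2212, nat_lit 0x22, nat_lit 0),
 (nat_lit 75, nat_lit 0x21, nat_lit 0),
 (nat_lit 617, nat_lit 0x22, nat_lit 0),
 (nat_lit 180, nat_lit 0x24, nat_lit 0),
 (nat_lit 458, nat_lit 0x25, nat_lit 0),
 (nat_lit 388, nat_lit 0x22, nat_lit 0),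
 (nat_lit 747, nat_lit 0x25, nat_lit 0),
 (nat_lit 1769, nat_lit 0x22, nat_lit 0),
 (nat_lit 1114, nat_lit 0x22, nat_lit 0),
 (nat_lit 16, nat_lit 0x21, nat_lit 0),
 (nat_lit 335, nat_lit 0x24, nat_lit 0),
 (nat_lit 535, nat_lit 0x25, nat_lit 0),
 (nat_lit 2021, nat_lit 0x22, nat_lit 0),
 (nat_lit 630, nat_lit 0x21, nat_lit 0),
 (nat_lit 1518, nat_lit 0x23, nat_lit 0),
 (nat_lit 227, nat_lit 0x24, nat_lit 0),
 (nat_lit 60, nat_lit 0x25, nat_lit 0),
 (nat_lit 1042, nat_lit 0x22, nat_lit 0),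
 (nat_lit 13, nat_lit 0x21, nat_lit 0),
 (nat_lit 750, nat_lit 0x23, nat_lit 0),
 (nat_lit 82, nat_lit 0x23, nat_lit 0),
 (nat_lit 1402, nat_lit 0x23, nat_lit 0),
 (nat_lit 459, nat_lit 0x23, nat_lit 0),
 (nat_lit 119, nat_lit 0x23, nat_lit 0),
 (nat_lit 768, nat_lit 0x23, nat_lit 0),
 (nat_lit 61, nat_lit 0x23, nat_lit 0),
 (nat_lit 602, nat_lit 0x22, nat_lit 0),
 (nat_lit 7, nat_lit 0x22, nat_lit 0),
 (nat_lit 234, nat_lit 0x25, nat_lit 0),
 (nat_lit 213, nat_lit 0x25, nat_lit 0)]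

noncomputable def cs0 : Stp := ⟨0, [], .all, [([0], cA0)], [[7], [8], [9], [10], [11], [12], [1]], 0, 0, 0⟩

noncomputable def cB1 : List (ℕ × List ℕ) := [(0, [])]

noncomputable def cs1L0 : List (ℕ × ℕ × ℕ) := [(nat_lit 7, nat_lit 0x2a00cea, nat_lit 33),
 (nat_lit 61, nat_lit 0x21, nat_lit 0),
 (nat_lit 213, nat_lit 0x24, nat_lit 0),
 (nat_lit 180, nat_lit 0x27, nat_lit 0),
 (nat_lit 13, nat_lit 0x22, nat_lit 0),
 (nat_lit 227, nat_lit 0x27, nat_lit 0),
 (nat_lit 234, nat_lit 0x26, nat_lit 0),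
 (nat_lit 60, nat_lit 0x27, nat_lit 0),
 (nat_lit 524, nat_lit 0x23, nat_lit 0),
 (nat_lit 630, nat_lit 0x26, nat_lit 0),
 (nat_lit 16, nat_lit 0x23, nat_lit 0),
 (nat_lit 119, nat_lit 0x27, nat_lit 0),
 (nat_lit 617, nat_lit 0x23, nat_lit 0),
 (nat_lit 602, nat_lit 0x24, nat_lit 0),
 (nat_lit 535, nat_lit 0x27, nat_lit 0),
 (nat_lit 458, nat_lit 0x23, nat_lit 0),
 (nat_lit 11, nat_lit 0x26, nat_lit 0),
 (nat_lit 608, nat_lit 0x22, nat_lit 0),
 (nat_lit 459, nat_lit 0x22, nat_lit 0),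
 (nat_lit 75, nat_lit 0x23, nat_lit 0),
 (nat_lit 82, nat_lit 0x27, nat_lit 0),
 (nat_lit 10, nat_lit 0x26, nat_lit 0),
 (nat_lit 50, nat_lit 0x27, nat_lit 0),
 (nat_lit 56, nat_lit 0x23, nat_lit 0),
 (nat_lit 520, nat_lit 0x22, nat_lit 0),
 (nat_lit 20, nat_lit 0x22, nat_lit 0),
 (nat_lit 335, nat_lit 0x27, nat_lit 0),
 (nat_lit 12, nat_lit 0x22, nat_lit 0),
 (nat_lit 388, nat_lit 0x21, nat_lit 0),
 (nat_lit 91, nat_lit 0x21, nat_lit 0),
 (nat_lit 70, nat_lit 0x2e, nat_lit 33),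
 (nat_lit 712, nat_lit 0x21, nat_lit 0),
 (nat_lit 2533, nat_lit 0x25, nat_lit 0),
 (nat_lit 1131, nat_lit 0x20, nat_lit 0),
 (nat_lit 1141, nat_lit 0x27, nat_lit 0),
 (nat_lit 718, nat_lit 0x20, nat_lit 0),
 (nat_lit 940, nat_lit 0x22, nat_lit 0),
 (nat_lit 1231, nat_lit 0x24, nat_lit 0),
 (nat_lit 2149, nat_lit 0x25, nat_lit 0),
 (nat_lit 1063, nat_lit 0x27, nat_lit 0),
 (nat_lit 2325, nat_lit 0x20, nat_lit 0),
 (nat_lit 1621, nat_lit 0x27, nat_lit 0),
 (nat_lit 1069, nat_lit 0x27, nat_lit 0),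
 (nat_lit 2212, nat_lit 0x23, nat_lit 0),
 (nat_lit 1958, nat_lit 0x25, nat_lit 0),
 (nat_lit 990, nat_lit 0x22, nat_lit 0),
 (nat_lit 1321, nat_lit 0x24, nat_lit 0),
 (nat_lit 1135, nat_lit 0x27, nat_lit 0),
 (nat_lit 2326, nat_lit 0x23, nat_lit 0),
 (nat_lit 2921, nat_lit 0x25, nat_lit 0),
 (nat_lit 1488, nat_lit 0x25, nat_lit 0),
 (nat_lit 919, nat_lit 0x27, nat_lit 0),
 (nat_lit 1295, nat_lit 0x23, nat_lit 0),
 (nat_lit 1769, nat_lit 0x27, nat_lit 0),
 (nat_lit 1114, nat_lit 0x23, nat_lit 0),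
 (nat_lit 2021, nat_lit 0x23, nat_lit 0),
 (nat_lit 1518, nat_lit 0x22, nat_lit 0),
 (nat_lit 1372, nat_lit 0x24, nat_lit 0),
 (nat_lit 2738, nat_lit 0x22, nat_lit 0),
 (nat_lit 969, nat_lit 0x27, nat_lit 0),
 (nat_lit 2534, nat_lit 0x23, nat_lit 0),
 (nat_lit 1205, nat_lit 0x23, nat_lit 0),
 (nat_lit 898, nat_lit 0x25, nat_lit 0),
 (nat_lit 765, nat_lit 0x23, nat_lit 0),
 (nat_lit 1042, nat_lit 0x23, nat_lit 0),
 (nat_lit 750, nat_lit 0x22, nat_lit 0),
 (nat_lit 1402, nat_lit 0x22, nat_lit 0),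
 (nat_lit 860, nat_lit 0x23, nat_lit 0),
 (nat_lit 747, nat_lit 0x23, nat_lit 0),
 (nat_lit 768, nat_lit 0x22, nat_lit 0)]

noncomputable def cs1 : Stp := ⟨1059, [11], (.diff .all (.pt 0)), [([0], cA0)], [[7], [9], [10], [11], [12], [1], [5], [8, 7, 9, 8, 10, 9, 12, 9, 10, 8, 9, 7, 8]], 0, 0, 0⟩

noncomputable def cB2 : List (ℕ × List ℕ) := [(0, []), (1059, [11])]

noncomputable def cs2E : ℕ :=
 nat_lit 0x2e067dde4bfc8a091f804c4ac4a3f579292250d7072afbe2dbb7f77c3fd3fa9bfab997eff712d11f3ebbe7eaf20a9a8fdaf7befaf4c08bcbdfead7ebd377cc6be56ce0fd6fb22edd75dfe6fdc1e19fe6eaf696da0d44340000000000000000000000000000000000000000000000000000000000000000000000000000000000000000000000000000000000000000000000000000000000000000000000000000000000000000000000000000000000000000000000000000000000000000000000000000000000000000000000000000000000000000000000000000000000000000000000000000000000000000000000000000000000000000000000000000000000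000000000000000000000000000000000000000000000000000000000000000000000000000000000000000000000000000000000000000000000000000000000000000000000000000000000000000000000000000000000000000000000000000000000000000000000000000000000000000000000000000000000000000000000000000000000000000000000000000000000000000000000000000000000000000000000000000000000000000000000047661887d48dc7db83fecfd06d702e9b5bf6acafe11412749520200f04f25d94951884602bbcbb831516444c37d5b3e9b629953c28fdc1908050a1503620ce486bc85c8ac36e4cc82890240870f44042c636880480c40000000000000000000000000000000000000000000000000000000000000000000000000000000000000000000000000000000000000000000000000000000000000000000000000000000000000000000000000000000000000000000000000000000000000000000000000000000000000000000000000000000000000000000000000000000000000000000000000000000000000000000000000000000000000000000000000000000000000000000000000000000000000000000000000000000000000000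00000000000000000000000000000000000000000000000000000000000000000000000000000000000000000000000000000000000000000000000000000000000000000000000000000000000000000000000000000000000000000000000000000000000000000000000000000000000000000000000000000000000000000000000000000000000000000000000000000000000000000337aeac3950be77fa1c6bc3573540a4df4a4bfcc08f7411710cc1597d0894088d7f67e67206defded81e497c9ffd27503728c19d47312cbe770102136cd93355021d3a1cdb6ddc4097097b1ee01c841d4f1b69b5fca020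

noncomputable def cs2L0 : List (ℕ × ℕ × ℕ) := [(nat_lit 1, nat_lit 0x108041, nat_lit 34),
 (nat_lit 3, nat_lit 0x15006a, nat_lit 34),
 (nat_lit 6, nat_lit 0x214b4ae, nat_lit 32),
 (nat_lit 7, nat_lit 0x2a00cea, nat_lit 32),
 (nat_lit 9, nat_lit 0xa90b, nat_lit 34),
 (nat_lit 11, nat_lit 0x15008a, nat_lit 34),
 (nat_lit 17, nat_lit 0x108143, nat_lit 34),
 (nat_lit 70, nat_lit 0x2e, nat_lit 34),
 (nat_lit 73, nat_lit 0x1611a7, nat_lit 34),
 (nat_lit 81, nat_lit 0x152182, nat_lit 34)]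

noncomputable def cs2 : Stp := ⟨69, [8, 10, 5, 2, 10], (.diff (.nb []) (.pt 0)), [], [[10], [11], [12], [0], [1, 5], [7, 9, 8, 7, 9, 8, 10, 9, 12, 9, 10, 8, 9, 7, 8, 12, 10, 9]], 6, 3, cs2E⟩

noncomputable def cB3 : List (ℕ × List ℕ) := [(0, []), (1059, [11]), (69, [8, 10, 5, 2, 10])]

noncomputable def cs3L0 : List (ℕ × ℕ × ℕ) := [(nat_lit 7, nat_lit 0x2a00cea, nat_lit 1147011),
 (nat_lit 213, nat_lit 0x20, nat_lit 0),
 (nat_lit 388, nat_lit 0x23, nat_lit 0),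
 (nat_lit 10, nat_lit 0x21, nat_lit 0),
 (nat_lit 617, nat_lit 0x22, nat_lit 0),
 (nat_lit 227, nat_lit 0x22, nat_lit 0),
 (nat_lit 11, nat_lit 0x15008a, nat_lit 34),
 (nat_lit 56, nat_lit 0x20, nat_lit 0),
 (nat_lit 50, nat_lit 0x21, nat_lit 0),
 (nat_lit 180, nat_lit 0x22, nat_lit 0),
 (nat_lit 630, nat_lit 0x23, nat_lit 0),
 (nat_lit 60, nat_lit 0x22, nat_lit 0),
 (nat_lit 535, nat_lit 0x21, nat_lit 0),
 (nat_lit 524, nat_lit 0x22, nat_lit 0),
 (nat_lit 75, nat_lit 0x23, nat_lit 0),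
 (nat_lit 16, nat_lit 0x23, nat_lit 0),
 (nat_lit 458, nat_lit 0x21, nat_lit 0),
 (nat_lit 13, nat_lit 0x23, nat_lit 0),
 (nat_lit 12, nat_lit 0x10a5ae, nat_lit 34),
 (nat_lit 20, nat_lit 0x20, nat_lit 0),
 (nat_lit 459, nat_lit 0x23, nat_lit 0),
 (nat_lit 61, nat_lit 0x15088b, nat_lit 34),
 (nat_lit 608, nat_lit 0x23, nat_lit 0),
 (nat_lit 520, nat_lit 0x20, nat_lit 0),
 (nat_lit 70, nat_lit 0x2e, nat_lit 34),
 (nat_lit 91, nat_lit 0x15a424, nat_lit 35),
 (nat_lit 234, nat_lit 0x23, nat_lit 0),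
 (nat_lit 602, nat_lit 0x20, nat_lit 0),
 (nat_lit 119, nat_lit 0x1684cd, nat_lit 35),
 (nat_lit 712, nat_lit 0xa809, nat_lit 33),
 (nat_lit 1231, nat_lit 0x20, nat_lit 0),
 (nat_lit 1518, nat_lit 0x23, nat_lit 0),
 (nat_lit 718, nat_lit 0x549, nat_lit 33),
 (nat_lit 1321, nat_lit 0x20, nat_lit 0),
 (nat_lit 1402, nat_lit 0x23, nat_lit 0),
 (nat_lit 747, nat_lit 0x542, nat_lit 33),
 (nat_lit 898, nat_lit 0x20, nat_lit 0),
 (nat_lit 969, nat_lit 0x21, nat_lit 0),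
 (nat_lit 1135, nat_lit 0x22, nat_lit 0),
 (nat_lit 940, nat_lit 0x22, nat_lit 0),
 (nat_lit 1621, nat_lit 0x23, nat_lit 0),
 (nat_lit 2921, nat_lit 0x21, nat_lit 0),
 (nat_lit 1205, nat_lit 0x22, nat_lit 0),
 (nat_lit 2326, nat_lit 0x21, nat_lit 0),
 (nat_lit 2212, nat_lit 0x23, nat_lit 0),
 (nat_lit 1114, nat_lit 0x21, nat_lit 0),
 (nat_lit 1141, nat_lit 0x23, nat_lit 0),
 (nat_lit 750, nat_lit 0xa9ac, nat_lit 33),
 (nat_lit 2149, nat_lit 0x23, nat_lit 0),
 (nat_lit 1488, nat_lit 0x20, nat_lit 0),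
 (nat_lit 765, nat_lit 0xa802, nat_lit 33),
 (nat_lit 860, nat_lit 0x20, nat_lit 0),
 (nat_lit 919, nat_lit 0x21, nat_lit 0),
 (nat_lit 1063, nat_lit 0x22, nat_lit 0),
 (nat_lit 990, nat_lit 0x22, nat_lit 0),
 (nat_lit 1769, nat_lit 0x23, nat_lit 0),
 (nat_lit 2738, nat_lit 0x21, nat_lit 0),
 (nat_lit 1295, nat_lit 0x22, nat_lit 0),
 (nat_lit 2534, nat_lit 0x21, nat_lit 0),
 (nat_lit 2021, nat_lit 0x23, nat_lit 0),
 (nat_lit 1042, nat_lit 0x21, nat_lit 0),
 (nat_lit 1069, nat_lit 0x23, nat_lit 0),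
 (nat_lit 768, nat_lit 0xa844, nat_lit 33),
 (nat_lit 1958, nat_lit 0x23, nat_lit 0),
 (nat_lit 1372, nat_lit 0x20, nat_lit 0),
 (nat_lit 2325, nat_lit 0xadc0, nat_lit 33),
 (nat_lit 2533, nat_lit 0x56e, nat_lit 33)]

noncomputable def cs3 : Stp := ⟨335, [6, 11, 9, 1], (.diff (.diff (.diff (.diff .all (.pt 0)) (.img [0, 3] (.pt 69))) (.pt 1059)) (.img [1] (.pt 1059))), [([0], cA0)], [[12], [11, 0], [2, 11, 2], [9, 10, 11, 8, 7, 9, 8, 10, 9, 12, 9, 10, 8, 9, 7, 8, 11, 10, 9]], 0, 0, 0⟩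

noncomputable def cB4 : List (ℕ × List ℕ) := [(0, []), (1059, [11]), (69, [8, 10, 5, 2, 10]), (335, [6, 11, 9, 1])]

noncomputable def cs4L0 : List (ℕ × ℕ × ℕ) := [(nat_lit 7, nat_lit 0x2a00cea, nat_lit 36),
 (nat_lit 213, nat_lit 0x20, nat_lit 0),
 (nat_lit 388, nat_lit 0x21, nat_lit 0),
 (nat_lit 11, nat_lit 0x15008a, nat_lit 34),
 (nat_lit 56, nat_lit 0x20, nat_lit 0),
 (nat_lit 630, nat_lit 0x21, nat_lit 0),
 (nat_lit 12, nat_lit 0x10a5ae, nat_lit 34),
 (nat_lit 20, nat_lit 0x20, nat_lit 0),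
 (nat_lit 459, nat_lit 0x21, nat_lit 0),
 (nat_lit 13, nat_lit 0x152162, nat_lit 34),
 (nat_lit 524, nat_lit 0x21, nat_lit 0),
 (nat_lit 458, nat_lit 0x20, nat_lit 0),
 (nat_lit 16, nat_lit 0x170907, nat_lit 34),
 (nat_lit 180, nat_lit 0x21, nat_lit 0),
 (nat_lit 60, nat_lit 0x20, nat_lit 0),
 (nat_lit 50, nat_lit 0x108146, nat_lit 34),
 (nat_lit 535, nat_lit 0x20, nat_lit 0),
 (nat_lit 75, nat_lit 0x21, nat_lit 0),
 (nat_lit 61, nat_lit 0x15088b, nat_lit 34),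
 (nat_lit 608, nat_lit 0x21, nat_lit 0),
 (nat_lit 520, nat_lit 0x20, nat_lit 0),
 (nat_lit 70, nat_lit 0x2e, nat_lit 34),
 (nat_lit 91, nat_lit 0x15a424, nat_lit 36),
 (nat_lit 234, nat_lit 0x21, nat_lit 0),
 (nat_lit 602, nat_lit 0x20, nat_lit 0),
 (nat_lit 227, nat_lit 0x2110d61, nat_lit 36),
 (nat_lit 617, nat_lit 0x1521c9, nat_lit 35),
 (nat_lit 712, nat_lit 0xa809, nat_lit 33),
 (nat_lit 1231, nat_lit 0x20, nat_lit 0),
 (nat_lit 1518, nat_lit 0x21, nat_lit 0),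
 (nat_lit 718, nat_lit 0x549, nat_lit 33),
 (nat_lit 1321, nat_lit 0x20, nat_lit 0),
 (nat_lit 1402, nat_lit 0x21, nat_lit 0),
 (nat_lit 747, nat_lit 0x542, nat_lit 33),
 (nat_lit 898, nat_lit 0x20, nat_lit 0),
 (nat_lit 1621, nat_lit 0x21, nat_lit 0),
 (nat_lit 750, nat_lit 0xa9ac, nat_lit 33),
 (nat_lit 2149, nat_lit 0x21, nat_lit 0),
 (nat_lit 1488, nat_lit 0x20, nat_lit 0),
 (nat_lit 765, nat_lit 0xa802, nat_lit 33),
 (nat_lit 860, nat_lit 0x20, nat_lit 0),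
 (nat_lit 1769, nat_lit 0x21, nat_lit 0),
 (nat_lit 768, nat_lit 0xa844, nat_lit 33),
 (nat_lit 1958, nat_lit 0x21, nat_lit 0),
 (nat_lit 1372, nat_lit 0x20, nat_lit 0),
 (nat_lit 919, nat_lit 0x10ad2e, nat_lit 33),
 (nat_lit 2738, nat_lit 0x20, nat_lit 0),
 (nat_lit 1042, nat_lit 0x21, nat_lit 0),
 (nat_lit 940, nat_lit 0x564, nat_lit 33),
 (nat_lit 1135, nat_lit 0x20, nat_lit 0),
 (nat_lit 2212, nat_lit 0x21, nat_lit 0),
 (nat_lit 969, nat_lit 0x215a5c0, nat_lit 33),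
 (nat_lit 2921, nat_lit 0x20, nat_lit 0),
 (nat_lit 1114, nat_lit 0x21, nat_lit 0),
 (nat_lit 990, nat_lit 0xac04, nat_lit 33),
 (nat_lit 1063, nat_lit 0x20, nat_lit 0),
 (nat_lit 2021, nat_lit 0x21, nat_lit 0),
 (nat_lit 1069, nat_lit 0xac28, nat_lit 33),
 (nat_lit 2534, nat_lit 0x21, nat_lit 0),
 (nat_lit 1295, nat_lit 0x20, nat_lit 0),
 (nat_lit 1141, nat_lit 0x8568, nat_lit 33),
 (nat_lit 2326, nat_lit 0x21, nat_lit 0),
 (nat_lit 1205, nat_lit 0x20, nat_lit 0),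
 (nat_lit 2325, nat_lit 0xadc0, nat_lit 33),
 (nat_lit 2533, nat_lit 0x56e, nat_lit 33)]

noncomputable def cs4 : Stp := ⟨119, [13, 6, 1, 13], (.diff (.diff (.diff (.diff (.diff (.diff .all (.pt 0)) (.img [0, 3, 4] (.pt 69))) (.img [0, 3] (.pt 69))) (.pt 335)) (.pt 1059)) (.img [1] (.pt 1059))), [([0], cA0)], [[12], [9, 10, 11, 8, 7, 9, 8, 10, 9, 12, 9, 10, 8, 9, 7, 8, 11, 10, 9]], 0, 0, 0⟩

noncomputable def cB5 : List (ℕ × List ℕ) := [(0, []), (1059, [11]), (69, [8, 10, 5, 2, 10]), (335, [6, 11, 9, 1]), (119, [13, 6, 1, 13])]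

noncomputable def cs5L0 : List (ℕ × ℕ × ℕ) := [(nat_lit 7, nat_lit 0x2a00cea, nat_lit 34),
 (nat_lit 213, nat_lit 0x20, nat_lit 0),
 (nat_lit 388, nat_lit 0x21, nat_lit 0),
 (nat_lit 11, nat_lit 0x20, nat_lit 0),
 (nat_lit 630, nat_lit 0x21, nat_lit 0),
 (nat_lit 12, nat_lit 0x10a5ae, nat_lit 36),
 (nat_lit 20, nat_lit 0x20, nat_lit 0),
 (nat_lit 459, nat_lit 0x21, nat_lit 0),
 (nat_lit 13, nat_lit 0x152162, nat_lit 1117317),
 (nat_lit 524, nat_lit 0x21, nat_lit 0),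
 (nat_lit 458, nat_lit 0x20, nat_lit 0),
 (nat_lit 16, nat_lit 0x170907, nat_lit 36),
 (nat_lit 180, nat_lit 0x21, nat_lit 0),
 (nat_lit 60, nat_lit 0x20, nat_lit 0),
 (nat_lit 50, nat_lit 0x108146, nat_lit 36),
 (nat_lit 535, nat_lit 0x20, nat_lit 0),
 (nat_lit 75, nat_lit 0x21, nat_lit 0),
 (nat_lit 61, nat_lit 0x15088b, nat_lit 36),
 (nat_lit 608, nat_lit 0x21, nat_lit 0),
 (nat_lit 520, nat_lit 0x20, nat_lit 0),
 (nat_lit 70, nat_lit 0x2e, nat_lit 37),
 (nat_lit 91, nat_lit 0x15a424, nat_lit 34),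
 (nat_lit 234, nat_lit 0x21, nat_lit 0),
 (nat_lit 602, nat_lit 0x20, nat_lit 0),
 (nat_lit 227, nat_lit 0x2110d61, nat_lit 34),
 (nat_lit 712, nat_lit 0xa809, nat_lit 33),
 (nat_lit 1231, nat_lit 0x20, nat_lit 0),
 (nat_lit 1518, nat_lit 0x21, nat_lit 0),
 (nat_lit 718, nat_lit 0x549, nat_lit 33),
 (nat_lit 1321, nat_lit 0x20, nat_lit 0),
 (nat_lit 1402, nat_lit 0x21, nat_lit 0),
 (nat_lit 747, nat_lit 0x542, nat_lit 33),
 (nat_lit 898, nat_lit 0x20, nat_lit 0),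
 (nat_lit 1621, nat_lit 0x21, nat_lit 0),
 (nat_lit 750, nat_lit 0xa9ac, nat_lit 33),
 (nat_lit 2149, nat_lit 0x21, nat_lit 0),
 (nat_lit 1488, nat_lit 0x20, nat_lit 0),
 (nat_lit 765, nat_lit 0xa802, nat_lit 33),
 (nat_lit 860, nat_lit 0x20, nat_lit 0),
 (nat_lit 1769, nat_lit 0x21, nat_lit 0),
 (nat_lit 768, nat_lit 0xa844, nat_lit 33),
 (nat_lit 1958, nat_lit 0x21, nat_lit 0),
 (nat_lit 1372, nat_lit 0x20, nat_lit 0),
 (nat_lit 919, nat_lit 0x10ad2e, nat_lit 33),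
 (nat_lit 2738, nat_lit 0x20, nat_lit 0),
 (nat_lit 1042, nat_lit 0x21, nat_lit 0),
 (nat_lit 940, nat_lit 0x564, nat_lit 33),
 (nat_lit 1135, nat_lit 0x20, nat_lit 0),
 (nat_lit 2212, nat_lit 0x21, nat_lit 0),
 (nat_lit 969, nat_lit 0x215a5c0, nat_lit 33),
 (nat_lit 2921, nat_lit 0x20, nat_lit 0),
 (nat_lit 1114, nat_lit 0x21, nat_lit 0),
 (nat_lit 990, nat_lit 0xac04, nat_lit 33),
 (nat_lit 1063, nat_lit 0x20, nat_lit 0),
 (nat_lit 2021, nat_lit 0x21, nat_lit 0),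
 (nat_lit 1069, nat_lit 0xac28, nat_lit 33),
 (nat_lit 2534, nat_lit 0x21, nat_lit 0),
 (nat_lit 1295, nat_lit 0x20, nat_lit 0),
 (nat_lit 1141, nat_lit 0x8568, nat_lit 33),
 (nat_lit 2326, nat_lit 0x21, nat_lit 0),
 (nat_lit 1205, nat_lit 0x20, nat_lit 0),
 (nat_lit 2325, nat_lit 0xadc0, nat_lit 33),
 (nat_lit 2533, nat_lit 0x56e, nat_lit 33)]

noncomputable def cs5 : Stp := ⟨56, [1, 9, 11], (.diff (.diff (.diff (.diff (.diff (.diff (.diff (.diff .all (.pt 0)) (.img [0, 3, 4] (.pt 69))) (.img [0, 3] (.pt 69))) (.pt 119)) (.pt 335)) (.img [4] (.pt 119))) (.pt 1059)) (.img [1] (.pt 1059))), [([0], cA0)], [[12], [9, 10, 11, 8, 7, 9, 8, 10, 9, 12, 9, 10, 8, 9, 7, 8, 11, 10, 9]], 0, 0, 0⟩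

noncomputable def cB6 : List (ℕ × List ℕ) := [(0, []), (1059, [11]), (69, [8, 10, 5, 2, 10]), (335, [6, 11, 9, 1]), (119, [13, 6, 1, 13]), (56, [1, 9, 11])]

noncomputable def cs6L0 : List (ℕ × ℕ × ℕ) := [(nat_lit 7, nat_lit 0x2a00cea, nat_lit 38),
 (nat_lit 11, nat_lit 0x15008a, nat_lit 34),
 (nat_lit 630, nat_lit 0x20, nat_lit 0),
 (nat_lit 12, nat_lit 0x10a5ae, nat_lit 34),
 (nat_lit 13, nat_lit 0x152162, nat_lit 34),
 (nat_lit 524, nat_lit 0x20, nat_lit 0),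
 (nat_lit 16, nat_lit 0x170907, nat_lit 34),
 (nat_lit 180, nat_lit 0x20, nat_lit 0),
 (nat_lit 20, nat_lit 0xa92b, nat_lit 34),
 (nat_lit 459, nat_lit 0x20, nat_lit 0),
 (nat_lit 50, nat_lit 0x108146, nat_lit 34),
 (nat_lit 75, nat_lit 0x20, nat_lit 0),
 (nat_lit 61, nat_lit 0x15088b, nat_lit 34),
 (nat_lit 608, nat_lit 0x20, nat_lit 0),
 (nat_lit 70, nat_lit 0x2e, nat_lit 34),
 (nat_lit 234, nat_lit 0x20, nat_lit 0),
 (nat_lit 213, nat_lit 0x10a562, nat_lit 35),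
 (nat_lit 388, nat_lit 0x20, nat_lit 0),
 (nat_lit 227, nat_lit 0x2110d61, nat_lit 38),
 (nat_lit 458, nat_lit 0x15a42e, nat_lit 34),
 (nat_lit 602, nat_lit 0x2b22189, nat_lit 38),
 (nat_lit 712, nat_lit 0xa809, nat_lit 33),
 (nat_lit 1518, nat_lit 0x20, nat_lit 0),
 (nat_lit 718, nat_lit 0x549, nat_lit 33),
 (nat_lit 1402, nat_lit 0x20, nat_lit 0),
 (nat_lit 750, nat_lit 0xa9ac, nat_lit 33),
 (nat_lit 2149, nat_lit 0x20, nat_lit 0),
 (nat_lit 768, nat_lit 0xa844, nat_lit 33),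
 (nat_lit 1958, nat_lit 0x20, nat_lit 0),
 (nat_lit 860, nat_lit 0xaca7, nat_lit 33),
 (nat_lit 1769, nat_lit 0x20, nat_lit 0),
 (nat_lit 898, nat_lit 0x1580a7, nat_lit 33),
 (nat_lit 1621, nat_lit 0x20, nat_lit 0),
 (nat_lit 919, nat_lit 0x10ad2e, nat_lit 33),
 (nat_lit 940, nat_lit 0x564, nat_lit 33),
 (nat_lit 2212, nat_lit 0x20, nat_lit 0),
 (nat_lit 969, nat_lit 0x215a5c0, nat_lit 33),
 (nat_lit 990, nat_lit 0xac04, nat_lit 33),
 (nat_lit 2021, nat_lit 0x20, nat_lit 0),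
 (nat_lit 1042, nat_lit 0x150909, nat_lit 33),
 (nat_lit 2738, nat_lit 0x20, nat_lit 0),
 (nat_lit 1059, nat_lit 0x2b, nat_lit 33),
 (nat_lit 1063, nat_lit 0x8569, nat_lit 33),
 (nat_lit 1069, nat_lit 0xac28, nat_lit 33),
 (nat_lit 2534, nat_lit 0x20, nat_lit 0),
 (nat_lit 1114, nat_lit 0x15890a, nat_lit 33),
 (nat_lit 2921, nat_lit 0x20, nat_lit 0),
 (nat_lit 1131, nat_lit 0x560, nat_lit 33),
 (nat_lit 1135, nat_lit 0xac29, nat_lit 33),
 (nat_lit 1141, nat_lit 0x8568, nat_lit 33),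
 (nat_lit 2326, nat_lit 0x20, nat_lit 0),
 (nat_lit 1205, nat_lit 0x10b062, nat_lit 33),
 (nat_lit 1231, nat_lit 0x158488, nat_lit 33),
 (nat_lit 1295, nat_lit 0x15004e, nat_lit 33),
 (nat_lit 1321, nat_lit 0x10ac88, nat_lit 33),
 (nat_lit 1372, nat_lit 0x10a5ab, nat_lit 33),
 (nat_lit 1488, nat_lit 0x214b560, nat_lit 33),
 (nat_lit 2325, nat_lit 0xadc0, nat_lit 33),
 (nat_lit 2533, nat_lit 0x56e, nat_lit 33)]

noncomputable def cs6 : Stp := ⟨91, [4, 1, 9, 11], (.diff (.diff (.diff (.diff (.diff (.diff (.diff (.diff (.diff (.diff (.diff (.diff .all (.pt 0)) (.img [0, 3, 4] (.pt 69))) (.pt 56)) (.img [6] (.pt 119))) (.img [0, 3] (.pt 69))) (.pt 119)) (.pt 335)) (.img [6, 4] (.pt 119))) (.img [0, 3, 6] (.pt 69))) (.img [4] (.pt 119))) (.img [6, 2] (.pt 119))) (.img [6, 2, 1] (.pt 119))), [([0], cA0)], [[9, 10, 11, 8, 7, 9, 8, 10, 9, 12, 9, 10, 8, 9, 7, 8, 11, 10, 9]], 0, 0, 0⟩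

noncomputable def cB7 : List (ℕ × List ℕ) := [(0, []), (1059, [11]), (69, [8, 10, 5, 2, 10]), (335, [6, 11, 9, 1]), (119, [13, 6, 1, 13]), (56, [1, 9, 11]), (91, [4, 1, 9, 11])]

theorem cle : eqB A22.ev A22.bs (cm.flatMap fun m => cX.map fun x => (x ++ m, m ++ x)) = true := by decide +kernel

theorem cs0h : headOk 3510 694 A22.nets A22.ev [0] cX cm [] cs0 [cs0L0] = true := by decide +kernel

theorem cs0i0 : itemsOk 3510 694 A22.ev [0] cX cm [] cs0 cs0L0 (p2 cs0.b) = true := by decide +kernel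

theorem cs1h : headOk 3510 694 A22.nets A22.ev [0] cX cm cB1 cs1 [cs1L0] = true := by decide +kernel

theorem cs1i0 : itemsOk 3510 694 A22.ev [0] cX cm cB1 cs1 cs1L0 (p2 cs1.b) = true := by decide +kernel

theorem cs2h : headOk 3510 694 A22.nets A22.ev [0] cX cm cB2 cs2 [cs2L0] = true := by decide +kernel

theorem cs2i0 : itemsOk 3510 694 A22.ev [0] cX cm cB2 cs2 cs2L0 (p2 cs2.b) = true := by decide +kernel

theorem cs3h : headOk 3510 694 A22.nets A22.ev [0] cX cm cB3 cs3 [cs3L0] = true := by decide +kernel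

theorem cs3i0 : itemsOk 3510 694 A22.ev [0] cX cm cB3 cs3 cs3L0 (p2 cs3.b) = true := by decide +kernel

theorem cs4h : headOk 3510 694 A22.nets A22.ev [0] cX cm cB4 cs4 [cs4L0] = true := by decide +kernel

theorem cs4i0 : itemsOk 3510 694 A22.ev [0] cX cm cB4 cs4 cs4L0 (p2 cs4.b) = true := by decide +kernel

theorem cs5h : headOk 3510 694 A22.nets A22.ev [0] cX cm cB5 cs5 [cs5L0] = true := by decide +kernel

theorem cs5i0 : itemsOk 3510 694 A22.ev [0] cX cm cB5 cs5 cs5L0 (p2 cs5.b) = true := by decide +kernel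

theorem cs6h : headOk 3510 694 A22.nets A22.ev [0] cX cm cB6 cs6 [cs6L0] = true := by decide +kernel

theorem cs6i0 : itemsOk 3510 694 A22.ev [0] cX cm cB6 cs6 cs6L0 (p2 cs6.b) = true := by decide +kernel

theorem cfin : finOk A22.ev [0] cX cB7 A22.bs [(0, []), (69, [0, 1, 2, 7, 6, 3, 5, 4, 6, 2, 7, 6]), (69, [2, 1, 6, 2, 7, 6]), (69, [3, 0, 4, 3, 5, 4, 6, 5, 7, 6]), (91, [6]), (69, [4, 3, 6, 2, 1, 5, 4, 6, 2, 5, 6]), (69, [3, 4, 5, 6, 3, 0, 6, 5, 7, 6]), (69, [3, 4, 5, 7, 6, 2, 1, 3, 4, 6, 2, 5, 6]), (69, [5, 4, 3, 6, 2, 1, 5, 6, 2, 7, 6, 5, 4])] = true := by decide +kernel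

theorem cok : CenOk 3510 694 A22.nets A22.ev [0] A22.bs cX cm [] :=
  .step cs0 [cs0L0] cs0h (List.forall_mem_cons.2 ⟨cs0i0, fun _ h => absurd h List.not_mem_nil⟩)
    (.step cs1 [cs1L0] cs1h (List.forall_mem_cons.2 ⟨cs1i0, fun _ h => absurd h List.not_mem_nil⟩)
    (.step cs2 [cs2L0] cs2h (List.forall_mem_cons.2 ⟨cs2i0, fun _ h => absurd h List.not_mem_nil⟩)
    (.step cs3 [cs3L0] cs3h (List.forall_mem_cons.2 ⟨cs3i0, fun _ h => absurd h List.not_mem_nil⟩)
    (.step cs4 [cs4L0] cs4h (List.forall_mem_cons.2 ⟨cs4i0, fun _ h => absurd h List.not_mem_nil⟩)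
    (.step cs5 [cs5L0] cs5h (List.forall_mem_cons.2 ⟨cs5i0, fun _ h => absurd h List.not_mem_nil⟩)
    (.step cs6 [cs6L0] cs6h (List.forall_mem_cons.2 ⟨cs6i0, fun _ h => absurd h List.not_mem_nil⟩)
    (.fin _ cfin)))))))

theorem ceq {G : Type*} [Group G] {D : Set G} {gen : ℕ → G} (M : A22.Is D gen) : cenW gen cX = clW gen cm :=
  M.cen (M.le_cen cle) cok

theorem ut0 : tblOk M22.ev hs 108 uev (get (nat_lit 12) uR) 0 = true := by decide +kernel

theorem ut1 : tblOk M22.ev hs 108 uev (get (nat_lit 12) uR) 1 = true := by decide +kernel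

theorem ut2 : tblOk M22.ev hs 108 uev (get (nat_lit 12) uR) 2 = true := by decide +kernel

theorem ut3 : tblOk M22.ev hs 108 uev (get (nat_lit 12) uR) 3 = true := by decide +kernel

theorem ut4 : tblOk M22.ev hs 108 uev (get (nat_lit 12) uR) 4 = true := by decide +kernel

theorem ut5 : tblOk M22.ev hs 108 uev (get (nat_lit 12) uR) 5 = true := by decide +kernel

theorem usm {G : Type*} [Group G] {D : Set G} {gen e : ℕ → G} (E : Mt 3510 694 M22.ev [0] M22.bs D gen e) :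
    Sm 108 uev ubs (genW gen hs) fun j => tc (e (get (nat_lit 12) uR j)) :=
  (E.reb [(2234, [13, 7, 1, 12, 11]), (892, [4, 2, 0, 11]), (1958, [2, 9, 3, 12, 1]), (338, [9, 3, 12, 4, 10]), (2215, [1, 10, 5, 13]), (639, [7, 8, 13, 9, 1])]
    [(338, [1, 2, 5, 1, 4, 2, 5, 1, 4]), (639, [3, 1, 4, 5, 4, 2, 0, 3, 1, 2]), (338, [0, 4, 5, 1, 4]), (639, [1, 4, 2, 5, 1, 2, 0, 4, 3, 2, 1]), (639, [1, 5, 2, 0, 3, 1, 4, 3, 5, 1, 4, 2]), (639, [5, 2, 1, 4, 3, 0, 2, 1, 4]), (338, [1, 2, 5, 4, 3, 2, 0, 5, 1]), (338, [1, 4, 2, 4, 0, 5, 2, 1, 5, 4]), (639, [0, 3, 4, 5, 2, 1, 4, 3, 0, 2, 1])] (by decide +kernel) (by decide +kernel)).sub (by decide +kernel) (by decide +kernel)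
    (fun k (hk : k < 6) => by
      interval_cases k
      exacts [ut0, ut1, ut2, ut3, ut4, ut5]) (by decide +kernel) (by decide)

theorem uch : chG uev 108 5 22 6 ulv [] = 51840 := by decide +kernel

theorem ech : chG (evG M22.ev es) 3510 9 390 6 elv [] = 64 := by decide +kernel

theorem epc : allLt (pcOk (evG M22.ev es) M22.bs (fun _ => 2) 6 false ers) 6 = true := by decide +kernel

theorem nm : allLt (fun l => nmW M22.ev M22.bs es 6 0 (nthW hs l) (nthW nmL l)) 6 = true := by decide +kernel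

theorem wch : chG I22.sev 360 6 60 7 wlv [] = 2903040 := by decide +kernel

theorem rl : relB uev ubs O6.rels = true := by decide +kernel

end H13.Y22
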